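import Cfsg.Agent.Lib.Chev.PMin.Outcome
import Mathlib.GroupTheory.SpecificGroups.Alternating

/-!
`A₆` in characteristic two: two maximal subgroups over a Sylow 2-subgroup.
-/

set_option autoImplicit false
set_option maxRecDepth 100000
set_option synthInstance.maxSize 600

namespace CfsgLib.Chev.PMin.AltSix

open Equiv

/-- Stabilizing the pair `{4, 5}`. -/
def fixPair (σ : Perm (Fin 6)) : Prop := ∀ a, decide (4 ≤ (σ a).val) = decide (4 ≤ a.val)

/-- Stabilizing the partition `01|23|45`. -/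
def fixPart (σ : Perm (Fin 6)) : Prop :=
  ∀ a b, decide ((σ a).val / 2 = (σ b).val / 2) = decide (a.val / 2 = b.val / 2)

instance : DecidablePred fixPair := fun σ => inferInstanceAs (Decidable (∀ _, _))
instance : DecidablePred fixPart := fun σ => inferInstanceAs (Decidable (∀ _, _))

local notation "A6" => alternatingGroup (Fin 6)

/-- The first maximal subgroup. -/
def pairGroup : Subgroup A6 where
  carrier := {g | fixPair g}
  one_mem' := fun _ => rfl
  mul_mem' := fun {g h} hg hh a => (hg _).trans (hh a)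
  inv_mem' := fun {g} hg a => ((hg _).symm).trans (by simp)

/-- The second maximal subgroup. -/
def partGroup : Subgroup A6 where
  carrier := {g | fixPart g}
  one_mem' := fun _ _ => rfl
  mul_mem' := fun {g h} hg hh a b => (hg _ _).trans (hh a b)
  inv_mem' := fun {g} hg a b => ((hg _ _).symm).trans (by simp)

theorem counts :
    (Finset.univ.filter fun σ : Perm (Fin 6) => Perm.sign σ = 1 ∧ fixPair σ).card = 24 ∧
    (Finset.univ.filter fun σ : Perm (Fin 6) => Perm.sign σ = 1 ∧ fixPart σ).card = 24 ∧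
    (Finset.univ.filter fun σ : Perm (Fin 6) => Perm.sign σ = 1 ∧ fixPair σ ∧ fixPart σ).card = 8 := by
  decide +kernel

theorem three_out : ∀ x : Perm (Fin 6), Perm.sign x = 1 → x ^ 3 = 1 → x ≠ 1 → ¬ fixPair x →
    ¬ fixPart x → ∃ u : Perm (Fin 6), Perm.sign u = 1 ∧ fixPair u ∧ fixPart u ∧
      (x * u) ^ 5 = 1 ∧ x * u ≠ 1 := by
  decide +kernel

theorem five_three : ∀ y : Perm (Fin 6), Perm.sign y = 1 → y ^ 5 = 1 → y ≠ 1 →
    ∃ u : Perm (Fin 6), Perm.sign u = 1 ∧ fixPair u ∧ fixPart u ∧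
      (((y * u) ^ 3 = 1 ∧ y * u ≠ 1) ∨ ((y * y * u) ^ 3 = 1 ∧ y * y * u ≠ 1)) := by
  decide +kernel

theorem card_eq_filter (H : Subgroup A6) (P : Perm (Fin 6) → Prop) [DecidablePred P]
    (h : ∀ g : A6, g ∈ H ↔ P g) :
    Nat.card H = (Finset.univ.filter fun σ : Perm (Fin 6) => Perm.sign σ = 1 ∧ P σ).card := by
  rw [← Fintype.card_subtype, ← Nat.card_eq_fintype_card]
  refine Nat.card_congr
    { toFun := fun g => ⟨g.1.1, Perm.mem_alternatingGroup.1 g.1.2, (h g.1).1 g.2⟩
      invFun := fun σ => ⟨⟨σ.1, Perm.mem_alternatingGroup.2 σ.2.1⟩, (h _).2 σ.2.2⟩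
      left_inv := fun g => rfl
      right_inv := fun σ => rfl }

theorem prime_dvd_of_mem {H : Subgroup A6} {g : A6} {r : ℕ} [hr : Fact r.Prime] (hg : g ∈ H)
    (h : g.1 ^ r = 1) (hne : g.1 ≠ 1) : r ∣ Nat.card H := by
  have h1 : orderOf (⟨g, hg⟩ : H) = r :=
    orderOf_eq_prime (Subtype.ext (Subtype.ext h)) fun e => hne (congrArg (fun z : H => z.1.1) e)
  exact h1 ▸ orderOf_dvd_natCard _

theorem lat : HasLat 2 A6 2 := by
  haveI : Fact (Nat.Prime 2) := ⟨Nat.prime_two⟩
  haveI : Fact (Nat.Prime 3) := ⟨Nat.prime_three⟩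
  haveI : Fact (Nat.Prime 5) := ⟨Nat.prime_five⟩
  haveI : IsSimpleGroup A6 := alternatingGroup.isSimpleGroup (by simp)
  have hG : Nat.card A6 = 360 := by rw [nat_card_alternatingGroup, Nat.card_fin]; rfl
  set U : Subgroup A6 := pairGroup ⊓ partGroup with hUdef
  obtain ⟨c1, c2, c3⟩ := counts
  have hU8 : Nat.card U = 8 :=
    (card_eq_filter U (fun σ => fixPair σ ∧ fixPart σ) fun _ => Iff.rfl).trans c3
  have hC1 : Nat.card pairGroup = 24 := (card_eq_filter _ fixPair fun _ => Iff.rfl).trans c1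
  have hC2 : Nat.card partGroup = 24 := (card_eq_filter _ fixPart fun _ => Iff.rfl).trans c2
  have hUp : IsPGroup 2 U := IsPGroup.of_card (n := 3) (by rw [hU8]; norm_num)
  have hUi : U.index = 45 := by
    have := U.card_mul_index
    rw [hU8, hG] at this
    omega
  have hU0 : U ≠ ⊥ := fun h => by rw [h, Subgroup.card_bot] at hU8; omega
  have hne : ∀ {H : Subgroup A6}, Nat.card H = 24 → H ≠ ⊤ := fun h e => by
    rw [e, Subgroup.card_top, hG] at h; omega
  refine ⟨hUp.toSylow (by rw [hUi]; norm_num), hU0, ![pairGroup, partGroup], ?_⟩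
  show Lat U _
  refine ⟨fun i => ?_, fun i => ?_, fun Q hQ hQ1 => ?_, fun i => ?_, fun x hx => ?_, by norm_num⟩
  · fin_cases i
    · exact inf_le_left
    · exact inf_le_right
  · fin_cases i
    · exact hne hC1
    · exact hne hC2
  · -- the index of a proper subgroup is at least six
    have h6 : 6 ≤ Q.index := by
      by_contra! hlt
      let φ := MulAction.toPermHom A6 (A6 ⧸ Q)
      rcases (MonoidHom.normal_ker φ).eq_bot_or_eq_top with hk | hk
      · have hd := Subgroup.card_dvd_of_injective φ ((MonoidHom.ker_eq_bot_iff φ).1 hk)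
        rw [Nat.card_perm, hG, ← Subgroup.index_eq_card] at hd
        have h0 : Q.index ≠ 0 := Subgroup.index_ne_zero_of_finite
        interval_cases Q.index <;> simp_all [Nat.factorial]
      · have hk' : Q.normalCore = ⊤ := by rw [Subgroup.normalCore_eq_ker]; exact hk
        exact hQ1 (top_le_iff.1 (hk' ▸ Subgroup.normalCore_le Q))
    have h8 : 8 ∣ Nat.card Q := hU8 ▸ Subgroup.card_dvd_of_le hQ
    obtain ⟨k, hk⟩ := h8
    have hm := Q.card_mul_index
    rw [hk, hG, mul_assoc] at hm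
    have hm' : k * Q.index = 45 := by omega
    have hk7 : k ≤ 7 := by
      by_contra! h
      have := Nat.mul_le_mul (show 8 ≤ k by omega) h6
      omega
    -- not divisible by fifteen
    have hno : ¬ (3 ∣ Nat.card Q ∧ 5 ∣ Nat.card Q) := by
      rintro ⟨h3, h5⟩
      rw [hk] at h3 h5
      obtain ⟨j, rfl⟩ : 15 ∣ k := Nat.Coprime.dvd_of_dvd_mul_left (by norm_num)
        (Nat.Coprime.mul_dvd_of_dvd_of_dvd (show Nat.Coprime 3 5 by norm_num) h3 h5)
      rcases Nat.eq_zero_or_pos j with rfl | hj <;> omega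
    have hk135 : k = 1 ∨ k = 3 ∨ k = 5 := by
      have := Dvd.intro _ hm'
      interval_cases k <;> omega
    rcases hk135 with rfl | rfl | rfl
    · refine ⟨0, ?_⟩
      rw [← Subgroup.eq_of_le_of_card_ge hQ (by rw [hk, hU8])]
      exact inf_le_left
    · obtain ⟨x, hx⟩ := exists_prime_orderOf_dvd_card' (G := Q) 3 (by rw [hk]; norm_num)
      have hx3 : x.1.1 ^ 3 = 1 := by
        have := congrArg (fun z : Q => z.1.1) (hx ▸ pow_orderOf_eq_one x)
        simpa using this
      have hx1 : x.1.1 ≠ 1 := fun e => by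
        rw [show x = 1 from Subtype.ext (Subtype.ext e), orderOf_one] at hx; omega
      have hin : ∀ H : Subgroup A6, Nat.card H = 24 → U ≤ H → x.1 ∈ H → Q ≤ H := fun H hH hUH hxH => by
        have h8' : 8 ∣ Nat.card ↥(Q ⊓ H) := hU8 ▸ Subgroup.card_dvd_of_le (le_inf hQ hUH)
        have h3' : 3 ∣ Nat.card ↥(Q ⊓ H) := prime_dvd_of_mem ⟨x.2, hxH⟩ hx3 hx1
        have h24 := Nat.le_of_dvd Nat.card_pos
          (Nat.Coprime.mul_dvd_of_dvd_of_dvd (show Nat.Coprime 8 3 by norm_num) h8' h3')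
        exact inf_eq_left.1 (Subgroup.eq_of_le_of_card_ge inf_le_left (by rw [hk]; omega))
      by_cases h1 : x.1 ∈ pairGroup
      · exact ⟨0, hin _ hC1 inf_le_left h1⟩
      by_cases h2 : x.1 ∈ partGroup
      · exact ⟨1, hin _ hC2 inf_le_right h2⟩
      obtain ⟨u, hu, hu1, hu2, h5, h5'⟩ :=
        three_out x.1.1 (Perm.mem_alternatingGroup.1 x.1.2) hx3 hx1 h1 h2
      exact absurd ⟨prime_dvd_of_mem x.2 hx3 hx1, prime_dvd_of_mem
        (Q.mul_mem x.2 (hQ (show (⟨u, Perm.mem_alternatingGroup.2 hu⟩ : A6) ∈ U from ⟨hu1, hu2⟩))) h5 h5'⟩ hno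
    · obtain ⟨y, hy⟩ := exists_prime_orderOf_dvd_card' (G := Q) 5 (by rw [hk]; norm_num)
      have hy5 : y.1.1 ^ 5 = 1 := by
        have := congrArg (fun z : Q => z.1.1) (hy ▸ pow_orderOf_eq_one y)
        simpa using this
      have hy1 : y.1.1 ≠ 1 := fun e => by
        rw [show y = 1 from Subtype.ext (Subtype.ext e), orderOf_one] at hy; omega
      obtain ⟨u, hu, hu1, hu2, h3⟩ :=
        five_three y.1.1 (Perm.mem_alternatingGroup.1 y.1.2) hy5 hy1
      have huQ : (⟨u, Perm.mem_alternatingGroup.2 hu⟩ : A6) ∈ Q := hQ ⟨hu1, hu2⟩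
      refine absurd ⟨?_, prime_dvd_of_mem y.2 hy5 hy1⟩ hno
      rcases h3 with ⟨h, h'⟩ | ⟨h, h'⟩
      · exact prime_dvd_of_mem (Q.mul_mem y.2 huQ) h h'
      · exact prime_dvd_of_mem (Q.mul_mem (Q.mul_mem y.2 y.2) huQ) h h'
  · fin_cases i
    · refine ⟨⟨swap 2 4 * swap 3 5, Perm.mem_alternatingGroup.2 (by decide +kernel)⟩, ?_, fun j hj => ?_⟩
      · show ¬ fixPair (swap 2 4 * swap 3 5)
        decide +kernel
      · fin_cases j
        · exact absurd rfl hj
        · show fixPart (swap 2 4 * swap 3 5)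
          decide +kernel
    · refine ⟨⟨swap 1 2 * swap 4 5, Perm.mem_alternatingGroup.2 (by decide +kernel)⟩, ?_, fun j hj => ?_⟩
      · show ¬ fixPart (swap 1 2 * swap 4 5)
        decide +kernel
      · fin_cases j
        · show fixPair (swap 1 2 * swap 4 5)
          decide +kernel
        · exact absurd rfl hj
  · exact Subgroup.le_normalizer ⟨hx 0, hx 1⟩

end CfsgLib.Chev.PMin.AltSix
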