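import Cfsg.Agent.Lib.Chev.PMin.BNLat
import Cfsg.Agent.Lib.Chev.RigidChev
import Cfsg.Agent.Lib.Chev.RigidSuzuki
import Cfsg.Agent.Lib.Chev.RigidCount

/-!
The exceptional and twisted groups: exclusion through the rank, the valencies of the diagram or the
sizes of the two maximal parabolic subgroups.
-/

set_option autoImplicit false
set_option linter.unusedSectionVars false
set_option maxRecDepth 100000

namespace CfsgLib.Chev.PMin.BNFam

open Cfsg.Lie CfsgLib.Chev.Rigid CfsgLib.Chev.BN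

section Chev

variable {D : ChevalleyDatum} {F : Type*} [Field F] [Fintype F] (g : Good D) (p : ℕ) [Fact p.Prime]
  [CharP F p]
include g

/-- The representative of a fundamental reflection. -/
noncomputable def sI (i : Fin D.rank) : ↥(D.group F) := ⟨g.nI i, g.monomial_le_group (g.nI_mem i)⟩

omit [Fintype F] in
theorem sI_mem (hc : HasComm D) (i : Fin D.rank) : sI g i ∈ (g.bnPair (F := F) hc).S := g.mem_bnS.2 ⟨i, rfl⟩

omit [Fintype F] in
theorem sI_inj : Function.Injective (sI (F := F) g) := fun i j h => by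
  have e : g.nI (F := F) i = g.nI j := congrArg Subtype.val h
  have h1 := g.acts_unique (g.acts_nI i) (show g.Acts (g.nI (F := F) i) (g.rperm j) by
    rw [e]; exact g.acts_nI j)
  exact g.exchangeData.inj (Subtype.ext h1)

omit [Fintype F] in
theorem card_S (hc : HasComm D) : Nat.card ↥(g.bnPair (F := F) hc).S = D.rank := by
  rw [show (g.bnPair (F := F) hc).S = Set.range (sI g) from Set.ext fun x => g.mem_bnS.trans
    ⟨fun ⟨i, hi⟩ => ⟨i, Subtype.ext hi.symm⟩, fun ⟨i, hi⟩ => ⟨i, hi ▸ rfl⟩⟩,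
    Nat.card_range_of_injective (sI_inj g), Nat.card_fin]

omit [Fintype F] in
theorem comm_iff (hc : HasComm D) (i j : Fin D.rank) :
    sI g i * sI g j * (sI g i)⁻¹ * (sI g j)⁻¹ ∈ (g.bnPair (F := F) hc).B ↔
      g.rperm i * g.rperm j = g.rperm j * g.rperm i := by
  have hn : g.nI (F := F) i * g.nI j * (g.nI i)⁻¹ * (g.nI j)⁻¹ ∈ D.monomialSubgroup F :=
    mul_mem (mul_mem (mul_mem (g.nI_mem i) (g.nI_mem j)) (inv_mem (g.nI_mem i))) (inv_mem (g.nI_mem j))
  have ha := g.acts_mul (g.acts_mul (g.acts_mul (g.acts_nI (F := F) i) (g.acts_nI j))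
    (g.acts_inv (g.acts_nI i))) (g.acts_inv (g.acts_nI j))
  show g.nI (F := F) i * g.nI j * (g.nI i)⁻¹ * (g.nI j)⁻¹ ∈ D.borelSubgroup F ↔ _
  constructor
  · intro h
    have h1 := Subgroup.mem_inf.2 ⟨h, hn⟩
    rw [g.borel_inf_monomial] at h1
    have h2 := g.acts_unique ha (g.acts_diagonal h1)
    rwa [mul_inv_eq_one, mul_inv_eq_iff_eq_mul] at h2
  · intro h
    have h1 := g.monomial_same_acts hn (one_mem _) ha (by
      rw [mul_inv_eq_one.2 (mul_inv_eq_iff_eq_mul.2 h)]; exact g.acts_one)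
    rw [inv_one, mul_one] at h1
    exact Subgroup.mem_sup_right h1

theorem chev_lat (hc : HasComm D) (hrank : 0 < D.rank) [IsSimpleGroup ↥(D.group F)] :
    HasLat p ↥(D.group F) D.rank := by
  obtain ⟨S, hP, -⟩ := exists_chevSplit (F := F) g p hc hrank
  have h := BNLat.res S
  rwa [hP, card_S g hc] at h

theorem chev_excluded_rank (hc : HasComm D) (hrank : 0 < D.rank) [IsSimpleGroup ↥(D.group F)]
    (h : ∀ e, D.rank ≠ p ^ e) : Excluded p ↥(D.group F) := by
  obtain ⟨S, hP, -⟩ := exists_chevSplit (F := F) g p hc hrank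
  exact BNLat.excluded_of_rank S fun e he => h e (by rw [← card_S (F := F) g hc, ← hP, he])

theorem chev_excluded_valency (hc : HasComm D) (hrank : 0 < D.rank) [IsSimpleGroup ↥(D.group F)]
    {e c a b : Fin D.rank} (hab : a ≠ b) (hca : g.rperm c * g.rperm a ≠ g.rperm a * g.rperm c)
    (hcb : g.rperm c * g.rperm b ≠ g.rperm b * g.rperm c)
    (hend : ∀ t t' : Fin D.rank, g.rperm e * g.rperm t ≠ g.rperm t * g.rperm e →
      g.rperm e * g.rperm t' ≠ g.rperm t' * g.rperm e → t = t') : Excluded p ↥(D.group F) := by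
  obtain ⟨S, hP, -⟩ := exists_chevSplit (F := F) g p hc hrank
  have hmem : ∀ i, sI g i ∈ S.P.S := fun i => hP ▸ sI_mem g hc i
  have hcomm : ∀ i j, BNLat.Comm S (sI g i) (sI g j) ↔ g.rperm i * g.rperm j = g.rperm j * g.rperm i :=
    fun i j => by rw [BNLat.Comm, hP]; exact comm_iff g hc i j
  refine BNLat.excluded_of_valency S (hmem e) (hmem c) (hmem a) (hmem b) (fun h => hab (sI_inj g h))
    (fun h => hca ((hcomm c a).1 h)) (fun h => hcb ((hcomm c b).1 h)) fun t ht t' ht' hn hn' => ?_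
  rw [hP] at ht ht'
  obtain ⟨i, hi⟩ := g.mem_bnS.1 ht
  obtain ⟨j, hj⟩ := g.mem_bnS.1 ht'
  obtain rfl : t = sI g i := Subtype.ext hi
  obtain rfl : t' = sI g j := Subtype.ext hj
  rw [hend i j (fun h => hn ((hcomm e i).2 h)) fun h => hn' ((hcomm e j).2 h)]

end Chev

section Twisted

variable {D : ChevalleyDatum} {F : Type*} [Field F] [Fintype F] {g : Good D} {T : Twist g F}
  (S : TwistSys T) (p : ℕ) [Fact p.Prime] [CharP F p]
include S

/-- The representative of an orbit. -/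
def nO (o : Fin S.r) : ↥S.G1 := ⟨S.n o, S.n_mem o⟩

omit [Fintype F] in
theorem nO_inj : Function.Injective (nO S) := fun o o' h => S.w_inj <|
  g.acts_unique (S.n_acts o) (by
    have e : S.n o = S.n o' := congrArg Subtype.val h
    rw [e]; exact S.n_acts o')

omit [Fintype F] in
theorem card_tw_S (hc : HasComm D) (hnt : ∀ o, T.fixedMinus (S.w o) ≠ ⊥) :
    Nat.card ↥(S.bnPair hc hnt).S = S.r :=
  (Nat.card_range_of_injective (nO_inj S)).trans (Nat.card_fin _)

omit [Fintype F] in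
theorem tw_comm_iff (hc : HasComm D) (hnt : ∀ o, T.fixedMinus (S.w o) ≠ ⊥) (o o' : Fin S.r) :
    nO S o * nO S o' * (nO S o)⁻¹ * (nO S o')⁻¹ ∈ (S.bnPair hc hnt).B ↔
      S.w o * S.w o' = S.w o' * S.w o := by
  have hn : S.n o * S.n o' * (S.n o)⁻¹ * (S.n o')⁻¹ ∈ D.monomialSubgroup F :=
    mul_mem (mul_mem (mul_mem (S.n_monomial o) (S.n_monomial o')) (inv_mem (S.n_monomial o)))
      (inv_mem (S.n_monomial o'))
  have ha := g.acts_mul (g.acts_mul (g.acts_mul (S.n_acts o) (S.n_acts o'))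
    (g.acts_inv (S.n_acts o))) (g.acts_inv (S.n_acts o'))
  constructor
  · intro h
    have h1 := Subgroup.mem_inf.2 ⟨(Subgroup.mem_inf.1 (Subgroup.mem_subgroupOf.1 h)).1, hn⟩
    rw [g.borel_inf_monomial] at h1
    have h2 := g.acts_unique ha (g.acts_diagonal h1)
    rwa [mul_inv_eq_one, mul_inv_eq_iff_eq_mul] at h2
  · intro h
    have h1 := g.monomial_same_acts hn (one_mem _) ha (by
      rw [mul_inv_eq_one.2 (mul_inv_eq_iff_eq_mul.2 h)]; exact g.acts_one)
    rw [inv_one, mul_one] at h1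
    exact Subgroup.mem_subgroupOf.2 (Subgroup.mem_inf.2 ⟨Subgroup.mem_sup_right h1,
      (nO S o * nO S o' * (nO S o)⁻¹ * (nO S o')⁻¹).2⟩)

theorem tw_lat (hc : HasComm D) (hnt : ∀ o, T.fixedMinus (S.w o) ≠ ⊥) (hrank : 0 < D.rank)
    [IsSimpleGroup ↥S.G1] : HasLat p ↥S.G1 S.r := by
  obtain ⟨X, hP, -⟩ := exists_twSplit S p hc hnt hrank
  have h := BNLat.res X
  rwa [hP, card_tw_S S hc hnt] at h

theorem tw_excluded_valency (hc : HasComm D) (hnt : ∀ o, T.fixedMinus (S.w o) ≠ ⊥) (hrank : 0 < D.rank)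
    [IsSimpleGroup ↥S.G1] {e c a b : Fin S.r} (hab : a ≠ b) (hca : S.w c * S.w a ≠ S.w a * S.w c)
    (hcb : S.w c * S.w b ≠ S.w b * S.w c)
    (hend : ∀ t t' : Fin S.r, S.w e * S.w t ≠ S.w t * S.w e → S.w e * S.w t' ≠ S.w t' * S.w e → t = t') :
    Excluded p ↥S.G1 := by
  obtain ⟨X, hP, -⟩ := exists_twSplit S p hc hnt hrank
  have hmem : ∀ o, nO S o ∈ X.P.S := fun o => hP ▸ ⟨o, rfl⟩
  have hcomm : ∀ i j, BNLat.Comm X (nO S i) (nO S j) ↔ S.w i * S.w j = S.w j * S.w i :=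
    fun i j => by rw [BNLat.Comm, hP]; exact tw_comm_iff S hc hnt i j
  refine BNLat.excluded_of_valency X (hmem e) (hmem c) (hmem a) (hmem b) (fun h => hab (nO_inj S h))
    (fun h => hca ((hcomm c a).1 h)) (fun h => hcb ((hcomm c b).1 h)) fun t ht t' ht' hn hn' => ?_
  rw [hP] at ht ht'
  obtain ⟨i, rfl⟩ := ht
  obtain ⟨j, rfl⟩ := ht'
  exact congrArg (nO S) (hend i j (fun h => hn ((hcomm e i).2 h)) fun h => hn' ((hcomm e j).2 h))

/-- The order of a minimal parabolic subgroup. -/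
theorem card_min (hc : HasComm D) (hnt : ∀ o, T.fixedMinus (S.w o) ≠ ⊥) (o : Fin S.r) :
    Nat.card ↥((S.bnPair hc hnt).parabolic {nO S o}) =
      Nat.card ↥(D.borelSubgroup F ⊓ S.G1) * (1 + Nat.card (T.fixedMinus (S.w o))) := by
  haveI : Finite ↥(D.borelSubgroup F ⊓ S.G1) := inferInstance
  let P := (S.bnPair hc hnt).parabolic {nO S o}
  let f : ↥(D.borelSubgroup F ⊓ S.G1) ⊕ ↥(D.borelSubgroup F ⊓ S.G1) × ↥(T.fixedMinus (S.w o)) → ↥P :=
    Sum.elim (fun b => ⟨⟨b.1, b.2.2⟩, B_le_parabolic _ _ (Subgroup.mem_subgroupOf.2 b.2)⟩)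
      fun p => ⟨⟨p.1.1, p.1.2.2⟩ * nO S o * ⟨p.2.1, S.base o p.2.2⟩,
        mul_mem (mul_mem (B_le_parabolic _ _ (Subgroup.mem_subgroupOf.2 p.1.2)) (mem_parabolic_of_mem _ rfl))
          (B_le_parabolic _ _ (Subgroup.mem_subgroupOf.2 (S.fixedMinus_le_borel hc (S.w_weylFix o) p.2.2)))⟩
  have hval : ∀ b u, ((f (Sum.inr (b, u))).1 : GL D.Idx F) = b.1 * S.n o * u.1 := fun _ _ => rfl
  have hnB : S.n o ∉ D.borelSubgroup F := fun h => by
    refine s_not_mem_B (S.bnPair hc hnt) (s := nO S o) ⟨o, rfl⟩ ?_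
    exact Subgroup.mem_subgroupOf.2 ⟨h, S.n_mem o⟩
  have hbij : Function.Bijective f := by
    constructor
    · rintro (b | ⟨b, u⟩) (b' | ⟨b', u'⟩) h <;> have h' := congrArg (fun x : ↥P => (x.1 : GL D.Idx F)) h
      · exact congrArg Sum.inl (Subtype.ext h')
      · exfalso
        rw [hval] at h'
        refine hnB ?_
        have h0 : (b : GL D.Idx F) = b'.1 * S.n o * u'.1 := h'
        rw [show S.n o = b'.1⁻¹ * b.1 * u'.1⁻¹ by rw [h0]; group]
        exact mul_mem (mul_mem (inv_mem b'.2.1) b.2.1)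
          (inv_mem (S.fixedMinus_le_borel hc (S.w_weylFix o) u'.2).1)
      · exfalso
        rw [hval] at h'
        refine hnB ?_
        have h0 : (b' : GL D.Idx F) = b.1 * S.n o * u.1 := h'.symm
        rw [show S.n o = b.1⁻¹ * b'.1 * u.1⁻¹ by rw [h0]; group]
        exact mul_mem (mul_mem (inv_mem b.2.1) b'.2.1)
          (inv_mem (S.fixedMinus_le_borel hc (S.w_weylFix o) u.2).1)
      · rw [hval, hval] at h'
        obtain ⟨e1, e2⟩ := g.canonical_unique b.2.1 b'.2.1 (S.n_acts o) u.2.2 u'.2.2 h'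
        rw [Subtype.ext e1, Subtype.ext e2]
    · rintro ⟨x, hx⟩
      have hle : P ≤ (D.parabolicSubgroup F (S.J o)).subgroupOf S.G1 :=
        parabolic_le _ (fun b hb => Subgroup.mem_sup_left hb.1) (by rintro _ rfl; exact S.n_mem_parabolic o)
      rcases S.rank_one hc o x.2 (hle hx) with hb | ⟨b, hb, u, hu, e⟩
      · exact ⟨Sum.inl ⟨x, hb⟩, rfl⟩
      · exact ⟨Sum.inr (⟨b, hb⟩, ⟨u, hu⟩), Subtype.ext (Subtype.ext ((hval _ _).trans e.symm))⟩
  rw [show Nat.card ↥((S.bnPair hc hnt).parabolic {nO S o}) = Nat.card ↥P from rfl,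
    ← Nat.card_eq_of_bijective f hbij, Nat.card_sum, Nat.card_prod, mul_add, mul_one]

/-- Rank two with two different sizes. -/
theorem tw_excluded_card (hc : HasComm D) (hnt : ∀ o, T.fixedMinus (S.w o) ≠ ⊥) (hrank : 0 < D.rank)
    [IsSimpleGroup ↥S.G1] {o o' : Fin S.r} (hall : ∀ x, x = o ∨ x = o') (hne : o ≠ o')
    (h : Nat.card (T.fixedMinus (S.w o)) ≠ Nat.card (T.fixedMinus (S.w o'))) : Excluded p ↥S.G1 := by
  obtain ⟨X, hP, -⟩ := exists_twSplit S p hc hnt hrank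
  have hset : ∀ x y : Fin S.r, (∀ z, z = x ∨ z = y) → x ≠ y → X.P.S \ {nO S x} = {nO S y} := by
    intro x y hxy hne'
    rw [hP]
    refine Set.ext fun z => ⟨?_, ?_⟩
    · rintro ⟨⟨w, rfl⟩, hw⟩
      rcases hxy w with rfl | rfl
      · exact absurd rfl hw
      · rfl
    · rintro rfl
      exact ⟨⟨y, rfl⟩, fun e => hne' (nO_inj S e).symm⟩
  refine BNLat.excluded_of_card X (s := nO S o) (t := nO S o') (hP ▸ ⟨o, rfl⟩) (hP ▸ ⟨o', rfl⟩) ?_
  rw [hset o o' hall hne, hset o' o (fun z => (hall z).symm) hne.symm, hP, card_min S hc hnt,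
    card_min S hc hnt]
  intro he
  have hpos : 0 < Nat.card ↥(D.borelSubgroup F ⊓ S.G1) := Nat.card_pos
  have := Nat.eq_of_mul_eq_mul_left hpos he
  omega

end Twisted

section Instances

variable {F : Type*} [Field F] [Fintype F] (p : ℕ) [Fact p.Prime] [CharP F p]

theorem res_F4 [IsSimpleGroup ↥(chevF4.group F)] : Excluded p ↥(chevF4.group F) := by
  refine chev_excluded_valency goodF4 p (hasComm_of_mem (by simp)) (by decide +kernel)
    (e := ⟨0, by decide⟩) (c := ⟨1, by decide⟩) (a := ⟨0, by decide⟩) (b := ⟨2, by decide⟩) (by decide)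
    ?_ ?_ ?_ <;> decide +kernel

theorem res_E6 [IsSimpleGroup ↥(chevE6.group F)] : Excluded p ↥(chevE6.group F) := by
  refine chev_excluded_rank goodE6 p (hasComm_of_mem (by simp)) (by decide +kernel) fun e he => ?_
  have h6 : (6 : ℕ) = p ^ e := by rw [← he]; decide +kernel
  have hp : p.Prime := Fact.out
  have h2 : p = 2 := (Nat.prime_dvd_prime_iff_eq Nat.prime_two hp).1 (Nat.prime_two.dvd_of_dvd_pow
    (show 2 ∣ p ^ e by rw [← h6]; norm_num)) |>.symm
  have h3 : p = 3 := (Nat.prime_dvd_prime_iff_eq Nat.prime_three hp).1 (Nat.prime_three.dvd_of_dvd_pow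
    (show 3 ∣ p ^ e by rw [← h6]; norm_num)) |>.symm
  omega

theorem res_E7 [IsSimpleGroup ↥(chevE7.group F)] : Excluded p ↥(chevE7.group F) := by
  refine chev_excluded_valency goodE7 p (hasComm_of_mem (by simp)) (by decide +kernel)
    (e := ⟨0, by decide⟩) (c := ⟨2, by decide⟩) (a := ⟨0, by decide⟩) (b := ⟨3, by decide⟩) (by decide)
    ?_ ?_ ?_ <;> decide +kernel

theorem res_E8 [IsSimpleGroup ↥(chevE8.group F)] : Excluded p ↥(chevE8.group F) := by
  refine chev_excluded_valency goodE8 p (hasComm_of_mem (by simp)) (by decide +kernel)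
    (e := ⟨0, by decide⟩) (c := ⟨2, by decide⟩) (a := ⟨0, by decide⟩) (b := ⟨3, by decide⟩) (by decide)
    ?_ ?_ ?_ <;> decide +kernel

theorem res_twistedE6 {q : ℕ} (hq : IsPrimePow q) (hK : Fintype.card F = q ^ 2)
    [IsSimpleGroup ↥(twistedE6 F q)] : Excluded p ↥(twistedE6 F q) := by
  obtain ⟨A, hG, hφ, hS, hr, ho⟩ := exists_setupE6 F hq hK
  have hc : HasComm chevE6 := hasComm_of_mem (by simp)
  have h4 : ∀ o' : Fin 4, ((orbE6 o').length = 1 ∨ (orbE6 o').length = 2) ∧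
      ∃ i₀ ∈ orbE6 o', (A.S.pi : Fin chevE6.rank → Fin chevE6.rank)^[(orbE6 o').length] i₀ = i₀ ∧
        ∀ i ∈ orbE6 o', ∃ m < (orbE6 o').length,
          (A.S.pi : Fin chevE6.rank → Fin chevE6.rank)^[m] i₀ = i := by
    rw [hS]; decide +kernel
  obtain ⟨-, hnt, -⟩ := A.facts hc hq.one_lt hφ hK (by norm_num) (fun o => by rw [ho]; exact (h4 _).1)
    (fun o => by rw [ho]; exact (h4 _).2)
  haveI : IsSimpleGroup ↥(A.sys hc).G1 := by rw [show (A.sys hc).G1 = twistedE6 F q from hG]; infer_instance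
  have hw : ∀ o : Fin 4, (A.sys hc).w (Fin.cast hr.symm o) = goodE6.wperm (orbE6 o) := fun o => by
    show goodE6.wperm (A.orb _) = _
    exact (congrArg goodE6.wperm (ho (Fin.cast hr.symm o))).trans rfl
  have hend : ∀ t t' : Fin 4, goodE6.wperm (orbE6 0) * goodE6.wperm (orbE6 t) ≠
      goodE6.wperm (orbE6 t) * goodE6.wperm (orbE6 0) → goodE6.wperm (orbE6 0) * goodE6.wperm (orbE6 t') ≠
      goodE6.wperm (orbE6 t') * goodE6.wperm (orbE6 0) → t = t' := by decide +kernel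
  have hX : Excluded p ↥(A.sys hc).G1 := by
    refine tw_excluded_valency (A.sys hc) p hc hnt (by decide +kernel) (e := Fin.cast hr.symm 0)
      (c := Fin.cast hr.symm 1) (a := Fin.cast hr.symm 0) (b := Fin.cast hr.symm 3)
      (fun e => absurd (Fin.cast_injective _ e) (by decide)) ?_ ?_ ?_
    · rw [hw, hw]; decide +kernel
    · rw [hw, hw]; decide +kernel
    · intro t t' ht ht'
      have e : ∀ x : Fin (A.sys hc).r, (A.sys hc).w x = goodE6.wperm (orbE6 (Fin.cast hr x)) := fun x => by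
        show goodE6.wperm (A.orb _) = _
        exact congrArg goodE6.wperm (ho x)
      rw [hw, e] at ht ht'
      exact Fin.cast_injective hr (hend _ _ ht ht')
  exact hX.of_mulEquiv (MulEquiv.subgroupCongr (show (A.sys hc).G1 = twistedE6 F q from hG))

theorem res_twistedD4 {q : ℕ} (hq : IsPrimePow q) (hK : Fintype.card F = q ^ 3)
    [IsSimpleGroup ↥(twistedD4 F q)] : Excluded p ↥(twistedD4 F q) := by
  obtain ⟨A, hG, hφ, hS, hr, ho⟩ := exists_setupD4 F hq hK
  have hc : HasComm chevD4 := hasComm_of_mem (by simp)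
  have h2 : ∀ o' : Fin 2, ((orbD4 o').length = 1 ∨ (orbD4 o').length = 3) ∧
      ∃ i₀ ∈ orbD4 o', (A.S.pi : Fin chevD4.rank → Fin chevD4.rank)^[(orbD4 o').length] i₀ = i₀ ∧
        ∀ i ∈ orbD4 o', ∃ m < (orbD4 o').length,
          (A.S.pi : Fin chevD4.rank → Fin chevD4.rank)^[m] i₀ = i := by
    rw [hS]; decide +kernel
  obtain ⟨hcard, hnt, -⟩ := A.facts hc hq.one_lt hφ hK (by norm_num) (fun o => by rw [ho]; exact (h2 _).1)
    (fun o => by rw [ho]; exact (h2 _).2)
  haveI : IsSimpleGroup ↥(A.sys hc).G1 := by rw [show (A.sys hc).G1 = twistedD4 F q from hG]; infer_instance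
  have hlen : ∀ o : Fin 2, Nat.card (A.T.fixedMinus ((A.sys hc).w (Fin.cast hr.symm o))) =
      q ^ (orbD4 o).length := fun o => by
    have h := hcard (Fin.cast hr.symm o)
    rw [pow_one] at h
    rw [h]
    show q ^ ninv chevD4 (goodD4.wperm (A.orb (Fin.cast hr.symm o))) = _
    rw [(A.isOrbit _).ninv_eq, ho]
    rfl
  have hX : Excluded p ↥(A.sys hc).G1 := by
    refine tw_excluded_card (A.sys hc) p hc hnt (by decide +kernel) (o := Fin.cast hr.symm 0)
      (o' := Fin.cast hr.symm 1) (fun x => ?_) (fun e => absurd (Fin.cast_injective _ e) (by decide)) ?_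
    · have : Fin.cast hr x = 0 ∨ Fin.cast hr x = 1 := by
        generalize Fin.cast hr x = y
        revert y; decide
      rcases this with h | h <;> [left; right] <;> exact Fin.cast_injective hr (h.trans rfl)
    · rw [hlen, hlen, show (orbD4 0).length = 1 from rfl, show (orbD4 1).length = 3 from rfl, pow_one]
      intro h
      have h3 : q ^ 1 < q ^ 3 := Nat.pow_lt_pow_right hq.one_lt (by norm_num)
      rw [pow_one] at h3
      omega
  exact hX.of_mulEquiv (MulEquiv.subgroupCongr (show (A.sys hc).G1 = twistedD4 F q from hG))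

end Instances

section FG

theorem res_twistedF4 {K : Type*} [Field K] [Fintype K] {m : ℕ} (hK : Fintype.card K = 2 ^ (2 * m + 1))
    [IsSimpleGroup ↥(twistedF4 K (2 ^ m))] : Excluded 2 ↥(twistedF4 K (2 ^ m)) := by
  haveI : Fact (Nat.Prime 2) := ⟨Nat.prime_two⟩
  haveI : CharP K 2 := charP_of_card_eq_prime_pow hK
  obtain ⟨S⟩ := exists_setupF4 K hK
  haveI : IsSimpleGroup ↥S.sys.G1 := ‹IsSimpleGroup ↥(twistedF4 K (2 ^ m))›
  refine tw_excluded_card S.sys 2 hasCommF4 S.hnt (by decide +kernel) (o := (0 : Fin 2)) (o' := (1 : Fin 2))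
    (fun x => (by decide : ∀ y : Fin 2, y = 0 ∨ y = 1) x) (by show (0 : Fin 2) ≠ 1; decide) ?_
  show Nat.card (S.T.fixedMinus (goodF4.wperm (wordsF4 0))) ≠ Nat.card (S.T.fixedMinus (goodF4.wperm (wordsF4 1)))
  rw [S.card_w0, S.card_w1]
  intro h
  have h2 : 2 ≤ 2 ^ (2 * m + 1) := Nat.le_self_pow (by omega) 2
  nlinarith

theorem lat_twistedG2 {K : Type*} [Field K] [Fintype K] {m : ℕ} (hK : Fintype.card K = 3 ^ (2 * m + 1))
    [IsSimpleGroup ↥(twistedG2 K (3 ^ m))] : HasLat 3 ↥(twistedG2 K (3 ^ m)) 1 := by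
  haveI : Fact (Nat.Prime 3) := ⟨Nat.prime_three⟩
  haveI : CharP K 3 := charP_of_card_eq_prime_pow hK
  obtain ⟨S⟩ := exists_setupG2 K hK
  haveI : IsSimpleGroup ↥S.sys.G1 := ‹IsSimpleGroup ↥(twistedG2 K (3 ^ m))›
  exact tw_lat S.sys 3 hasCommG2 S.hnt (by decide +kernel)

end FG

end CfsgLib.Chev.PMin.BNFam
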