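import Cfsg.Agent.Lib.Chev.PMin.Core

/-!
What is to be known of a simple group of Lie type, and its transport along isomorphisms.
-/

set_option autoImplicit false

namespace CfsgLib.Chev.PMin

/-- The lattice over a Sylow subgroup has `n` maximal members. -/
def HasLat (p : ℕ) (G : Type*) [Group G] (n : ℕ) : Prop :=
  ∃ U : Sylow p G, (U : Subgroup G) ≠ ⊥ ∧ ∃ C : Fin n → Subgroup G, Lat (U : Subgroup G) C

/-- The group is not the socle of a `p`-minimal group. -/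
def Excluded (p : ℕ) (G : Type*) [Group G] : Prop :=
  ∃ U : Sylow p G, (U : Subgroup G) ≠ ⊥ ∧
    ((∃ n, ∃ C : Fin n → Subgroup G, Lat (U : Subgroup G) C ∧ (Facts p (U : Subgroup G) C → False)) ∨
      ∃ Q R : Subgroup G, Canon (U : Subgroup G) Q ∧ Canon (U : Subgroup G) R ∧
        (U : Subgroup G) ≤ Q ∧ (U : Subgroup G) ≤ R ∧ Q ≠ ⊤ ∧ R ≠ ⊤ ∧ Q ⊔ R = ⊤)

variable {G H : Type*} [Group G] [Group H] [Finite G] [Finite H] {p : ℕ} [Fact p.Prime]

/-- The image of a Sylow subgroup. -/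
theorem exists_map_sylow (e : G ≃* H) (U : Sylow p G) :
    ∃ U' : Sylow p H, (U' : Subgroup H) = (U : Subgroup G).map e.toMonoidHom :=
  ⟨U.mapSurjective e.surjective, Sylow.coe_mapSurjective _ _⟩

theorem map_ne_bot_of_ne (e : G ≃* H) {U : Subgroup G} (h : U ≠ ⊥) : U.map e.toMonoidHom ≠ ⊥ :=
  fun hh => h ((Subgroup.map_eq_bot_iff_of_injective _ e.injective).1 hh)

theorem HasLat.of_mulEquiv {n : ℕ} (h : HasLat p G n) (e : G ≃* H) : HasLat p H n := by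
  obtain ⟨U, hU, C, hC⟩ := h
  obtain ⟨U', hU'⟩ := exists_map_sylow e U
  exact ⟨U', hU' ▸ map_ne_bot_of_ne e hU, fun i => (C i).map e.toMonoidHom, hU' ▸ hC.map e⟩

theorem Excluded.of_mulEquiv (h : Excluded p G) (e : G ≃* H) : Excluded p H := by
  obtain ⟨U, hU, h⟩ := h
  obtain ⟨U', hU'⟩ := exists_map_sylow e U
  refine ⟨U', hU' ▸ map_ne_bot_of_ne e hU, h.imp ?_ ?_⟩
  · rintro ⟨n, C, hC, hF⟩
    exact ⟨n, fun i => (C i).map e.toMonoidHom, hU' ▸ hC.map e, fun hF' => hF (Facts.comap e (hU' ▸ hF'))⟩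
  · rintro ⟨Q, R, hQ, hR, h1, h2, h3, h4, h5⟩
    refine ⟨Q.map e.toMonoidHom, R.map e.toMonoidHom, hU' ▸ canon_map hQ e, hU' ▸ canon_map hR e,
      hU' ▸ Subgroup.map_mono h1, hU' ▸ Subgroup.map_mono h2, fun hh => h3 ((map_top_iff e _).1 hh),
      fun hh => h4 ((map_top_iff e _).1 hh), ?_⟩
    rw [← Subgroup.map_sup, h5, map_top_iff]

omit [Finite H] in
/-- Every Sylow subgroup is as good. -/
theorem exists_conj (U V : Sylow p G) : ∃ e : MulAut G, (V : Subgroup G) = (U : Subgroup G).map e.toMonoidHom := by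
  obtain ⟨g, rfl⟩ := MulAction.exists_smul_eq G U V
  exact ⟨MulAut.conj g, by rw [Sylow.coe_subgroup_smul]; rfl⟩

variable {X : Type*} [Group X] [Finite X] {K : Subgroup X} [K.Normal] [IsSimpleGroup ↥K]

local notation "NU" U => Subgroup.normalizer ((Subgroup.map (Subgroup.subtype _) U : Subgroup X) : Set X)

omit [Finite G] [Finite H] in
theorem concl_of_lat {n : ℕ} (hX : Cfsg.IsPMinimal p X) (U : Sylow p ↥K) (h : HasLat p ↥K n) :
    IsCoatom (Subgroup.normalizer (((U : Subgroup ↥K).map K.subtype : Subgroup X) : Set X)) ∧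
      (∃ e, n = p ^ e) ∧ (2 ≤ n → K ≠ ⊤) := by
  obtain ⟨U₀, hU₀, C, hC⟩ := h
  obtain ⟨e, he⟩ := exists_conj U₀ U
  have hU : (U : Subgroup ↥K) ≠ ⊥ := he ▸ map_ne_bot_of_ne e hU₀
  obtain ⟨h1, h2, h3⟩ := of_lat U hX hU (C := fun i => (C i).map e.toMonoidHom) (he ▸ hC.map e)
  exact ⟨h1, h2.ppow, fun hn hK => absurd (h3 hK) (by omega)⟩

omit [Finite G] [Finite H] in
theorem false_of_excluded (hX : Cfsg.IsPMinimal p X) (h : Excluded p ↥K) : False := by
  obtain ⟨U, hU, ⟨n, C, hC, hF⟩ | ⟨Q, R, hQ, hR, h1, h2, h3, h4, h5⟩⟩ := h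
  · exact hF (of_lat U hX hU hC).2.1
  · exact false_of_pair U hX hU (fun hh => h3 (top_le_iff.1 (hh ▸ h1))) hQ hR h1 h2 h3 h4 h5

end CfsgLib.Chev.PMin
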