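import Cfsg.Agent.Lib.Chev.RigidBNFull
import Cfsg.Agent.Lib.Chev.PMin.Outcome

/-!
Split (B,N)-pairs: the maximal overgroups of the unipotent subgroup are the maximal parabolic
subgroups, and automorphisms fixing it permute the simple reflections compatibly with commutation.
-/

set_option autoImplicit false
set_option linter.unusedSectionVars false

namespace CfsgLib.Chev.PMin.BNLat

open Cfsg CfsgLib.Chev.BN CfsgLib.Chev.Rigid

variable {G : Type*} [Group G] [Finite G] {p : ℕ} [Fact p.Prime] [IsSimpleGroup G] (D : Split p G)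

include D

/-- A proper overgroup of the unipotent subgroup lies in a maximal parabolic subgroup. -/
theorem exists_le_parabolic {M : Subgroup G} (hUM : D.U ≤ M) (hne : M ≠ ⊤) :
    ∃ s ∈ D.P.S, M ≤ D.P.parabolic (D.P.S \ {s}) := by
  let J : Set G := {s | s ∈ D.P.S ∧ ∃ h ∈ D.P.B ⊓ D.P.N, s * h ∈ M}
  -- the elements of `M ⊓ N` are words in `J`
  have hN : ∀ k, ∀ n ∈ D.P.N, n ∈ M → len D.P n = k → n ∈ D.P.parabolic J := by
    intro k
    induction k with
    | zero => exact fun n hn _ hk => B_le_parabolic D.P J ((len_eq_zero D.P hn).1 hk)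
    | succ k ih =>
      intro n hn hnM hk
      obtain ⟨s, hs, he⟩ := exists_left_descent D.P hn hk
      have hsN := s_mem D.P hs
      obtain ⟨b, hb, hbc⟩ := exists_mem_cell_of_len_le D.P hs hn (by
        rw [← len_mul_s_inv D.P hs hn, he, hk]; omega)
      obtain ⟨b1, h1, b2, h2, e⟩ := (mem_cell D.P).1 hbc
      obtain ⟨u, hu, t, ht, rfl⟩ := D.split b2 h2
      have hnt : n * t⁻¹ * n⁻¹ ∈ D.P.B :=
        D.P.conj_mem n hn _ ⟨D.P.B.inv_mem ht.1, D.P.N.inv_mem ht.2⟩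
      have hy : n * u * n⁻¹ = b1⁻¹ * s * (b * (n * t⁻¹ * n⁻¹)) := by
        calc n * u * n⁻¹ = b1⁻¹ * (b1 * n * (u * t)) * (t⁻¹ * n⁻¹) := by group
          _ = b1⁻¹ * (s * b * n) * (t⁻¹ * n⁻¹) := by rw [e]
          _ = _ := by group
      have hyM : n * u * n⁻¹ ∈ M := M.mul_mem (M.mul_mem hnM (hUM hu)) (M.inv_mem hnM)
      have hyc : n * u * n⁻¹ ∈ cell D.P s :=
        hy ▸ mul_mem_cell D.P (D.P.B.inv_mem h1) (D.P.B.mul_mem hb hnt) (self_mem_cell D.P s)
      obtain ⟨w, hw, c, hc, ec⟩ := D.cell_U hsN hyc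
      obtain ⟨u', hu', h', hh', rfl⟩ := D.split c hc
      -- move the torus part to the left
      have hu'' : h'⁻¹ * u' * h'⁻¹⁻¹ ∈ D.U := D.normal _ (D.P.B.inv_mem hh'.1) u' hu'
      have hsh : s * h' ∈ M := by
        have h3 := M.mul_mem (M.mul_mem (M.inv_mem (hUM hw)) hyM) (M.inv_mem (hUM hu''))
        rwa [ec, show w⁻¹ * (w * s * (u' * h')) * (h'⁻¹ * u' * h'⁻¹⁻¹)⁻¹ = s * h' by group] at h3
      have hsJ : s ∈ J := ⟨hs, h', hh', hsh⟩
      have hn' : (s * h')⁻¹ * n ∈ D.P.N :=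
        D.P.N.mul_mem (D.P.N.inv_mem (D.P.N.mul_mem hsN hh'.2)) hn
      have hlen : len D.P ((s * h')⁻¹ * n) = k := by
        rw [← he]
        refine len_congr D.P hn' (D.P.N.mul_mem (D.P.N.inv_mem hsN) hn) ?_
        rw [show ((s * h')⁻¹ * n)⁻¹ * (s⁻¹ * n) = (s⁻¹ * n)⁻¹ * h' * (s⁻¹ * n) by group]
        exact (D.torus_conj (D.P.N.mul_mem (D.P.N.inv_mem hsN) hn) hh').1
      have h4 := ih _ hn' (M.mul_mem (M.inv_mem hsh) hnM) hlen
      have h5 : s * h' ∈ D.P.parabolic J := (D.P.parabolic J).mul_mem (mem_parabolic_of_mem D.P hsJ)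
        (B_le_parabolic D.P J hh'.1)
      have h6 := (D.P.parabolic J).mul_mem h5 h4
      rwa [mul_inv_cancel_left] at h6
  have hMJ : M ≤ D.P.parabolic J := by
    intro g hg
    obtain ⟨n, hn, hgn⟩ := exists_mem_cell D.P g
    obtain ⟨w, hw, c, hc, e⟩ := D.cell_U hn hgn
    obtain ⟨u', hu', h', hh', rfl⟩ := D.split c hc
    have hu'' : h'⁻¹ * u' * h'⁻¹⁻¹ ∈ D.U := D.normal _ (D.P.B.inv_mem hh'.1) u' hu'
    have hnh : n * h' ∈ M := by
      have h3 := M.mul_mem (M.mul_mem (M.inv_mem (hUM hw)) hg) (M.inv_mem (hUM hu''))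
      rwa [e, show w⁻¹ * (w * n * (u' * h')) * (h'⁻¹ * u' * h'⁻¹⁻¹)⁻¹ = n * h' by group] at h3
    have h1 := hN _ _ (D.P.N.mul_mem hn hh'.2) hnh rfl
    rw [e]
    refine mul_mem (mul_mem (B_le_parabolic D.P J (D.le hw)) ?_) (B_le_parabolic D.P J hc)
    simpa using mul_mem h1 (B_le_parabolic D.P J (D.P.B.inv_mem hh'.1))
  by_cases hJ : J = D.P.S
  swap
  · obtain ⟨s, hs, hsJ⟩ := Set.not_subset.1 fun h => hJ (Set.Subset.antisymm (fun s h => h.1) h)
    exact ⟨s, hs, hMJ.trans (parabolic_mono D.P fun t ht => ⟨ht.1, fun e => hsJ (e ▸ ht)⟩)⟩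
  refine absurd ?_ hne
  -- `M` and the torus cover the group
  have hNM : ∀ n ∈ D.P.N, ∃ m ∈ M, ∃ h ∈ D.P.B ⊓ D.P.N, m ∈ D.P.N ∧ n = m * h := by
    intro n hn
    rw [← D.P.closure_sup, ← Subgroup.closure_eq (D.P.B ⊓ D.P.N), ← Subgroup.closure_union] at hn
    refine Subgroup.closure_induction (p := fun n _ => ∃ m ∈ M, ∃ h ∈ D.P.B ⊓ D.P.N, m ∈ D.P.N ∧ n = m * h)
      ?_ ⟨1, M.one_mem, 1, one_mem _, D.P.N.one_mem, (one_mul 1).symm⟩ ?_ ?_ hn
    · rintro x (hx | hx)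
      · obtain ⟨-, h, hh, hxh⟩ := hJ.ge hx
        exact ⟨x * h, hxh, h⁻¹, inv_mem hh, D.P.N.mul_mem (s_mem D.P hx) hh.2, by group⟩
      · exact ⟨1, M.one_mem, x, hx, D.P.N.one_mem, (one_mul x).symm⟩
    · rintro x y - - ⟨m, hm, h, hh, hmN, rfl⟩ ⟨m', hm', h', hh', hmN', rfl⟩
      exact ⟨m * m', M.mul_mem hm hm', m'⁻¹ * h * m' * h', mul_mem (D.torus_conj hmN' hh) hh',
        D.P.N.mul_mem hmN hmN', by group⟩
    · rintro x - ⟨m, hm, h, hh, hmN, rfl⟩
      refine ⟨m⁻¹, M.inv_mem hm, m * h⁻¹ * m⁻¹, ?_, D.P.N.inv_mem hmN, by group⟩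
      simpa using D.torus_conj (D.P.N.inv_mem hmN) (inv_mem hh)
  have hU : Subgroup.normalClosure (D.U : Set G) ≤ M := by
    refine (Subgroup.closure_le _).2 fun y hy => ?_
    obtain ⟨v, hv, hvy⟩ := Group.mem_conjugatesOfSet_iff.1 hy
    obtain ⟨g, rfl⟩ := isConj_iff.1 hvy
    obtain ⟨n, hn, hgn⟩ := exists_mem_cell D.P g
    obtain ⟨w, hw, c, hc, e⟩ := D.cell_U hn hgn
    obtain ⟨m, hm, h, hh, -, rfl⟩ := hNM n hn
    have h1 := D.normal _ (D.P.B.mul_mem hh.1 hc) v hv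
    have h2 := M.mul_mem (M.mul_mem (M.mul_mem (hUM hw) hm) (hUM h1)) (M.inv_mem (M.mul_mem (hUM hw) hm))
    rw [SetLike.mem_coe, e]
    rwa [show w * m * (h * c * v * (h * c)⁻¹) * (w * m)⁻¹ = w * (m * h) * c * v * (w * (m * h) * c)⁻¹ by
      group] at h2
  refine eq_top_iff.2 ?_
  rcases IsSimpleGroup.eq_bot_or_eq_top_of_normal (Subgroup.normalClosure (D.U : Set G)) inferInstance with h | h
  · exact absurd (le_bot_iff.1 (h ▸ Subgroup.le_normalClosure)) D.U_ne_bot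
  · exact h ▸ hU

/-- The list of the maximal parabolic subgroups. -/
noncomputable def C [Fintype ↥D.P.S] : Fin (Fintype.card ↥D.P.S) → Subgroup G :=
  fun i => D.P.parabolic (D.P.S \ {((Fintype.equivFin ↥D.P.S).symm i).1})

theorem nonempty_S : Nonempty ↥D.P.S := by
  obtain ⟨s, hs⟩ : D.P.S.Nonempty := by
    by_contra h
    rw [Set.not_nonempty_iff_eq_empty] at h
    refine D.ne_top (eq_top_iff.2 ?_)
    rw [← parabolic_top D.P, h]
    exact parabolic_le D.P le_rfl (Set.empty_subset _)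
  exact ⟨⟨s, hs⟩⟩

theorem lat [Fintype ↥D.P.S] : Lat D.U (C D) := by
  haveI := nonempty_S D
  refine Lat.reindex (fun s : ↥D.P.S => D.P.parabolic (D.P.S \ {s.1}))
    (fun s => D.le.trans (B_le_parabolic D.P _)) (fun s h => ?_) (fun Q hQ hQ' => ?_) (fun s => ?_) fun x hx => ?_
  · have := (mem_parabolic_iff_mem D.P Set.sdiff_subset s.2).1 (h ▸ Subgroup.mem_top _)
    exact this.2 rfl
  · obtain ⟨s, hs, hle⟩ := exists_le_parabolic D hQ hQ'
    exact ⟨⟨s, hs⟩, hle⟩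
  · refine ⟨s.1, fun h => ((mem_parabolic_iff_mem D.P Set.sdiff_subset s.2).1 h).2 rfl, fun t ht => ?_⟩
    exact mem_parabolic_of_mem D.P ⟨s.2, fun e => ht (Subtype.ext (Eq.symm e))⟩
  · have hB : x ∈ D.P.B := by
      let Q : Subgroup G := ⨅ s : ↥D.P.S, D.P.parabolic (D.P.S \ {s.1})
      have hxQ : x ∈ Q := Subgroup.mem_iInf.2 hx
      have hQ : D.P.B ≤ Q := le_iInf fun s => B_le_parabolic D.P _
      rw [eq_parabolic D.P hQ] at hxQ
      refine parabolic_le D.P le_rfl (fun t ht => ?_) hxQ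
      exact absurd rfl ((mem_parabolic_iff_mem D.P Set.sdiff_subset ht.1).1
        (Subgroup.mem_iInf.1 ht.2 ⟨t, ht.1⟩)).2
    refine Subgroup.mem_normalizer_iff.2 fun y => ⟨fun hy => D.normal x hB y hy, fun hy => ?_⟩
    simpa [mul_assoc] using D.normal _ (D.P.B.inv_mem hB) _ hy

theorem res : HasLat p G (Nat.card ↥D.P.S) := by
  haveI : Fintype ↥D.P.S := Fintype.ofFinite _
  rw [Nat.card_eq_fintype_card]
  exact ⟨D.sylow, D.U_ne_bot, C D, lat D⟩

/-- The facts, for the Sylow subgroup `D.U`. -/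
theorem excluded [Fintype ↥D.P.S] (h : Facts p D.U (C D) → False) : Excluded p G :=
  ⟨D.sylow, D.U_ne_bot, Or.inl ⟨_, C D, lat D, h⟩⟩

theorem excluded_of_rank (h : ∀ e, Nat.card ↥D.P.S ≠ p ^ e) : Excluded p G := by
  haveI : Fintype ↥D.P.S := Fintype.ofFinite _
  refine excluded D fun hF => ?_
  obtain ⟨e, he⟩ := hF.ppow
  exact h e (by rw [Nat.card_eq_fintype_card, he])

theorem excluded_of_card {s t : G} (hs : s ∈ D.P.S) (ht : t ∈ D.P.S)
    (h : Nat.card ↥(D.P.parabolic (D.P.S \ {s})) ≠ Nat.card ↥(D.P.parabolic (D.P.S \ {t}))) :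
    Excluded p G := by
  haveI : Fintype ↥D.P.S := Fintype.ofFinite _
  refine excluded D fun hF => h ?_
  obtain ⟨a, -, ha⟩ := hF.trans (Fintype.equivFin ↥D.P.S ⟨s, hs⟩) (Fintype.equivFin ↥D.P.S ⟨t, ht⟩)
  rw [C, C, Equiv.symm_apply_apply, Equiv.symm_apply_apply] at ha
  rw [← ha]
  exact Nat.card_congr (Subgroup.equivMapOfInjective _ a.toMonoidHom a.injective).toEquiv

/-- Commutation in the Weyl group. -/
def Comm (s t : G) : Prop := s * t * s⁻¹ * t⁻¹ ∈ D.P.B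

/-- The product of two minimal parabolic subgroups does not depend on the order. -/
def Swap (P Q : Subgroup G) : Prop := ∀ x ∈ P, ∀ y ∈ Q, ∃ a ∈ Q, ∃ b ∈ P, x * y = a * b

theorem mem_min {s x : G} (hs : s ∈ D.P.S) (hx : x ∈ D.P.parabolic {s}) : x ∈ D.P.B ∨ x ∈ cell D.P s := by
  obtain ⟨l, hl, hc⟩ := (mem_parabolic D.P (Set.singleton_subset_iff.2 hs)).1 hx
  clear hx
  suffices h : ∀ l : List G, (∀ x ∈ l, x ∈ ({s} : Set G)) →
      l.prod ∈ D.P.B ∨ l.prod ∈ cell D.P s by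
    rcases h l hl with h | h
    · left
      rwa [cell_congr D.P (n := l.prod) (n' := 1) (by simpa using D.P.B.inv_mem h), mem_cell_one] at hc
    · right
      rwa [cell_eq_of_mem D.P h] at hc
  intro l
  induction l with
  | nil => intro _; exact Or.inl (by rw [List.prod_nil]; exact D.P.B.one_mem)
  | cons a l ih =>
    intro hl
    obtain rfl : a = s := hl a (by simp)
    rw [List.prod_cons]
    rcases ih fun x hx => hl x (List.mem_cons_of_mem _ hx) with h | h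
    · exact Or.inr (by simpa using mul_mem_cell D.P D.P.B.one_mem h (self_mem_cell D.P a))
    · have hN := prod_mem_N D.P (Set.singleton_subset_iff.2 hs) fun x hx => hl x (List.mem_cons_of_mem _ hx)
      have h1 := cell_inj D.P hN (s_mem D.P hs) (cell_eq_of_mem D.P h)
      left
      have h2 := conj_mem' D.P (D.P.N.mul_mem (D.P.N.inv_mem hN) (s_mem D.P hs)) (D.P.sq_mem a hs)
        (D.P.N.mul_mem (s_mem D.P hs) (s_mem D.P hs))
      have h3 := D.P.B.mul_mem (D.P.B.mul_mem h1 h2) (D.P.B.inv_mem h1)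
      have h4 := D.P.B.mul_mem h3 (D.P.B.inv_mem h1)
      rwa [show l.prod⁻¹ * a * ((l.prod⁻¹ * a)⁻¹ * (a * a) * (l.prod⁻¹ * a)) * (l.prod⁻¹ * a)⁻¹ *
        (l.prod⁻¹ * a)⁻¹ = a * l.prod by group] at h4

theorem swap_iff {s t : G} (hs : s ∈ D.P.S) (ht : t ∈ D.P.S) (hst : s ≠ t) :
    Swap (D.P.parabolic {s}) (D.P.parabolic {t}) ↔ Comm D s t := by
  have hsN := s_mem D.P hs
  have htN := s_mem D.P ht
  have hsB := s_not_mem_B D.P hs
  have htB := s_not_mem_B D.P ht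
  have hts : t⁻¹ * s ∉ D.P.B := fun h => hst (D.P.inj t ht s hs h).symm
  constructor
  · intro h
    obtain ⟨a, ha, b, hb, e⟩ := h s (mem_parabolic_of_mem D.P rfl) t (mem_parabolic_of_mem D.P rfl)
    have h0 : s * t ∈ cell D.P 1 ∨ s * t ∈ cell D.P t ∨ s * t ∈ cell D.P s ∨ s * t ∈ cell D.P (t * s) := by
      rw [e]
      rcases mem_min D ht ha with ha | ha <;> rcases mem_min D hs hb with hb | hb
      · exact Or.inl (mem_cell_one D.P |>.2 (D.P.B.mul_mem ha hb))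
      · exact Or.inr (Or.inr (Or.inl (by simpa using mul_mem_cell D.P ha D.P.B.one_mem hb)))
      · exact Or.inr (Or.inl (by simpa using mul_mem_cell D.P D.P.B.one_mem hb ha))
      · rcases cell_mul_cell D.P ht hsN ha hb with h' | h'
        · exact Or.inr (Or.inr (Or.inr h'))
        · exact Or.inr (Or.inr (Or.inl h'))
    rcases h0 with h0 | h0 | h0 | h0
    · refine absurd ?_ hts
      have h4 := D.P.B.mul_mem ((mem_cell_one D.P).1 h0) (D.P.B.inv_mem (D.P.sq_mem t ht))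
      rw [show s * t * (t * t)⁻¹ = s * t⁻¹ by group] at h4
      have h5 := conj_mem' D.P htN h4 (D.P.N.mul_mem hsN (D.P.N.inv_mem htN))
      rwa [show t⁻¹ * (s * t⁻¹) * t = t⁻¹ * s by group] at h5
    · exfalso
      have h1 := cell_inj D.P (D.P.N.mul_mem hsN htN) htN (cell_eq_of_mem D.P h0)
      have h2 := conj_mem' D.P (D.P.N.inv_mem htN) h1
        (D.P.N.mul_mem (D.P.N.inv_mem (D.P.N.mul_mem hsN htN)) htN)
      rw [show t⁻¹⁻¹ * ((s * t)⁻¹ * t) * t⁻¹ = s⁻¹ by group] at h2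
      exact hsB (by simpa using D.P.B.inv_mem h2)
    · exfalso
      have h1 := cell_inj D.P (D.P.N.mul_mem hsN htN) hsN (cell_eq_of_mem D.P h0)
      rw [show (s * t)⁻¹ * s = t⁻¹ by group] at h1
      exact htB (by simpa using D.P.B.inv_mem h1)
    · have h1 := cell_inj D.P (D.P.N.mul_mem hsN htN) (D.P.N.mul_mem htN hsN) (cell_eq_of_mem D.P h0)
      have h2 := conj_mem' D.P (D.P.N.inv_mem (D.P.N.mul_mem htN hsN)) (D.P.B.inv_mem h1)
        (D.P.N.inv_mem (D.P.N.mul_mem (D.P.N.inv_mem (D.P.N.mul_mem hsN htN)) (D.P.N.mul_mem htN hsN)))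
      rwa [show (t * s)⁻¹⁻¹ * ((s * t)⁻¹ * (t * s))⁻¹ * (t * s)⁻¹ = s * t * s⁻¹ * t⁻¹ by group] at h2
  · intro hc x hx y hy
    rcases mem_min D hs hx with hx' | hx'
    · exact ⟨x * y, mul_mem (B_le_parabolic D.P _ hx') hy, 1, one_mem _, (mul_one _).symm⟩
    rcases mem_min D ht hy with hy' | hy'
    · exact ⟨1, one_mem _, x * y, mul_mem hx (B_le_parabolic D.P _ hy'), (one_mul _).symm⟩
    rcases cell_mul_cell D.P hs htN hx' hy' with h | h
    · have hcc : (t * s)⁻¹ * (s * t) ∈ D.P.B := by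
        have h2 := conj_mem' D.P (D.P.N.mul_mem htN hsN) hc (D.P.N.mul_mem (D.P.N.mul_mem
          (D.P.N.mul_mem hsN htN) (D.P.N.inv_mem hsN)) (D.P.N.inv_mem htN))
        rwa [show (t * s)⁻¹ * (s * t * s⁻¹ * t⁻¹) * (t * s) = (t * s)⁻¹ * (s * t) by group] at h2
      rw [← cell_congr D.P hcc] at h
      obtain ⟨b, hb, b', hb', e⟩ := (mem_cell D.P).1 h
      exact ⟨b * t, mul_mem (B_le_parabolic D.P _ hb) (mem_parabolic_of_mem D.P rfl), s * b',
        mul_mem (mem_parabolic_of_mem D.P rfl) (B_le_parabolic D.P _ hb'), by rw [e]; group⟩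
    · exact ⟨x * y, cell_subset D.P (B_le_parabolic D.P _) (mem_parabolic_of_mem D.P rfl) h, 1, one_mem _,
        (mul_one _).symm⟩

theorem min_eq [Fintype ↥D.P.S] (i : Fin (Fintype.card ↥D.P.S)) :
    ⨅ j ∈ {j | j ≠ i}, C D j = D.P.parabolic {((Fintype.equivFin ↥D.P.S).symm i).1} := by
  refine le_antisymm (fun x hx => ?_) (le_iInf₂ fun j hj => parabolic_mono D.P ?_)
  · have hB : D.P.B ≤ ⨅ j ∈ {j | j ≠ i}, C D j := le_iInf₂ fun j _ => B_le_parabolic D.P _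
    rw [eq_parabolic D.P hB] at hx
    refine parabolic_mono D.P (fun t ht => ?_) hx
    by_contra hne
    have hj : Fintype.equivFin ↥D.P.S ⟨t, ht.1⟩ ≠ i := fun e => hne (by
      show t = _
      rw [← e, Equiv.symm_apply_apply])
    have h1 : t ∈ C D (Fintype.equivFin ↥D.P.S ⟨t, ht.1⟩) := Subgroup.mem_iInf.1 (Subgroup.mem_iInf.1 ht.2 _) hj
    rw [C, Equiv.symm_apply_apply] at h1
    exact ((mem_parabolic_iff_mem D.P Set.sdiff_subset ht.1).1 h1).2 rfl
  · rintro t rfl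
    exact ⟨((Fintype.equivFin ↥D.P.S).symm i).2, fun e =>
      hj ((Fintype.equivFin ↥D.P.S).symm.injective (Subtype.ext (Eq.symm e)))⟩

omit [IsSimpleGroup G] in
theorem swap_map {a : MulAut G} {P Q : Subgroup G} (h : Swap P Q) :
    Swap (P.map a.toMonoidHom) (Q.map a.toMonoidHom) := by
  rintro _ ⟨x, hx, rfl⟩ _ ⟨y, hy, rfl⟩
  obtain ⟨c, hc, b, hb, e⟩ := h x hx y hy
  exact ⟨_, Subgroup.mem_map_of_mem _ hc, _, Subgroup.mem_map_of_mem _ hb, by rw [← map_mul, e, map_mul]⟩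

/-- A node of valency one and a node of valency two or more cannot be moved to one another. -/
theorem excluded_of_valency {e c a b : G} (he : e ∈ D.P.S) (hc : c ∈ D.P.S) (ha : a ∈ D.P.S)
    (hb : b ∈ D.P.S) (hab : a ≠ b) (hca : ¬ Comm D c a) (hcb : ¬ Comm D c b)
    (hend : ∀ t ∈ D.P.S, ∀ t' ∈ D.P.S, ¬ Comm D e t → ¬ Comm D e t' → t = t') : Excluded p G := by
  haveI : Fintype ↥D.P.S := Fintype.ofFinite _
  refine excluded D fun hF => ?_
  obtain ⟨φ, hφ, hφec⟩ := hF.trans (Fintype.equivFin ↥D.P.S ⟨c, hc⟩) (Fintype.equivFin ↥D.P.S ⟨e, he⟩)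
  choose σ hσ using fun i => (lat D).exists_image hφ i
  have hσi : Function.Injective σ := fun i j hij => (lat D).inj
    (Subgroup.map_injective φ.injective (by rw [hσ, hσ, hij]))
  have hmin : ∀ i, (D.P.parabolic {((Fintype.equivFin ↥D.P.S).symm i).1}).map φ.toMonoidHom =
      D.P.parabolic {((Fintype.equivFin ↥D.P.S).symm (σ i)).1} := fun i => by
    rw [← min_eq D i, ← min_eq D (σ i)]
    ext x
    simp only [mem_map_iff, Subgroup.mem_iInf, Set.mem_setOf_eq]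
    constructor
    · intro h j hj
      obtain ⟨k, rfl⟩ := (Finite.injective_iff_surjective.1 hσi) j
      rw [← hσ k, mem_map_iff]
      exact h k fun e => hj (congrArg σ e)
    · intro h k hk
      rw [← mem_map_iff φ, hσ k]
      exact h (σ k) fun e => hk (hσi e)
  have hσc : σ (Fintype.equivFin ↥D.P.S ⟨c, hc⟩) = Fintype.equivFin ↥D.P.S ⟨e, he⟩ :=
    (lat D).inj ((hσ _).symm.trans hφec)
  let img : ↥D.P.S → ↥D.P.S := fun t => (Fintype.equivFin ↥D.P.S).symm (σ (Fintype.equivFin ↥D.P.S t))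
  have himg : Function.Injective img := fun t t' h =>
    (Fintype.equivFin ↥D.P.S).injective (hσi ((Fintype.equivFin ↥D.P.S).symm.injective h))
  have hmin' : ∀ t : ↥D.P.S, (D.P.parabolic {t.1}).map φ.toMonoidHom = D.P.parabolic {(img t).1} := fun t => by
    have := hmin (Fintype.equivFin ↥D.P.S t)
    rwa [Equiv.symm_apply_apply] at this
  have hce : img ⟨c, hc⟩ = ⟨e, he⟩ := by simp [img, hσc]
  have key : ∀ t (ht : t ∈ D.P.S), ¬ Comm D c t → ¬ Comm D e (img ⟨t, ht⟩).1 := by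
    intro t ht hn h
    have hct : c ≠ t := fun e' => hn (by subst e'; show _ ∈ D.P.B; simp)
    have hne : e ≠ (img ⟨t, ht⟩).1 := fun e' => hct (congrArg Subtype.val
      (himg (hce.trans (Subtype.ext e'))))
    refine hn ((swap_iff D hc ht hct).1 ?_)
    have h1 := swap_map D (a := φ.symm) ((swap_iff D he (img ⟨t, ht⟩).2 hne).2 h)
    rw [show e = (img ⟨c, hc⟩).1 by rw [hce]] at h1
    rwa [← hmin' ⟨c, hc⟩, ← hmin' ⟨t, ht⟩, map_map_symm, map_map_symm] at h1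
  exact hab (congrArg Subtype.val (himg (Subtype.ext
    (hend _ (img ⟨a, ha⟩).2 _ (img ⟨b, hb⟩).2 (key a ha hca) (key b hb hcb)))))

end CfsgLib.Chev.PMin.BNLat
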