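import Cfsg.Agent.Lib.KnownC.StOrth

/-!
The polar space of an orthogonal group, with its action and frame named.
-/

set_option autoImplicit false
set_option linter.unusedSectionVars false

namespace CfsgLib.Chev.PMin.OrthPolar

open Module CfsgLib.Geom CfsgLib.Classical CfsgLib.KnownC.Steinberg CfsgLib.KnownC.Steinberg.OrthCase
open QuadraticMap (polar)

variable {F : Type*} [Field F] [Fintype F] {ι : Type} [Fintype ι] [DecidableEq ι]
variable (Q : QuadraticForm F (ι → F)) (hQ : ∀ x, (∀ y, polar Q x y = 0) → x = 0)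

include hQ in
theorem exists_polar {m : ℕ} (e f : Fin m → ι → F) (hQe : ∀ i, Q (e i) = 0) (hQf : ∀ i, Q (f i) = 0)
    (hee : ∀ i j, polar Q (e i) (e j) = 0) (hff : ∀ i j, polar Q (f i) (f j) = 0)
    (hef : ∀ i j, polar Q (e i) (f j) = if i = j then 1 else 0)
    (han : ∀ x, (∀ i, polar Q (e i) x = 0) → Q x = 0 → x ∈ Submodule.span F (Set.range e))
    (hex : (∃ x : F, x ≠ 0 ∧ x ≠ 1) ∨ 5 ≤ Fintype.card ι ∨
      ∀ k v, polar Q (e k) v = 0 → polar Q (f k) v = 0 → Q v = 0 → v = 0) :
    ∃ P : Polar F (ι → F) ↥(Cfsg.Omega F (⇑Q)) (RingHom.id F) m,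
      P.c = 1 ∧ P.φ = omegaEnd Q ∧ P.e = e ∧ P.f = f := by
  have hadd : ∀ u v, Q u = 0 → Q v = 0 → polar Q u v = 0 → Q (u + v) = 0 := fun u v hu hv huv => by
    rw [QuadraticMap.map_add Q u v, hu, hv, huv]; simp
  refine ⟨{
    B := Q.polarBilin
    ε := 1
    ε_ne := one_ne_zero
    swap := fun u v => by
      rw [one_mul, RingHom.id_apply]
      exact QuadraticMap.polar_comm _ v u
    sep := fun x hx => hQ x hx
    S := fun v => Q v = 0
    S_zero := map_zero Q
    S_self := fun v h => polar_self_of_singular Q h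
    S_smul := fun a v h => by rw [quad_smul, h, mul_zero]
    S_add := hadd
    A := quadIsoms Q
    A_B := fun g hg u v => polar_quadIsom hg u v
    A_S := fun g hg v h => (hg v).trans h
    φ := omegaEnd Q
    φ_inj := Subtype.val_injective.comp ((orEquiv Q).symm.injective.comp Subtype.val_injective)
    φ_mem := fun g => ((orEquiv Q).symm g.1).2
    φ_norm := fun h hh g => ⟨⟨orEquiv Q ⟨h, hh⟩ * g.1 * (orEquiv Q ⟨h, hh⟩)⁻¹,
      (inferInstance : (commutator (Cfsg.isometryGroup F (⇑Q))).Normal).conj_mem _ g.2 _⟩, by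
        simp [omegaEnd]⟩
    e := e
    f := f
    S_e := hQe
    S_f := hQf
    B_ee := hee
    B_ff := hff
    B_ef := hef
    aniso := han
    witt := witt_of_extend Q.polarBilin (fun v => Q v = 0) (map_zero Q)
      (fun a v h => by rw [quad_smul, h, mul_zero]) hadd (quadIsoms Q) e
      (frame_li Q.polarBilin e f hef) hQe hee
      (fun X φ hinj hS _ => witt_quadratic Q hQ X φ hinj fun x => by rw [(hS x).1, (hS x).2])
    move := fun k v hv (hev : polar Q (e k) v = 1) => by
      have hef' : polar Q (e k) (f k) = 1 := by rw [hef, if_pos rfl]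
      set w₀ := v - f k
      have hw₀ : polar Q (e k) w₀ = 0 := by rw [QuadraticMap.polar_sub_right, hev, hef', sub_self]
      set t := polar Q (f k) w₀
      have hwe : polar Q (e k) (w₀ - t • e k) = 0 := by
        rw [QuadraticMap.polar_sub_right, QuadraticMap.polar_smul_right, hw₀, hee, smul_zero, sub_zero]
      have hwf : polar Q (f k) (w₀ - t • e k) = 0 := by
        rw [QuadraticMap.polar_sub_right, QuadraticMap.polar_smul_right, QuadraticMap.polar_comm _ (f k) (e k),
          hef', smul_eq_mul, mul_one, sub_self]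
      have hte : polar Q (e k) (t • e k) = 0 := by rw [QuadraticMap.polar_smul_right, hee, smul_zero]
      have hmem : siegel Q (e k) w₀ ∈ commutator (quadIsoms Q) := by
        have h0 : siegel Q (e k) (t • e k) = 1 := by
          refine quadIsoms_ext Q fun z => ?_
          rw [siegel_apply Q (hQe k) hte, quad_smul, hQe k, QuadraticMap.polar_smul_left]
          simp [smul_smul, mul_comm]
        have hm := siegel_mem_commutator Q hQ (hQe k) (hQf k) hef' hwe hwf
          (hex.imp id (Or.imp id fun h => h k))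
        rw [show w₀ = (w₀ - t • e k) + t • e k by abel, siegel_add Q (hQe k) hwe hte, h0, mul_one]
        exact hm
      refine ⟨omegaEquiv Q ⟨_, hmem⟩, ?_⟩
      have happ : ∀ x, omegaEnd Q (omegaEquiv Q ⟨_, hmem⟩) x = (siegel Q (e k) w₀).1 x := fun x => by
        simp [omegaEnd, omegaEquiv_coe]
      refine ⟨?_, ?_, fun x => ?_⟩
      · rw [happ, siegel_apply Q (hQe k) hw₀, hee, QuadraticMap.polar_comm _ w₀ (e k), hw₀]
        simp
      · rw [happ]
        exact siegel_move Q (hQe k) hef' hev ((hQf k).trans hv.symm)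
      · rw [happ, siegel_apply Q (hQe k) hw₀, Submodule.mem_span_singleton]
        exact ⟨-(polar Q w₀ x + Q w₀ * polar Q (e k) x), by
          show _ = _ - polar Q (e k) x • w₀
          module⟩
    c := 1
    count := fun k u (heu : polar Q (e k) u = 0) (hfu : polar Q (f k) u = 0) => by
      have key : ∀ t : F, Q (f k + u + t • e k) = 0 ↔ t = -Q u := fun t => by
        rw [quad_map_add_smul, QuadraticMap.map_add Q (f k) u, hQf, hQe, hfu, QuadraticMap.polar_add_left,
          QuadraticMap.polar_comm _ (f k) (e k), QuadraticMap.polar_comm _ u (e k), hef, if_pos rfl, heu]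
        constructor <;> intro h <;> linear_combination h
      rw [Nat.card_congr (Equiv.subtypeEquivRight key)]
      exact Nat.card_unique }, rfl, rfl, rfl, rfl⟩

end CfsgLib.Chev.PMin.OrthPolar
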