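import Cfsg.Agent.Lib.Chev.PMin.PolarCenter
import Cfsg.Agent.Lib.Chev.PMin.OrthPolar
import Cfsg.Agent.Lib.Chev.PMin.Outcome
import Cfsg.Agent.Lib.Chev.RigidClassical
import Cfsg.Agent.Lib.KnownC.OrthPlusOmega

/-!
The classical groups: lists of the maximal overgroups of a Sylow subgroup, and the exclusion of
rank at least three.
-/

set_option autoImplicit false
set_option linter.unusedSectionVars false

namespace CfsgLib.Chev.PMin.ClassicalFam

open Module CfsgLib.KnownC.Steinberg CfsgLib.KnownC.Steinberg.Polar CfsgLib.Chev.Rigid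

theorem exists_noncomm {G : Type*} [Group G] [IsSimpleGroup G] {U : Subgroup G} (h0 : U ≠ ⊥) (h1 : U ≠ ⊤) :
    ∃ x y : G, x * y ≠ y * x := by
  by_contra h
  push Not at h
  rcases IsSimpleGroup.eq_bot_or_eq_top_of_normal U
    ⟨fun n hn g => by rw [h g n, mul_inv_cancel_right]; exact hn⟩ with e | e
  exacts [h0 e, h1 e]

section Polar

variable {K V Γ : Type*} [Field K] [AddCommGroup V] [Module K V] [Group Γ] {σ : K →+* K} {m : ℕ}

theorem res_polar (P : Polar K V Γ σ m) [FiniteDimensional K V] [Finite K] [Finite Γ] {p : ℕ}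
    [Fact p.Prime] [CharP K p] [IsSimpleGroup (Γ ⧸ Subgroup.center Γ)]
    (hm : 1 ≤ m) {d : ℕ} (hn : finrank K V = 2 * m + d) (hgen : 1 < P.c ∨ 2 < finrank K V)
    (hK : ∃ a, Nat.card K = p ^ a) (hc : ∃ a, P.c = p ^ a)
    (hord : ∃ i N, Nat.card Γ * i = P.c ^ m * Nat.card K ^ (m * (m - 1) + d * m) * N ∧ ¬ p ∣ N)
    (hsw : P.c = 1 ∧ d = 0 → 4 ≤ m ∧
      ∀ l : Fin m, l.val + 1 = m → ∀ g : Γ, ∃ x ∈ first (K := K) P.e m, P.φ g x ∉ PolarLat.alt P l) :
    HasLat p (Γ ⧸ Subgroup.center Γ) m ∧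
      (2 ≤ m → ((∃ r : K, σ r ≠ r) ∨ P.ε ≠ 1 ∨ 3 ≤ m) → Excluded p (Γ ⧸ Subgroup.center Γ)) := by
  classical
  obtain ⟨a, ha⟩ := hK
  obtain ⟨b, hb⟩ := hc
  obtain ⟨i, N, hN, hpN⟩ := hord
  have hp : p.Prime := Fact.out
  obtain ⟨E, hE⟩ : ∃ E, P.c ^ m * Nat.card K ^ (m * (m - 1) + d * m) = p ^ E := by
    rw [ha, hb, ← pow_mul, ← pow_mul, ← pow_add]
    exact ⟨_, rfl⟩
  rw [hE] at hN
  have hdvd : p ^ E ∣ Nat.card Γ := by
    rw [← hE, ← P.card_U hn]
    exact Subgroup.card_subgroup_dvd_card _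
  obtain ⟨M, hM, hcard⟩ := exists_cofactor hdvd hN hpN (pow_ne_zero _ hp.ne_zero)
  have hM0 : M ≠ 0 := fun h => hM (h ▸ dvd_zero p)
  have hmult : (Nat.card Γ).factorization p = E := by
    rw [hcard, Nat.factorization_mul (pow_ne_zero _ hp.ne_zero) hM0, Finsupp.add_apply,
      hp.factorization_pow, Finsupp.single_eq_same, Nat.factorization_eq_zero_of_not_dvd hM, add_zero]
  let S : Sylow p Γ := Sylow.ofCard P.U (by rw [hmult, P.card_U hn, hE])
  have hc1 : 1 ≤ P.c := by rw [hb]; exact Nat.one_le_pow _ _ hp.pos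
  have hS : (S : Subgroup Γ) = P.U := Sylow.coe_ofCard _ _
  obtain ⟨plus, hplus⟩ : ∃ plus : Prop, plus ↔ P.c = 1 ∧ d = 0 := ⟨_, Iff.rfl⟩
  have hfix : ∀ i : Fin m, ∃ v, P.InO i v ∧ (¬ plus → v ≠ P.f i) := by
    intro i
    have hO : P.InO i (P.f i) := ⟨P.S_f _, by rw [P.B_ef, if_pos rfl], fun j hj =>
      ⟨by rw [P.B_ef, if_neg (Fin.ne_of_val_ne hj.ne)], P.B_ff _ _⟩⟩
    by_cases hpl : plus
    · exact ⟨P.f i, hO, fun h => absurd hpl h⟩
    have hq : 1 < Nat.card K := Finite.one_lt_card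
    have h1 : 1 < Nat.card {v // P.InO i v} := by
      rw [P.card_InO hn i]
      rcases Nat.lt_or_ge 1 P.c with hcc | hcc
      · exact lt_mul_of_lt_of_one_le hcc (Nat.one_le_pow _ _ (by omega))
      · rw [show P.c = 1 by omega, one_mul]
        refine Nat.one_lt_pow ?_ hq
        have : d ≠ 0 := fun h => hpl (hplus.2 ⟨by omega, h⟩)
        omega
    haveI : Finite {v // P.InO i v} := Nat.finite_of_card_ne_zero (by omega)
    haveI := Finite.one_lt_card_iff_nontrivial.1 h1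
    obtain ⟨⟨v, hv⟩, hne⟩ := exists_ne (⟨P.f i, hO⟩ : {v // P.InO i v})
    exact ⟨v, hv, fun _ e => hne (Subtype.ext e)⟩
  let o : Fin m := ⟨0, hm⟩
  have hlat := PolarLat.lat P hc1 hn hplus o rfl hgen S hS
    (fun h => (hsw (hplus.1 h)).2) (fun h => le_trans (by norm_num) (hsw (hplus.1 h)).1) hfix
  obtain ⟨S', hS'⟩ := PolarPoints.exists_sylow_quot P o hc1 hgen S hS rfl
  have hne : P.U.map (QuotientGroup.mk' (Subgroup.center Γ)) ≠ ⊥ :=
    PolarLat.map_ne_bot P hc1 o rfl hgen S hS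
  refine ⟨⟨S', hS'.symm ▸ hne, _, hS'.symm ▸ hlat⟩, fun hm2 hcase => ?_⟩
  refine ⟨S', hS'.symm ▸ hne, Or.inl ⟨m, _, hS'.symm ▸ hlat, fun hF => ?_⟩⟩
  rw [hS'] at hF
  have hnc := exists_noncomm hne fun h => hlat.ne_top o (top_le_iff.1 (h ▸ hlat.le o))
  have hpU : IsPGroup p ↥(P.U.map (QuotientGroup.mk' (Subgroup.center Γ))) := hS' ▸ S'.isPGroup'
  obtain ⟨l, hl⟩ : ∃ l : Fin m, l.val + 1 = m := ⟨⟨m - 1, by omega⟩, by show m - 1 + 1 = m; omega⟩
  have hcase' : ((∃ r : K, σ r ≠ r) ∨ P.ε ≠ 1) ∨ 3 ≤ m := (or_assoc).2 hcase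
  -- an element fixing the bottom of the flag and moving one of the subspaces
  obtain ⟨w, j, hwj, hw⟩ : ∃ (w : Γ) (j : Fin m), w ∉ PolarLat.stab P (PolarLat.Wi P plus j) ∧
      ∀ t : Fin m, t.val = 0 ∨ (3 ≤ m ∧ t.val = 1) → P.φ w (P.e t) = P.e t := by
    by_cases hpl : plus
    · have h4 := (hsw (hplus.1 hpl)).1
      obtain ⟨i, hi⟩ : ∃ i : Fin m, i.val + 2 = m := ⟨⟨m - 2, by omega⟩, by show m - 2 + 2 = m; omega⟩
      obtain ⟨g, hgi, hg⟩ := PolarLat.exists_trans P hc1 (i := i) (j := l) (by omega)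
      refine ⟨g, i, fun h => ?_, fun t ht => hg t (Fin.ne_of_val_ne (by omega))⟩
      rw [PolarLat.Wi_alt P hpl hi hl] at h
      have h' := h.1 _ (PolarLat.first_le_alt P l (mem_first _ (show i.val < l.val by omega)))
      rw [hgi] at h'
      exact PolarLat.e_not_mem_alt P l ((Submodule.sub_mem_iff_right _
        (PolarLat.first_le_alt P l (mem_first P.e (show i.val < l.val by omega)))).1 h')
    · obtain ⟨v, hv, hvne⟩ := hfix l
      obtain ⟨g, hg, hgl⟩ := PolarLat.exists_last P hc1 hn hplus hl hv (hvne hpl)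
      refine ⟨g, l, fun h => hgl ?_, fun t ht => hg t (by omega)⟩
      rw [PolarLat.Wi_first P (fun e => hpl e.1), hl] at h
      exact h.1 _ (mem_first _ l.2)
  refine false_of_centCen (w := QuotientGroup.mk' (Subgroup.center Γ) w) (i := j) hpU hne hnc
    (PolarLat.quot_commute P hc1 o rfl hgen S hS (hw o (Or.inl rfl)) ?_)
    (fun h => hwj ((PolarLat.mem_map_stab P hc1 hn hplus o rfl hgen S hS j).1 h)) hF
  rcases hcase' with h | h
  · exact Or.inl h
  · exact Or.inr ⟨⟨1, by omega⟩, ⟨2, by omega⟩, rfl, rfl, hw _ (Or.inr ⟨h, rfl⟩)⟩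

end Polar

variable {F : Type*} [Field F] [Fintype F] (p : ℕ) [Fact p.Prime] [CharP F p]

theorem res_psp {m : ℕ} (hm : 1 ≤ m) [IsSimpleGroup (Cfsg.PSp m F)] :
    HasLat p (Cfsg.PSp m F) m ∧ (2 ≤ m → (p ≠ 2 ∨ 3 ≤ m) → Excluded p (Cfsg.PSp m F)) := by
  classical
  obtain ⟨a, hp, hq⟩ := FiniteField.card F p
  have h := res_polar (SpCase.polar (F := F) m) (p := p) hm (d := 0)
    (by rw [Module.finrank_fintype_fun_eq_card, Fintype.card_sum, Fintype.card_fin]; omega)
    (Or.inl (by rw [SpCase.polar_c]; exact Finite.one_lt_card))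
    ⟨a, by rw [Nat.card_eq_fintype_card, hq]⟩
    ⟨a, by rw [SpCase.polar_c, Nat.card_eq_fintype_card, hq]⟩
    ⟨1, ∏ i ∈ Finset.range m, (Fintype.card F ^ (2 * (i + 1)) - 1), ?_,
      not_dvd_prod hp _ _ fun i _ => (not_dvd_pow_sub_one hp hq a.pos _ (by omega)).1⟩
    (fun h => absurd h.1 (by rw [SpCase.polar_c]; exact (Finite.one_lt_card (α := F)).ne'))
  · refine ⟨h.1, fun h2 hcase => h.2 h2 (Or.inr (hcase.imp_left fun h2' (e : (-1 : F) = 1) => ?_))⟩
    refine h2' ?_
    have e2 : ((2 : ℕ) : F) = 0 := by push_cast; linear_combination -e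
    exact (Nat.prime_dvd_prime_iff_eq hp Nat.prime_two).1 ((CharP.cast_eq_zero_iff F p 2).1 e2)
  rw [mul_one, Nat.card_congr (CfsgLib.Geom.spEquiv m F).symm.toEquiv,
    CfsgLib.Classical.card_formIsoms_alt _ CfsgLib.Geom.sympBilin_self CfsgLib.Geom.sympBilin_sep m
      (by rw [Module.finrank_fintype_fun_eq_card, Fintype.card_sum, Fintype.card_fin]; omega)]
  rw [SpCase.polar_c]
  rw [← pow_add, Nat.card_eq_fintype_card]
  congr 2
  rcases m with _ | k
  · rfl
  · simp only [Nat.add_sub_cancel]; ring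

theorem res_psu {n q : ℕ} (hn : 3 ≤ n) (hF : Fintype.card F = q ^ 2) [IsSimpleGroup (Cfsg.PSU n F q)] :
    HasLat p (Cfsg.PSU n F q) (n / 2) ∧ (4 ≤ n → Excluded p (Cfsg.PSU n F q)) := by
  classical
  obtain ⟨m, d, hnm, hd, hm, hmn⟩ : ∃ m d, n = 2 * m + d ∧ d ≤ 1 ∧ 1 ≤ m ∧ m = n / 2 :=
    ⟨n / 2, n % 2, by omega, by omega, by omega, rfl⟩
  obtain ⟨P, hc⟩ := HermCase.exists_polar hF hnm hd
  obtain ⟨a, hp, hq2⟩ := FiniteField.card F p
  have hq := CfsgLib.Classical.two_le_of_card_sq hF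
  obtain ⟨f, -, hqf⟩ := (Nat.dvd_prime_pow hp).1 (by
    rw [← hq2, hF]; exact dvd_pow_self q two_ne_zero : q ∣ p ^ (a : ℕ))
  have hf : 0 < f := Nat.pos_of_ne_zero fun h => by rw [h, pow_zero] at hqf; omega
  have h := res_polar P (p := p) hm (d := d)
    (by rw [Module.finrank_fintype_fun_eq_card, Fintype.card_fin, hnm]) (Or.inl (by rw [hc]; omega))
    ⟨a, by rw [Nat.card_eq_fintype_card, hq2]⟩ ⟨f, by rw [hc, hqf]⟩
    ⟨q + 1, ∏ i ∈ Finset.range n, (if Even i then q ^ (i + 1) + 1 else q ^ (i + 1) - 1), ?_,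
      not_dvd_prod hp _ _ fun i _ => ?_⟩
    (fun h => absurd h.1 (by omega))
  · subst hmn
    refine ⟨h.1, fun h4 => h.2 (by omega) (Or.inl ?_)⟩
    by_contra hall
    push Not at hall
    let Q : Polynomial F := Polynomial.X ^ q - Polynomial.X
    have hQ0 : Q ≠ 0 := FiniteField.X_pow_card_sub_X_ne_zero F (by omega)
    have hdeg : Q.natDegree = q := FiniteField.X_pow_card_sub_X_natDegree_eq F (by omega)
    have hle : Fintype.card F ≤ Q.natDegree := by
      refine le_trans ?_ (Polynomial.card_le_degree_of_subset_roots (Z := Finset.univ) fun x _ => ?_)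
      · rw [Finset.card_univ]
      · rw [Multiset.mem_toList.symm, Multiset.mem_toList, Polynomial.mem_roots hQ0]
        have hx := hall x
        rw [CfsgLib.Classical.qFrob_apply] at hx
        simp [Q, hx]
    rw [hdeg, hF] at hle
    nlinarith
  · rw [mul_comm, CfsgLib.Classical.card_su_mul hF (by omega), CfsgLib.Classical.card_gu hF, hc,
      Nat.card_eq_fintype_card, hF, ← pow_mul, ← pow_add]
    congr 2
    subst hnm
    obtain ⟨k, rfl⟩ : ∃ k, m = k + 1 := ⟨m - 1, by omega⟩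
    rcases (show d = 0 ∨ d = 1 by omega) with rfl | rfl
    · rw [show (2 * (k + 1) + 0) * (2 * (k + 1) + 0 - 1) = 2 * ((k + 1) * (2 * k + 1)) from
        by rw [show 2 * (k + 1) + 0 - 1 = 2 * k + 1 by omega]; ring, Nat.mul_div_cancel_left _ two_pos]
      simp only [Nat.add_sub_cancel]; ring
    · rw [show (2 * (k + 1) + 1) * (2 * (k + 1) + 1 - 1) = 2 * ((k + 1) * (2 * k + 3)) from
        by rw [show 2 * (k + 1) + 1 - 1 = 2 * (k + 1) by omega]; ring, Nat.mul_div_cancel_left _ two_pos]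
      simp only [Nat.add_sub_cancel]; ring
  · have := not_dvd_pow_sub_one hp hqf hf (i + 1) i.succ_pos
    split_ifs
    exacts [this.2, this.1]

section Orth

open CfsgLib.Geom CfsgLib.Classical CfsgLib.KnownC
open QuadraticMap (polar)
open scoped Matrix

theorem res_of_quad {ι : Type} [Fintype ι] [DecidableEq ι] (Q : QuadraticForm F (ι → F))
    (hQ : ∀ x, (∀ y, polar Q x y = 0) → x = 0) {m d : ℕ} (hm : 3 ≤ m)
    (e f : Fin m → ι → F) (hQe : ∀ i, Q (e i) = 0) (hQf : ∀ i, Q (f i) = 0)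
    (hee : ∀ i j, polar Q (e i) (e j) = 0) (hff : ∀ i j, polar Q (f i) (f j) = 0)
    (hef : ∀ i j, polar Q (e i) (f j) = if i = j then 1 else 0)
    (han : ∀ x, (∀ i, polar Q (e i) x = 0) → Q x = 0 → x ∈ Submodule.span F (Set.range e))
    (hn : Fintype.card ι = 2 * m + d) (h5 : 5 ≤ Fintype.card ι)
    (hord : ∃ i N, Nat.card ↥(Cfsg.Omega F (⇑Q)) * i = Fintype.card F ^ (m * (m - 1) + d * m) * N ∧ ¬ p ∣ N)
    (hd : d = 0 → 4 ≤ m)
    [IsSimpleGroup (Cfsg.POmega F (⇑Q))] :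
    HasLat p (Cfsg.POmega F (⇑Q)) m ∧ Excluded p (Cfsg.POmega F (⇑Q)) := by
  classical
  obtain ⟨P, hc, hφ, he, hPf⟩ := OrthPolar.exists_polar Q hQ e f hQe hQf hee hff hef han (Or.inr (Or.inl h5))
  obtain ⟨a, hp, hq⟩ := FiniteField.card F p
  obtain ⟨i, N, hN, hpN⟩ := hord
  have h := res_polar P (p := p) (by omega) (d := d) (by rw [Module.finrank_fintype_fun_eq_card, hn])
    (Or.inr (by rw [Module.finrank_fintype_fun_eq_card]; omega))
    ⟨a, by rw [Nat.card_eq_fintype_card, hq]⟩ ⟨0, by rw [hc, pow_zero]⟩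
    ⟨i, N, by rw [hN, hc, one_pow, one_mul, Nat.card_eq_fintype_card], hpN⟩ ?_
  · exact ⟨h.1, h.2 (by omega) (Or.inr (Or.inr hm))⟩
  rintro ⟨-, rfl⟩
  refine ⟨hd rfl, fun l hl g => ?_⟩
  by_contra hall
  push Not at hall
  have hli : LinearIndependent F P.e := by
    have := P.av_li (dStd (m := m))
    rwa [P.av_dStd] at this
  have hU : IsMaxTS Q m (first (K := F) P.e m) := by
    refine ⟨finrank_first hli le_rfl, fun u hu => ?_⟩
    induction hu using Submodule.span_induction with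
    | mem x hx => obtain ⟨k, rfl⟩ := hx; rw [he]; exact hQe _
    | zero => exact map_zero Q
    | smul r x _ ih => rw [QuadraticMap.map_smul, ih, smul_zero]
    | add x y hx hy ihx ihy =>
      rw [QuadraticMap.map_add Q x y, ihx, ihy, zero_add, zero_add]
      have key : ∀ v ∈ first (K := F) P.e m, ∀ k, polar Q (e k) v = 0 := fun v hv k => by
        induction hv using Submodule.span_induction with
        | mem z hz => obtain ⟨j, rfl⟩ := hz; rw [he]; exact hee _ _
        | zero => exact QuadraticMap.polar_zero_right _ _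
        | smul r z _ ih => rw [QuadraticMap.polar_smul_right, ih, smul_zero]
        | add z z' _ _ ih ih' => rw [QuadraticMap.polar_add_right, ih, ih', add_zero]
      clear ihx
      induction hx using Submodule.span_induction with
      | mem z hz => obtain ⟨j, rfl⟩ := hz; rw [he]; exact key y hy _
      | zero => exact QuadraticMap.polar_zero_left _ _
      | smul r z _ ih => rw [QuadraticMap.polar_smul_left, ih, smul_zero]
      | add z z' _ _ ih ih' => rw [QuadraticMap.polar_add_left, ih, ih', add_zero]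
  have hS := splitCtx_of_sep hQ (by omega) hU (by omega)
  have hex : (∃ t : F, t ≠ 0 ∧ t ≠ 1) ∨ Module.finrank F (ι → F) ≠ 4 :=
    Or.inr (by rw [Module.finrank_fintype_fun_eq_card]; omega)
  have hpar := (spinorHom_fst_iff_parity hS hQ hex g.1).1 (by
    have hg : g.1 ∈ (spinorHom Q hQ hex).ker :=
      (SetLike.ext_iff.1 (omega_eq_ker_spinorHom Q hQ hex) g.1).1 g.2
    rw [MonoidHom.mem_ker] at hg
    rw [hg]; rfl)
  have himg : Cfsg.imageSubmodule g.1.1.1 (first (K := F) P.e m) = PolarLat.alt P l := by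
    refine Submodule.eq_of_le_of_finrank_le ?_ ?_
    · rintro _ ⟨x, hx, rfl⟩
      have := hall x hx
      rw [hφ] at this
      rw [Matrix.toLin'_apply]
      have e1 : g.1.1.1 *ᵥ x = OrthCase.omegaEnd Q g x := by
        conv_lhs => rw [← (orEquiv Q).apply_symm_apply g.1]
        rw [orEquiv_mulVec]
        rfl
      rw [e1]; exact this
    · rw [PolarLat.alt_eq P hl, finrank_first (P.av_li _) le_rfl,
        (isMaxTS_image (μ := 1) (fun v => by rw [one_mul]; exact (mem_isometryGroup_iff _ _).1 g.1.2 v) hU).1]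
  rw [himg] at hpar
  have hinf : first (K := F) P.e m ⊓ PolarLat.alt P l = first (K := F) P.e l.val := by
    refine le_antisymm (fun x hx => ?_) (le_inf (first_mono _ (by omega)) (PolarLat.first_le_alt P l))
    have h1 := PolarLat.B_el_alt P hx.2
    rwa [(P.mem_perpE (i := m)).1 (P.first_e_le_perpE _ _ hx.1) l l.2, zero_smul, sub_zero] at h1
  rw [hinf, finrank_first hli (by omega), show m - l.val = 1 by omega] at hpar
  exact Nat.not_even_one hpar

theorem res_odd (hodd : Odd (Fintype.card F)) {m : ℕ} (hm : 3 ≤ m)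
    [IsSimpleGroup (Cfsg.POmega F (Cfsg.quadFormOdd m F))] :
    HasLat p (Cfsg.POmega F (Cfsg.quadFormOdd m F)) m ∧ Excluded p (Cfsg.POmega F (Cfsg.quadFormOdd m F)) := by
  classical
  have h2 := two_ne_zero_of_odd hodd
  obtain ⟨a, hp, hq⟩ := FiniteField.card F p
  have hcard : Fintype.card (Unit ⊕ (Fin m ⊕ Fin m)) = 2 * m + 1 := by simp; omega
  have hord := OrthCase.exists_hord (qfOdd m F) (qfOdd_sep h2 m) p (by rw [hcard]; omega)
    (by rw [Module.finrank_fintype_fun_eq_card, hcard]; exact Or.inr (by omega))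
    (not_dvd_prod hp (Finset.range m) (fun i => Fintype.card F ^ (2 * (i + 1)) - 1)
      fun i _ => (not_dvd_pow_sub_one hp hq a.pos _ (by omega)).1) (card_qfOdd_isoms h2 m)
  revert ‹IsSimpleGroup _›
  rw [← qfOdd_coe]
  intro
  refine res_of_quad p (qfOdd m F) (qfOdd_sep h2 m) (d := 1) hm
    (fun i => Pi.single (.inr (.inl i)) 1) (fun i => Pi.single (.inr (.inr i)) 1)
    (fun i => by simp [qfOdd_apply, Cfsg.quadFormOdd, Pi.single_apply])
    (fun i => by simp [qfOdd_apply, Cfsg.quadFormOdd, Pi.single_apply])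
    (fun i j => by simp [polar_qfOdd, Pi.single_apply])
    (fun i j => by simp [polar_qfOdd, Pi.single_apply])
    (fun i j => by simp [polar_qfOdd, Pi.single_apply, eq_comm]) ?_
    hcard (by rw [hcard]; omega) ?_ (by omega)
  · intro x hx hQx
    have hy : ∀ i, x (.inr (.inr i)) = 0 := fun i => by
      simpa [polar_qfOdd, Pi.single_apply] using hx i
    have h0 : x (.inl ()) = 0 := by
      simpa [qfOdd_apply, Cfsg.quadFormOdd, hy] using hQx
    have : x = ∑ i, x (.inr (.inl i)) • (Pi.single (.inr (.inl i)) 1 : Unit ⊕ (Fin m ⊕ Fin m) → F) := by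
      funext j
      rw [Finset.sum_apply]
      rcases j with ⟨⟩ | j | j
      · simp [h0]
      · simp [Pi.single_apply]
      · simp [hy]
    rw [this]
    exact Submodule.sum_mem _ fun i _ => Submodule.smul_mem _ _ (Submodule.subset_span ⟨i, rfl⟩)
  · obtain ⟨k, rfl⟩ : ∃ k, m = k + 1 := ⟨m - 1, by omega⟩
    rwa [show (k + 1) * (k + 1 - 1) + 1 * (k + 1) = (k + 1) ^ 2 by rw [Nat.add_sub_cancel]; ring]

theorem res_plus {m : ℕ} (hm : 4 ≤ m) [IsSimpleGroup (Cfsg.POmega F (Cfsg.quadFormPlus m F))] :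
    HasLat p (Cfsg.POmega F (Cfsg.quadFormPlus m F)) m ∧
      Excluded p (Cfsg.POmega F (Cfsg.quadFormPlus m F)) := by
  classical
  obtain ⟨a, hp, hq⟩ := FiniteField.card F p
  obtain ⟨k, rfl⟩ : ∃ k, m = k + 1 := ⟨m - 1, by omega⟩
  have hcard : Fintype.card (Fin (k + 1) ⊕ Fin (k + 1)) = 2 * (k + 1) + 0 := by simp; omega
  have hC : ¬ p ∣ (Fintype.card F ^ (k + 1) - 1) * ∏ i ∈ Finset.range k, (Fintype.card F ^ (2 * (i + 1)) - 1) := by
    intro hd
    rcases hp.dvd_mul.1 hd with hd | hd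
    · exact (not_dvd_pow_sub_one hp hq a.pos _ k.succ_pos).1 hd
    · exact not_dvd_prod hp _ _ (fun i _ => (not_dvd_pow_sub_one hp hq a.pos _ (by omega)).1) hd
  have hord := OrthCase.exists_hord (qfPlus (k + 1) F) (qfPlus_sep (k + 1)) p (by rw [hcard]; omega)
    (by rw [Module.finrank_fintype_fun_eq_card, hcard]; exact Or.inr (by omega))
    hC ((card_qfPlus_isoms k).trans (mul_assoc _ _ _))
  revert ‹IsSimpleGroup _›
  rw [← qfPlus_coe]
  intro
  refine res_of_quad p (qfPlus (k + 1) F) (qfPlus_sep (k + 1)) (d := 0) (by omega)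
    (fun i => Pi.single (.inl i) 1) (fun i => Pi.single (.inr i) 1)
    (fun i => by simp [qfPlus_apply, Cfsg.quadFormPlus, Pi.single_apply])
    (fun i => by simp [qfPlus_apply, Cfsg.quadFormPlus, Pi.single_apply])
    (fun i j => by simp [polar_qfPlus, Pi.single_apply])
    (fun i j => by simp [polar_qfPlus, Pi.single_apply])
    (fun i j => by simp [polar_qfPlus, Pi.single_apply, eq_comm]) ?_ hcard (by rw [hcard]; omega) ?_
    (fun _ => hm)
  · intro x hx _
    have hy : ∀ i, x (.inr i) = 0 := fun i => by simpa [polar_qfPlus, Pi.single_apply] using hx i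
    have : x = ∑ i, x (.inl i) • (Pi.single (.inl i) 1 : Fin (k + 1) ⊕ Fin (k + 1) → F) := by
      funext j
      rw [Finset.sum_apply]
      rcases j with j | j
      · simp [Pi.single_apply]
      · simp [hy]
    rw [this]
    exact Submodule.sum_mem _ fun i _ => Submodule.smul_mem _ _ (Submodule.subset_span ⟨i, rfl⟩)
  · rwa [zero_mul, add_zero, Nat.add_sub_cancel]

theorem res_minus {m : ℕ} (hm : 3 ≤ m) {a b : F}
    (hab : ∀ z₁ z₂ : F, z₁ ^ 2 + a * z₁ * z₂ + b * z₂ ^ 2 = 0 → z₁ = 0 ∧ z₂ = 0)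
    [IsSimpleGroup (Cfsg.POmega F (Cfsg.quadFormMinus m F a b))] :
    HasLat p (Cfsg.POmega F (Cfsg.quadFormMinus m F a b)) m ∧
      Excluded p (Cfsg.POmega F (Cfsg.quadFormMinus m F a b)) := by
  classical
  obtain ⟨f, hp, hq⟩ := FiniteField.card F p
  have hcard : Fintype.card ((Fin m ⊕ Fin m) ⊕ Fin 2) = 2 * m + 2 := by simp; omega
  have hQ := qfMinus_sep m hab
  have hC : ¬ p ∣ (Fintype.card F ^ (m + 1) + 1) * ∏ i ∈ Finset.range m, (Fintype.card F ^ (2 * (i + 1)) - 1) := by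
    intro hd
    rcases hp.dvd_mul.1 hd with hd | hd
    · exact (not_dvd_pow_sub_one hp hq f.pos _ m.succ_pos).2 hd
    · exact not_dvd_prod hp _ _ (fun i _ => (not_dvd_pow_sub_one hp hq f.pos _ (by omega)).1) hd
  have hisoms : Nat.card (quadIsoms (qfMinus m F a b)) = 2 * Fintype.card F ^ ((m + 1) * m) *
      ((Fintype.card F ^ (m + 1) + 1) * ∏ i ∈ Finset.range m, (Fintype.card F ^ (2 * (i + 1)) - 1)) :=
    (card_qfMinus_isoms hab m).trans (mul_assoc _ _ _)
  have hord := OrthCase.exists_hord (qfMinus m F a b) hQ p (by rw [hcard]; omega)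
    (Or.inr (by rw [Module.finrank_fintype_fun_eq_card, hcard]; omega)) hC hisoms
  revert ‹IsSimpleGroup _›
  rw [← qfMinus_coe]
  intro
  refine res_of_quad p (qfMinus m F a b) hQ (d := 2) hm
    (fun i => Pi.single (.inl (.inl i)) 1) (fun i => Pi.single (.inl (.inr i)) 1)
    (fun i => by simp [qfMinus_apply, Cfsg.quadFormMinus, Pi.single_apply])
    (fun i => by simp [qfMinus_apply, Cfsg.quadFormMinus, Pi.single_apply])
    (fun i j => by simp [polar_qfMinus, Pi.single_apply])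
    (fun i j => by simp [polar_qfMinus, Pi.single_apply])
    (fun i j => by simp [polar_qfMinus, Pi.single_apply, eq_comm]) ?_ hcard (by rw [hcard]; omega) ?_
    (by omega)
  · intro x hx hQx
    have hy : ∀ i, x (.inl (.inr i)) = 0 := fun i => by
      simpa [polar_qfMinus, Pi.single_apply] using hx i
    have h0 := hab (x (.inr 0)) (x (.inr 1)) (by simpa [qfMinus_apply, Cfsg.quadFormMinus, hy] using hQx)
    have : x = ∑ i, x (.inl (.inl i)) • (Pi.single (.inl (.inl i)) 1 : (Fin m ⊕ Fin m) ⊕ Fin 2 → F) := by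
      funext j
      rw [Finset.sum_apply]
      rcases j with (j | j) | j
      · simp [Pi.single_apply]
      · simp [hy]
      · fin_cases j <;> simp [h0.1, h0.2]
    rw [this]
    exact Submodule.sum_mem _ fun i _ => Submodule.smul_mem _ _ (Submodule.subset_span ⟨i, rfl⟩)
  · rwa [show m * (m - 1) + 2 * m = (m + 1) * m by
      obtain ⟨k, rfl⟩ : ∃ k, m = k + 1 := ⟨m - 1, by omega⟩
      rw [Nat.add_sub_cancel]; ring]

end Orth

end CfsgLib.Chev.PMin.ClassicalFam
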