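import Cfsg.Agent.Lib.Chev.PMin.Lattice
import Cfsg.Prelude.Def_LocalEven

/-!
A `p`-minimal group with a simple normal subgroup `K`: the overgroups of a Sylow subgroup of `K`
which are invariant under its normalizer.
-/

set_option autoImplicit false

namespace CfsgLib.Chev.PMin

variable {X : Type*} [Group X] [Finite X] {p : ℕ} [Fact p.Prime]
variable {K : Subgroup X} [K.Normal] (U : Sylow p ↥K)

set_option quotPrecheck false in
local notation "U'" => Subgroup.map K.subtype (U : Subgroup ↥K)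
set_option quotPrecheck false in
local notation "NU" => Subgroup.normalizer ((Subgroup.map K.subtype (U : Subgroup ↥K) : Subgroup X) : Set X)
set_option quotPrecheck false in
local notation "conjK" x => MulEquiv.toMonoidHom (MulAut.conjNormal (H := K) x)

theorem mem_U'_iff {z : ↥K} : (z : X) ∈ U' ↔ z ∈ (U : Subgroup ↥K) := by
  constructor
  · rintro ⟨y, hy, e⟩
    exact Subtype.ext e ▸ hy
  · exact fun h => ⟨z, h, rfl⟩

theorem aut_fix {x : X} (hx : x ∈ NU) : (U : Subgroup ↥K).map (conjK x) = (U : Subgroup ↥K) := by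
  ext z
  rw [mem_map_iff, ← mem_U'_iff U, ← mem_U'_iff U]
  rw [MulAut.conjNormal_symm_apply]
  have h := Subgroup.mem_normalizer_iff''.1 hx (z : X)
  exact h.symm

theorem mem_normalizer_coe {k : ↥K} :
    (k : X) ∈ NU ↔ k ∈ Subgroup.normalizer ((U : Subgroup ↥K) : Set ↥K) := by
  simp only [Subgroup.mem_normalizer_iff, SetLike.mem_coe]
  constructor
  · intro h z
    have := h (z : X)
    rwa [mem_U'_iff U, show (k : X) * z * (k : X)⁻¹ = ((k * z * k⁻¹ : ↥K) : X) from rfl, mem_U'_iff U] at this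
  · intro h z
    constructor
    · rintro ⟨y, hy, rfl⟩
      exact ⟨k * y * k⁻¹, (h y).1 hy, rfl⟩
    · rintro ⟨y, hy, e⟩
      refine ⟨k⁻¹ * y * k, (h _).2 ?_, ?_⟩
      · rw [show k * (k⁻¹ * y * k) * k⁻¹ = y by group]; exact hy
      · simp only [Subgroup.coe_subtype] at e
        simp [e, mul_assoc]

theorem map_conj_self {Q : Subgroup ↥K} {k : ↥K} (hk : k ∈ Q) : Q.map (conjK (k : X)) = Q := by
  ext z
  rw [mem_map_iff]
  have e : (MulAut.conjNormal (H := K) (k : X)).symm z = k⁻¹ * z * k :=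
    Subtype.ext (by rw [MulAut.conjNormal_symm_apply]; rfl)
  rw [e, Subgroup.mul_mem_cancel_right Q hk, Subgroup.mul_mem_cancel_left Q (Q.inv_mem hk)]

theorem map_conj_inv {Q R : Subgroup ↥K} {x : X} (h : Q.map (conjK x) = R) :
    R.map (conjK x⁻¹) = Q := by
  rw [← h]
  have e : MulAut.conjNormal (H := K) x⁻¹ = (MulAut.conjNormal (H := K) x).symm := map_inv _ _
  rw [e]
  exact map_map_symm _ _

/-- The unique maximal subgroup over a Sylow subgroup, and what lies in it. -/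
theorem exists_max [IsSimpleGroup ↥K] (hX : Cfsg.IsPMinimal p X) (hU0 : (U : Subgroup ↥K) ≠ ⊥)
    (hU1 : (U : Subgroup ↥K) ≠ ⊤) :
    ∃ (S : Sylow p X) (M : Subgroup X), IsCoatom M ∧ NU ≤ M ∧ ¬ K ≤ M ∧ (S : Subgroup X) ≤ NU ∧
      (S : Subgroup X) ⊔ K = ⊤ ∧ NU ⊔ K = ⊤ ∧
      ∀ Q : Subgroup ↥K, (U : Subgroup ↥K) ≤ Q → Q ≠ ⊤ → (∀ x ∈ NU, Q.map (conjK x) = Q) →
        Q ≤ M.subgroupOf K := by
  obtain ⟨S, hS⟩ := (U.isPGroup'.map K.subtype).exists_le_sylow
  have hSK : ∀ x ∈ (S : Subgroup X), x ∈ K → x ∈ U' := by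
    intro x hxS hxK
    have h := U.is_maximal' (S.isPGroup'.comap_of_injective K.subtype K.subtype_injective)
      fun u hu => hS ⟨u, hu, rfl⟩
    exact ⟨⟨x, hxK⟩, h.le hxS, rfl⟩
  have hSN : (S : Subgroup X) ≤ NU := by
    have key : ∀ s ∈ (S : Subgroup X), ∀ z ∈ U', s * z * s⁻¹ ∈ U' := fun s hs z hz =>
      hSK _ (mul_mem (mul_mem hs (hS hz)) (inv_mem hs))
        (Subgroup.Normal.conj_mem ‹K.Normal› z (Subgroup.map_subtype_le _ hz) s)
    intro s hs
    refine Subgroup.mem_normalizer_iff.2 fun z => ⟨key s hs z, fun hz => ?_⟩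
    simpa [mul_assoc] using key _ (inv_mem hs) _ hz
  have hfr : NU ⊔ K = ⊤ := Sylow.normalizer_sup_eq_top U
  have hN : NU ≠ ⊤ := by
    intro h
    have hn : (U : Subgroup ↥K).Normal := Subgroup.normalizer_eq_top_iff.1
      (eq_top_iff.2 fun k _ => (mem_normalizer_coe U).1 (h ▸ Subgroup.mem_top _))
    rcases hn.eq_bot_or_eq_top with h1 | h1
    · exact hU0 h1
    · exact hU1 h1
  obtain ⟨-, M, ⟨hM, hSM⟩, huniq⟩ := hX S
  have hmax : ∀ Q : Subgroup X, (S : Subgroup X) ≤ Q → Q ≠ ⊤ → Q ≤ M := fun Q hle hne => by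
    obtain ⟨M', hM', hQM⟩ := (eq_top_or_exists_le_coatom Q).resolve_left hne
    rw [← huniq M' ⟨hM', hle.trans hQM⟩]
    exact hQM
  have hNM := hmax _ hSN hN
  have hKM : ¬ K ≤ M := fun h => hM.1 (top_le_iff.1 (hfr ▸ sup_le hNM h))
  have hSK' : (S : Subgroup X) ⊔ K = ⊤ := by
    by_contra h
    exact hKM (le_sup_right.trans (hmax _ le_sup_left h))
  refine ⟨S, M, hM, hNM, hKM, hSN, hSK', hfr, fun Q hUQ hQ hinv q hq => ?_⟩
  have hnorm : (S : Subgroup X) ≤ Subgroup.normalizer ((Q.map K.subtype : Subgroup X) : Set X) := by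
    have key : ∀ s ∈ NU, ∀ z ∈ Q.map K.subtype, s * z * s⁻¹ ∈ Q.map K.subtype := by
      rintro s hs _ ⟨z, hz, rfl⟩
      exact ⟨(conjK s) z, (hinv s hs).le (Subgroup.mem_map_of_mem _ hz), MulAut.conjNormal_apply s z⟩
    intro s hs
    refine Subgroup.mem_normalizer_iff.2 fun z => ⟨key s (hSN hs) z, fun hz => ?_⟩
    simpa [mul_assoc] using key _ (inv_mem (hSN hs)) _ hz
  have hne : Q.map K.subtype ⊔ (S : Subgroup X) ≠ ⊤ := by
    intro h
    refine hQ (eq_top_iff.2 fun k _ => ?_)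
    have hk : (k : X) ∈ ((Q.map K.subtype ⊔ (S : Subgroup X) : Subgroup X) : Set X) := h ▸ Subgroup.mem_top _
    rw [Subgroup.coe_mul_of_right_le_normalizer_left _ _ hnorm] at hk
    obtain ⟨a, ha, s, hs, e⟩ := hk
    obtain ⟨a', ha', rfl⟩ := ha
    have hs' : s ∈ Q.map K.subtype := Subgroup.map_mono hUQ (hSK s hs (by
      rw [show s = ((a' : X))⁻¹ * (k : X) by rw [← e]; simp]
      exact mul_mem (inv_mem a'.2) k.2))
    obtain ⟨b, hb, rfl⟩ := hs'
    rw [show k = a' * b from Subtype.ext e.symm]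
    exact mul_mem ha' hb
  exact hmax _ le_sup_right hne (Subgroup.mem_sup_left ⟨q, hq, rfl⟩)

/-- Two invariant proper overgroups generating everything exclude the group. -/
theorem false_of_pair [IsSimpleGroup ↥K] (hX : Cfsg.IsPMinimal p X) (hU0 : (U : Subgroup ↥K) ≠ ⊥)
    (hU1 : (U : Subgroup ↥K) ≠ ⊤) {Q R : Subgroup ↥K} (hQ : Canon (U : Subgroup ↥K) Q)
    (hR : Canon (U : Subgroup ↥K) R) (hUQ : (U : Subgroup ↥K) ≤ Q) (hUR : (U : Subgroup ↥K) ≤ R)
    (hQ1 : Q ≠ ⊤) (hR1 : R ≠ ⊤) (hgen : Q ⊔ R = ⊤) : False := by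
  obtain ⟨-, M, -, -, hKM, -, -, -, hQ'⟩ := exists_max U hX hU0 hU1
  refine hKM fun k hk => ?_
  have h : (⟨k, hk⟩ : ↥K) ∈ M.subgroupOf K :=
    sup_le (hQ' Q hUQ hQ1 fun x hx => hQ _ (aut_fix U hx)) (hQ' R hUR hR1 fun x hx => hR _ (aut_fix U hx))
      (hgen ▸ Subgroup.mem_top _)
  exact h

/-- The normalizer is maximal, and the listed overgroups form one orbit of prime power length. -/
theorem of_lat [IsSimpleGroup ↥K] (hX : Cfsg.IsPMinimal p X) (hU0 : (U : Subgroup ↥K) ≠ ⊥)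
    {n : ℕ} {C : Fin n → Subgroup ↥K} (hC : Lat (U : Subgroup ↥K) C) :
    IsCoatom NU ∧ Facts p (U : Subgroup ↥K) C ∧ (K = ⊤ → n ≤ 1) := by
  have hU1 : (U : Subgroup ↥K) ≠ ⊤ := fun h => hC.ne_top ⟨0, hC.pos⟩ (top_le_iff.1 (h ▸ hC.le _))
  obtain ⟨S, M, hM, hNM, hKM, hSN, hSK, hfr, hQ⟩ := exists_max U hX hU0 hU1
  let L : Subgroup ↥K := M.subgroupOf K
  have hLne : L ≠ ⊤ := fun h => hKM (Subgroup.subgroupOf_eq_top.1 h)
  have hUL : (U : Subgroup ↥K) ≤ L := fun u hu => hNM (Subgroup.le_normalizer ⟨u, hu, rfl⟩)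
  have hLinv : ∀ x ∈ NU, L.map (conjK x) = L := by
    intro x hx
    ext z
    rw [mem_map_iff, Subgroup.mem_subgroupOf, Subgroup.mem_subgroupOf, MulAut.conjNormal_symm_apply,
      Subgroup.mul_mem_cancel_right M (hNM hx), Subgroup.mul_mem_cancel_left M (M.inv_mem (hNM hx))]
  -- invariance from one inclusion
  have hfix : ∀ Q : Subgroup ↥K, (∀ x ∈ NU, Q.map (conjK x) ≤ Q) → ∀ x ∈ NU, Q.map (conjK x) = Q := by
    refine fun Q h x hx => le_antisymm (h x hx) ?_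
    conv_lhs => rw [← map_conj_inv (x := x⁻¹) (Q := Q) rfl, inv_inv]
    exact Subgroup.map_mono (h _ (inv_mem hx))
  have himg : ∀ x ∈ NU, ∀ i, ∃ j, (C i).map (conjK x) = C j := fun x hx i => hC.exists_image (aut_fix U hx) i
  -- invariant intersections
  have hinf : ∀ I : Set (Fin n), (∀ x ∈ NU, ∀ i ∈ I, ∀ j, (C i).map (conjK x) = C j → j ∈ I) →
      I.Nonempty → (⨅ i ∈ I, C i) ≤ L := by
    intro I hI hne
    refine hQ _ (le_iInf₂ fun i _ => hC.le i) (fun h => ?_) (hfix _ fun x hx => ?_)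
    · obtain ⟨i, hi⟩ := hne
      exact hC.ne_top i (top_le_iff.1 (h.symm.le.trans (iInf₂_le i hi)))
    · refine le_iInf₂ fun j hj => ?_
      obtain ⟨i, hi⟩ := himg x⁻¹ (inv_mem hx) j
      have hiI := hI _ (inv_mem hx) j hj i hi
      have h2 := map_conj_inv hi
      rw [inv_inv] at h2
      rw [← h2]
      exact Subgroup.map_mono (iInf₂_le i hiI)
  have hLC : ∀ i, L ≤ C i := by
    obtain ⟨a, ha⟩ := hC.cover L hUL hLne
    intro i
    by_contra hi
    obtain ⟨w, hw, hw'⟩ := hC.wit a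
    refine hw (ha (hinf {j | ¬ L ≤ C j} ?_ ⟨i, hi⟩ ?_))
    · intro x hx j hj k hjk hk
      refine hj ?_
      rw [← hLinv x⁻¹ (inv_mem hx), ← map_conj_inv hjk]
      exact Subgroup.map_mono hk
    · refine Subgroup.mem_iInf.2 fun j => Subgroup.mem_iInf.2 fun hj => hw' j fun e => ?_
      exact hj (e ▸ ha)
  have hBL : Subgroup.normalizer ((U : Subgroup ↥K) : Set ↥K) ≤ L := fun k hk => hNM ((mem_normalizer_coe U).2 hk)
  have hLB : L ≤ Subgroup.normalizer ((U : Subgroup ↥K) : Set ↥K) := fun x hx => hC.inf_le x fun i => hLC i hx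
  have hNM' : M = NU := by
    refine le_antisymm (fun m hm => ?_) hNM
    obtain ⟨x, hx, k, hk, rfl⟩ := Subgroup.mem_sup_of_normal_right.1 (hfr.ge (Subgroup.mem_top m))
    refine mul_mem hx ((mem_normalizer_coe U (k := ⟨k, hk⟩)).2 (hLB ?_))
    show k ∈ M
    exact (Subgroup.mul_mem_cancel_left M (hNM hx)).1 hm
  have htrans : ∀ i j, ∃ x ∈ NU, (C i).map (conjK x) = C j := by
    intro i
    by_contra hcon
    push Not at hcon
    obtain ⟨j, hj⟩ := hcon
    obtain ⟨w, hw, hw'⟩ := hC.wit j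
    refine hw (hLC j (hinf {k | ∃ x ∈ NU, (C i).map (conjK x) = C k} ?_
      ⟨i, 1, one_mem _, by rw [map_one]; exact Subgroup.map_id _⟩ ?_))
    · rintro y hy k ⟨x, hx, hxk⟩ l hl
      refine ⟨y * x, mul_mem hy hx, ?_⟩
      rw [← hl, ← hxk, Subgroup.map_map, map_mul]
      rfl
    · refine Subgroup.mem_iInf.2 fun k => Subgroup.mem_iInf.2 fun ⟨x, hx, hxk⟩ => hw' k ?_
      rintro rfl
      exact hj x hx hxk
  have hstab : ∀ k : ↥K, (k : X) ∈ NU → ∀ i, (C i).map (conjK (k : X)) = C i := fun k hk i =>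
    map_conj_self (hLC i (hBL ((mem_normalizer_coe U).1 hk)))
  refine ⟨hNM' ▸ hM, ⟨fun i j => ?_, ?_, fun Q hcan hUQ hQ1 i => ?_⟩, fun hK => ?_⟩
  · obtain ⟨x, hx, h⟩ := htrans i j
    exact ⟨MulAut.conjNormal x, aut_fix U hx, h⟩
  · -- a Sylow subgroup is transitive
    choose σ hσ using fun s : ↥(S : Subgroup X) => himg s.1 (hSN s.2)
    have hmul : ∀ s t i, σ (s * t) i = σ s (σ t i) := fun s t i => hC.inj (by
      rw [← hσ (s * t) i, ← hσ s, ← hσ t i, Subgroup.map_map, Subgroup.coe_mul, map_mul]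
      rfl)
    letI act : MulAction ↥(S : Subgroup X) (Fin n) :=
      { smul := σ
        one_smul := fun i => hC.inj (by
          show C (σ 1 i) = C i
          rw [← hσ 1 i, Subgroup.coe_one, map_one]
          exact Subgroup.map_id _)
        mul_smul := hmul }
    have hsurj : MulAction.orbit ↥(S : Subgroup X) (⟨0, hC.pos⟩ : Fin n) = Set.univ := by
      refine Set.eq_univ_of_forall fun j => ?_
      obtain ⟨x, hx, h⟩ := htrans ⟨0, hC.pos⟩ j
      obtain ⟨s, hs, k, hk, rfl⟩ := Subgroup.mem_sup_of_normal_right.1 (hSK.ge (Subgroup.mem_top x))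
      refine ⟨⟨s, hs⟩, hC.inj ?_⟩
      show C (σ ⟨s, hs⟩ _) = C j
      have hkN : k ∈ NU := (Subgroup.mul_mem_cancel_left _ (hSN hs)).1 hx
      rw [← hσ, ← h, map_mul]
      conv_lhs => rw [← hstab ⟨k, hk⟩ hkN ⟨0, hC.pos⟩]
      rw [Subgroup.map_map]
      rfl
    obtain ⟨e, he⟩ := S.isPGroup'.index (MulAction.stabilizer ↥(S : Subgroup X) (⟨0, hC.pos⟩ : Fin n))
    refine ⟨e, ?_⟩
    rw [← he, MulAction.index_stabilizer, hsurj, Set.ncard_univ, Nat.card_fin]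
  · exact (hQ Q hUQ hQ1 fun x hx => hcan _ (aut_fix U hx)).trans (hLC i)
  · by_contra hn
    push Not at hn
    obtain ⟨x, hx, h⟩ := htrans ⟨0, hC.pos⟩ ⟨1, hn⟩
    have e := hstab ⟨x, hK ▸ Subgroup.mem_top x⟩ hx ⟨0, hC.pos⟩
    exact absurd (hC.inj (e.symm.trans h)) (by simp)

end CfsgLib.Chev.PMin
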