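import Cfsg.Agent.Lib.Chev.PMin.BNFam
import Cfsg.Agent.Lib.Chev.G2InvolCent
import Cfsg.Agent.Lib.Chev.SubMaxSpecial

/-!
`G₂` in characteristic two: the centre of the unipotent subgroup is the highest root group, which is
centralized by the fundamental reflection orthogonal to it.
-/

set_option autoImplicit false
set_option maxRecDepth 100000

namespace CfsgLib.Chev.PMin.G2

open Cfsg.Lie CfsgLib.Chev.Rigid CfsgLib.Chev.SubMax

variable {F : Type*} [Field F]

theorem hc : HasComm chevG2 := hasComm_of_mem (by simp)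

/-- The value of a list of root elements. -/
noncomputable def terms (u t : F) (L : List (ℕ × ℤ × ℕ × ℕ)) : GL chevG2.Idx F :=
  (L.map fun c => goodG2.xG c.1 ((c.2.1 : F) * u ^ c.2.2.1 * t ^ c.2.2.2)).prod

theorem conj_eq {s r : ℕ} (hs : s < chevG2.nroots) (hr : r < chevG2.nroots) (hrs : r ≠ s)
    (hn : r ≠ chevG2.neg s) {L : List (ℕ × ℤ × ℕ × ℕ)} (hL : chevG2.commTerms s r = L) (u t : F) :
    goodG2.xG s u * goodG2.xG r t * (goodG2.xG s u)⁻¹ = goodG2.xG r t * terms u t L :=
  hL ▸ goodG2.xG_conj hc hr hs hrs hn t u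

theorem half_eq : half chevG2 = 6 := by decide

theorem nroots_eq : chevG2.nroots = 12 := rfl

/-- The elements of the layers. -/
theorem mem_Ici {r m : ℕ} (hr : r < 12) (hm : m ≤ r) (t : F) :
    goodG2.xG r t ∈ rootGen chevG2 F (Set.Ici m) :=
  goodG2.mem_rootGen (show r < chevG2.nroots from hr) hm t

/-- A root element moves to the left across a higher layer. -/
theorem push {m : ℕ} (hm : 6 ≤ m) (hm' : m < 12) (c : F) {y : GL chevG2.Idx F}
    (hy : y ∈ rootGen chevG2 F (Set.Ici (m + 1))) :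
    ∃ y' ∈ rootGen chevG2 F (Set.Ici (m + 1)), y * goodG2.xG m c = goodG2.xG m c * y' := by
  refine ⟨(goodG2.xG m c)⁻¹ * y * goodG2.xG m c, ?_, by group⟩
  have h := (Subgroup.mem_normalizer_iff.1 (goodG2.pos_le_normalizer hc (m := m + 1)
    (by rw [half_eq]; omega)
    (inv_mem (goodG2.xG_mem_posUnipotent ((goodG2.isPosRoot_iff m).2
      ⟨by rw [half_eq]; exact hm, hm'⟩) c))) y).1 hy
  rwa [inv_inv] at h

variable [CharP F 2]

theorem two_zero : (2 : F) = 0 := by exact_mod_cast CharP.cast_eq_zero F 2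

/-- An element of `U` commuting with `U` is in the highest root group. -/
theorem center_pos {z : GL chevG2.Idx F} (hz : z ∈ chevG2.posUnipotent F)
    (hcom : ∀ u ∈ chevG2.posUnipotent F, u * z = z * u) : ∃ f : F, z = goodG2.xG 11 f := by
  have g := goodG2
  rw [g.posUnipotent_eq] at hz
  obtain ⟨t, rfl⟩ := g.exists_xProd hc le_rfl hz
  rw [half_eq] at hcom ⊢
  have hx : ∀ r, 6 ≤ r → r < 12 → ∀ u : F,
      g.xG r u * g.xProd t 6 * (g.xG r u)⁻¹ = g.xProd t 6 := fun r h1 h2 u => by
    rw [hcom _ (g.xG_mem_posUnipotent ((g.isPosRoot_iff r).2 ⟨by rw [half_eq]; exact h1, h2⟩) u),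
      mul_inv_cancel_right]
  have hzero : ∀ r, g.xG r (0 : F) = 1 := fun r => g.xG_zero r
  have hexp : g.xProd t 6 =
      g.xG 6 (t 6) * (g.xG 7 (t 7) * (g.xG 8 (t 8) * (g.xG 9 (t 9) * (g.xG 10 (t 10) * g.xG 11 (t 11))))) := by
    have h12 : g.xProd t 12 = 1 := rfl
    rw [g.xProd_succ t (by decide : 6 < chevG2.nroots), g.xProd_succ t (by decide : 7 < chevG2.nroots),
      g.xProd_succ t (by decide : 8 < chevG2.nroots), g.xProd_succ t (by decide : 9 < chevG2.nroots),
      g.xProd_succ t (by decide : 10 < chevG2.nroots), g.xProd_succ t (by decide : 11 < chevG2.nroots),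
      h12, mul_one]
  have m2 := two_zero (F := F)
  have h3 : (3 : F) = 1 := by linear_combination m2
  have hn : ∀ x : F, -x = x := fun x => CharTwo.neg_eq x
  -- the conjugations by the two fundamental root elements
  have c67 : ∀ u b : F, g.xG 6 u * g.xG 7 b * (g.xG 6 u)⁻¹ =
      g.xG 7 b * (g.xG 8 (u * b) * (g.xG 9 (u * b ^ 2) * g.xG 10 (u * b ^ 3))) := fun u b => by
    rw [conj_eq (by decide) (by decide) (by decide) (by decide)
      (L := [(8, 1, 1, 1), (9, 1, 1, 2), (10, -1, 1, 3), (11, -2, 2, 3)]) (by decide +kernel)]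
    simp [terms, m2, hn, hzero]
  have c68 : ∀ u b : F, g.xG 6 u * g.xG 8 b * (g.xG 6 u)⁻¹ = g.xG 8 b := fun u b => by
    rw [conj_eq (by decide) (by decide) (by decide) (by decide) (L := []) (by decide +kernel)]
    simp [terms]
  have c69 : ∀ u b : F, g.xG 6 u * g.xG 9 b * (g.xG 6 u)⁻¹ = g.xG 9 b := fun u b => by
    rw [conj_eq (by decide) (by decide) (by decide) (by decide) (L := []) (by decide +kernel)]
    simp [terms]
  have c6t : ∀ u b : F, g.xG 6 u * g.xG 10 b * (g.xG 6 u)⁻¹ = g.xG 10 b * g.xG 11 (u * b) := fun u b => by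
    rw [conj_eq (by decide) (by decide) (by decide) (by decide)
      (L := [(11, 1, 1, 1)]) (by decide +kernel)]
    simp [terms]
  have c6e : ∀ u b : F, g.xG 6 u * g.xG 11 b * (g.xG 6 u)⁻¹ = g.xG 11 b := fun u b => by
    rw [conj_eq (by decide) (by decide) (by decide) (by decide) (L := []) (by decide +kernel)]
    simp [terms]
  have c76 : ∀ u b : F, g.xG 7 u * g.xG 6 b * (g.xG 7 u)⁻¹ =
      g.xG 6 b * (g.xG 8 (u * b) * (g.xG 9 (u ^ 2 * b) * (g.xG 10 (u ^ 3 * b) * g.xG 11 (u ^ 3 * b ^ 2)))) :=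
    fun u b => by
    rw [conj_eq (by decide) (by decide) (by decide) (by decide)
      (L := [(8, -1, 1, 1), (9, 1, 2, 1), (10, 1, 3, 1), (11, 1, 3, 2)]) (by decide +kernel)]
    simp [terms, hn]
  have c78 : ∀ u b : F, g.xG 7 u * g.xG 8 b * (g.xG 7 u)⁻¹ =
      g.xG 8 b * (g.xG 10 (u ^ 2 * b) * g.xG 11 (u * b ^ 2)) := fun u b => by
    rw [conj_eq (by decide) (by decide) (by decide) (by decide)
      (L := [(9, -2, 1, 1), (10, -3, 2, 1), (11, 3, 1, 2)]) (by decide +kernel)]
    simp [terms, m2, h3, hn, hzero]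
  have c79 : ∀ u b : F, g.xG 7 u * g.xG 9 b * (g.xG 7 u)⁻¹ = g.xG 9 b * g.xG 10 (u * b) := fun u b => by
    rw [conj_eq (by decide) (by decide) (by decide) (by decide)
      (L := [(10, 3, 1, 1)]) (by decide +kernel)]
    simp [terms, h3]
  have c7t : ∀ u b : F, g.xG 7 u * g.xG 10 b * (g.xG 7 u)⁻¹ = g.xG 10 b := fun u b => by
    rw [conj_eq (by decide) (by decide) (by decide) (by decide) (L := []) (by decide +kernel)]
    simp [terms]
  have c7e : ∀ u b : F, g.xG 7 u * g.xG 11 b * (g.xG 7 u)⁻¹ = g.xG 11 b := fun u b => by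
    rw [conj_eq (by decide) (by decide) (by decide) (by decide) (L := []) (by decide +kernel)]
    simp [terms]
  have c6s : ∀ b : F, g.xG 6 1 * g.xG 6 b * (g.xG 6 1)⁻¹ = g.xG 6 b := fun b => by
    rw [g.xG_inv, g.xG_add, g.xG_add]; congr 1; ring
  have hdist : ∀ x a b : GL chevG2.Idx F, x * (a * b) * x⁻¹ = x * a * x⁻¹ * (x * b * x⁻¹) :=
    fun x a b => by group
  have hH : half chevG2 ≤ 8 := by rw [half_eq]; norm_num
  -- the coefficient at `7`
  have hb : t 7 = 0 := by
    have h := hx 6 le_rfl (by norm_num) 1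
    rw [hexp] at h
    simp only [hdist, c6s, c67, c68, c69, c6t, c6e] at h
    simp only [mul_assoc] at h
    have h1 := mul_left_cancel (mul_left_cancel h)
    obtain ⟨y, hy, e⟩ := push (F := F) (m := 8) (by norm_num) (by norm_num) (t 8)
      (mul_mem (mem_Ici (r := 9) (m := 9) (by norm_num) le_rfl (1 * t 7 ^ 2))
        (mem_Ici (r := 10) (m := 9) (by norm_num) (by norm_num) (1 * t 7 ^ 3)))
    simp only [← mul_assoc] at h1
    rw [mul_assoc (g.xG 8 (1 * t 7)), mul_assoc (g.xG 8 (1 * t 7)), e, ← mul_assoc, g.xG_add] at h1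
    simp only [mul_assoc] at h1
    have h2 := (g.Ici_unique hH (by decide) (mul_mem hy (mul_mem (mem_Ici (by norm_num) le_rfl _)
      (mul_mem (mem_Ici (by norm_num) (by norm_num) _) (mul_mem (mem_Ici (by norm_num) (by norm_num) _)
        (mem_Ici (by norm_num) (by norm_num) _)))))
      (mul_mem (mem_Ici (by norm_num) le_rfl _)
      (mul_mem (mem_Ici (by norm_num) (by norm_num) _) (mem_Ici (by norm_num) (by norm_num) _))) h1).1
    linear_combination h2
  rw [hb, hzero, one_mul] at hexp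
  -- the coefficient at `6`
  have ha : t 6 = 0 := by
    have h := hx 7 (by norm_num) (by norm_num) 1
    rw [hexp] at h
    simp only [hdist, c76, c78, c79, c7t, c7e] at h
    simp only [mul_assoc] at h
    have h1 := mul_left_cancel h
    obtain ⟨y, hy, e⟩ := push (F := F) (m := 8) (by norm_num) (by norm_num) (t 8)
      (mul_mem (mem_Ici (r := 9) (m := 9) (by norm_num) le_rfl (1 ^ 2 * t 6))
        (mul_mem (mem_Ici (r := 10) (m := 9) (by norm_num) (by norm_num) (1 ^ 3 * t 6))
        (mem_Ici (r := 11) (m := 9) (by norm_num) (by norm_num) (1 ^ 3 * t 6 ^ 2))))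
    simp only [← mul_assoc] at e h1
    rw [mul_assoc (g.xG 8 (1 * t 6)), mul_assoc (g.xG 8 (1 * t 6)), mul_assoc (g.xG 8 (1 * t 6)), e,
      ← mul_assoc, g.xG_add] at h1
    simp only [mul_assoc] at h1
    have h2 := (g.Ici_unique hH (by decide) (mul_mem hy
      (mul_mem (mem_Ici (by norm_num) (by norm_num) _) (mul_mem (mem_Ici (by norm_num) (by norm_num) _)
        (mul_mem (mem_Ici (by norm_num) le_rfl _) (mul_mem (mem_Ici (by norm_num) (by norm_num) _)
          (mul_mem (mem_Ici (by norm_num) (by norm_num) _) (mem_Ici (by norm_num) (by norm_num) _)))))))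
      (mul_mem (mem_Ici (by norm_num) le_rfl _)
      (mul_mem (mem_Ici (by norm_num) (by norm_num) _) (mem_Ici (by norm_num) (by norm_num) _))) h1).1
    linear_combination h2
  rw [ha, hzero, one_mul] at hexp
  -- the coefficients at `8` and `9`
  have hcd : t 8 = 0 ∧ t 9 = 0 := by
    have h := hx 7 (by norm_num) (by norm_num) 1
    rw [hexp] at h
    simp only [hdist, c78, c79, c7t, c7e] at h
    simp only [mul_assoc] at h
    have h1 := mul_left_cancel h
    have k9 : ∀ r, (r = 10 ∨ r = 11) → ∀ a b : F, Commute (g.xG r a) (g.xG 9 b) := by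
      intro r hr a b
      have hh : g.xG 9 b * g.xG r a * (g.xG 9 b)⁻¹ = g.xG r a := by
        rcases hr with rfl | rfl <;>
          rw [conj_eq (by decide) (by decide) (by decide) (by decide) (L := []) (by decide +kernel)] <;>
          simp [terms]
      exact (mul_inv_eq_iff_eq_mul.1 hh).symm
    have k10 : ∀ a b : F, Commute (g.xG 11 a) (g.xG 10 b) := fun a b => by
      have hh : g.xG 10 b * g.xG 11 a * (g.xG 10 b)⁻¹ = g.xG 11 a := by
        rw [conj_eq (by decide) (by decide) (by decide) (by decide) (L := []) (by decide +kernel)]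
        simp [terms]
      exact (mul_inv_eq_iff_eq_mul.1 hh).symm
    have h1' : g.xG 9 (t 9) * (g.xG 10 (1 ^ 2 * t 8 + 1 * t 9 + t 10) * g.xG 11 (1 * t 8 ^ 2 + t 11)) =
        g.xG 9 (t 9) * (g.xG 10 (t 10) * g.xG 11 (t 11)) := by
      rw [← h1]
      simp only [← g.xG_add, ← mul_assoc]
      have a1 := (k9 11 (Or.inr rfl) (1 * t 8 ^ 2) (t 9)).eq
      have a2 := (k9 10 (Or.inl rfl) (1 ^ 2 * t 8) (t 9)).eq
      have a3 := fun b => (k10 (1 * t 8 ^ 2) b).eq
      rw [mul_assoc _ (g.xG 11 (1 * t 8 ^ 2)) (g.xG 9 (t 9)), a1, ← mul_assoc, a2,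
        mul_assoc _ (g.xG 11 (1 * t 8 ^ 2)) (g.xG 10 (1 * t 9)), a3, ← mul_assoc,
        mul_assoc _ (g.xG 11 (1 * t 8 ^ 2)) (g.xG 10 (t 10)), a3, ← mul_assoc]
    obtain ⟨h2, h3'⟩ := g.Ici_unique (m := 10) (by rw [half_eq]; norm_num) (by decide)
      (mem_Ici (by norm_num) le_rfl _) (mem_Ici (by norm_num) le_rfl _) (mul_left_cancel h1')
    have h4 := (g.Ici_unique (m := 11) (y := 1) (z := 1) (by rw [half_eq]; norm_num) (by decide)
      (one_mem _) (one_mem _) (congrArg (· * (1 : GL chevG2.Idx F)) h3')).1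
    have h8 : t 8 = 0 := pow_eq_zero_iff two_ne_zero |>.1 (by linear_combination h4)
    exact ⟨h8, by rw [h8] at h2; linear_combination h2⟩
  rw [hcd.1, hcd.2, hzero, hzero, one_mul, one_mul] at hexp
  -- the coefficient at `10`
  have he : t 10 = 0 := by
    have h := hx 6 le_rfl (by norm_num) 1
    rw [hexp] at h
    simp only [hdist, c6t, c6e] at h
    rw [mul_assoc, g.xG_add] at h
    have h4 := (g.Ici_unique (m := 11) (y := 1) (z := 1) (by rw [half_eq]; norm_num) (by decide)
      (one_mem _) (one_mem _) (congrArg (· * (1 : GL chevG2.Idx F)) (mul_left_cancel h))).1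
    linear_combination h4
  exact ⟨t 11, by rw [hexp, he, hzero, one_mul]⟩

/-- The reflection orthogonal to the highest root centralizes its root group. -/
theorem nI_commute (f : F) :
    goodG2.xG 11 f * goodG2.nI (F := F) ⟨0, by decide⟩ = goodG2.nI ⟨0, by decide⟩ * goodG2.xG 11 f := by
  have h := G2Invol.phi_commute (slU f) (slU 1 * slL (-1) * slU 1)
  rw [G2Invol.phiA_U] at h
  have e : G2Invol.phiB (slU 1 * slL (-1) * slU 1) = goodG2.nI (F := F) ⟨0, by decide⟩ := by
    rw [map_mul, map_mul, G2Invol.phiB_U, G2Invol.phiB_L, Good.nI, Good.nG]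
    simp [show chevG2.simple 0 = 7 from by decide +kernel, show chevG2.neg 7 = 4 from by decide +kernel]
  rw [e] at h
  exact h.eq

theorem excluded [Fintype F] [IsSimpleGroup ↥(chevG2.group F)] : Excluded 2 ↥(chevG2.group F) := by
  haveI : Fact (Nat.Prime 2) := ⟨Nat.prime_two⟩
  obtain ⟨S, hP, hU⟩ := exists_chevSplit (F := F) goodG2 2 hc (by decide)
  haveI : Fintype ↥S.P.S := Fintype.ofFinite _
  let i : Fin chevG2.rank := ⟨0, by decide⟩
  have hs : BNFam.sI goodG2 i ∈ S.P.S := hP ▸ BNFam.sI_mem goodG2 hc i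
  refine BNLat.excluded S fun hF => false_of_centCen (U := S.U) S.sylow.isPGroup' S.U_ne_bot ?_
    (w := BNFam.sI goodG2 i) ?_ (i := Fintype.equivFin ↥S.P.S ⟨_, hs⟩) ?_ hF
  · refine ⟨⟨goodG2.xG 6 1, goodG2.xG_mem_group (by decide) 1⟩,
      ⟨goodG2.xG 7 1, goodG2.xG_mem_group (by decide) 1⟩, fun h => ?_⟩
    have h' : goodG2.xG 6 (1 : F) * goodG2.xG 7 1 * (goodG2.xG 6 1)⁻¹ = goodG2.xG 7 1 :=
      mul_inv_eq_iff_eq_mul.2 (congrArg Subtype.val h)
    rw [conj_eq (by decide) (by decide) (by decide) (by decide)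
      (L := [(8, 1, 1, 1), (9, 1, 1, 2), (10, -1, 1, 3), (11, -2, 2, 3)]) (by decide +kernel),
      mul_eq_left, terms] at h'
    simp only [List.map_cons, List.map_nil, List.prod_cons, List.prod_nil] at h'
    have h2 := (goodG2.Ici_unique (m := 8) (b := 0) (z := 1) (by rw [half_eq]; norm_num) (by decide)
      (mul_mem (mem_Ici (F := F) (r := 9) (by norm_num) le_rfl _) (mul_mem (mem_Ici (F := F) (r := 10) (by norm_num) (by norm_num) _)
        (mul_mem (mem_Ici (F := F) (r := 11) (by norm_num) (by norm_num) _) (one_mem _))))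
      (one_mem _) (h'.trans ((goodG2.xG_zero 8).symm.trans (mul_one _).symm))).1
    simp at h2
  · intro z hz hcom
    rw [hU, Subgroup.mem_subgroupOf] at hz
    obtain ⟨f, hf⟩ := center_pos hz fun u hu =>
      congrArg Subtype.val (hcom ⟨u, goodG2.posUnipotent_le_group hu⟩ (by
        rw [hU]; exact Subgroup.mem_subgroupOf.2 hu))
    refine Subtype.ext ?_
    show (z : GL chevG2.Idx F) * goodG2.nI i = goodG2.nI i * (z : GL chevG2.Idx F)
    rw [hf]
    exact nI_commute f
  · intro h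
    rw [BNLat.C, Equiv.symm_apply_apply] at h
    exact ((BN.mem_parabolic_iff_mem S.P Set.sdiff_subset hs).1 h).2 rfl

end CfsgLib.Chev.PMin.G2
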