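import Cfsg.Agent.Lib.Chev.PMin.Outcome
import Cfsg.Agent.Lib.Chev.RigidCount
import Cfsg.Agent.Lib.Geom.PSLTwoCentralizer
import Cfsg.Agent.Lib.Classical.PSLTwoPerm
import Cfsg.Agent.Lib.ClassK.SmallSimple

/-!
`L₂(8)` in characteristic three: the normalizer of a Sylow 3-subgroup is the only maximal
overgroup of it.
-/

set_option autoImplicit false

namespace CfsgLib.Chev.PMin.L28

open CfsgLib.Geom

variable {F : Type*} [Field F] [Fintype F]

local notation "L" => Matrix.ProjectiveSpecialLinearGroup (Fin 2) F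

theorem lat (hF : Fintype.card F = 8) : HasLat 3 L 1 := by
  classical
  haveI : Fact (Nat.Prime 3) := ⟨Nat.prime_three⟩
  haveI : IsSimpleGroup L := ClassK.isSimpleGroup_psl_two (by omega)
  have hG : Nat.card L = 504 := CfsgLib.Classical.card_psl_two_eq hF 504 (by norm_num)
  haveI : Finite L := Nat.finite_of_card_ne_zero (by rw [hG]; norm_num)
  obtain ⟨U⟩ : Nonempty (Sylow 3 L) := inferInstance
  have hU9 : Nat.card (U : Subgroup L) = 9 :=
    Rigid.Count.card_sylow_self U (a := 2) (m := 56) (by rw [hG]; norm_num) (by norm_num)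
  have hab : ∀ a ∈ (U : Subgroup L), ∀ b ∈ (U : Subgroup L), a * b = b * a := fun a ha b hb => by
    have h := IsPGroup.commutative_of_card_eq_prime_sq (p := 3) (G := ↥(U : Subgroup L)) (by rw [hU9]; norm_num)
    exact congrArg Subtype.val (h (⟨a, ha⟩ : ↥(U : Subgroup L)) ⟨b, hb⟩)
  obtain ⟨E, _, _, f, hE, hQC⟩ := Moebius.exists_quadExt F
  -- the centralizer of an element of order three
  have hcent : ∀ x ∈ (U : Subgroup L), x ≠ 1 → Subgroup.centralizer {x} = (U : Subgroup L) := by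
    intro x hx hx1
    have hle : (U : Subgroup L) ≤ Subgroup.centralizer {x} := fun u hu =>
      Subgroup.mem_centralizer_singleton_iff.2 (hab u hu x hx)
    have h9 : 9 ∣ Nat.card ↥(Subgroup.centralizer {x}) := hU9 ▸ Subgroup.card_dvd_of_le hle
    refine (Subgroup.eq_of_le_of_card_ge hle ?_).symm
    rw [hU9]
    rcases Moebius.card_centralizer_cases f hE hQC (by omega) x hx1 with h | ⟨k, hk, -, h2, h1⟩
    · rw [h, hF] at h9; omega
    · rw [Moebius.gcd_two_of_even (hF ▸ ⟨4, rfl⟩), one_mul, hF] at hk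
      by_cases hxx : x * x = 1
      · exfalso
        have h2' : orderOf x ∣ 2 := orderOf_dvd_of_pow_eq_one (by rw [pow_two]; exact hxx)
        have h9' : orderOf x ∣ 9 := hU9 ▸ Subgroup.orderOf_dvd_natCard _ hx
        have := Nat.dvd_gcd h2' h9'
        exact hx1 (orderOf_eq_one_iff.1 (Nat.dvd_one.1 (by simpa using this)))
      · have := h1 hxx
        omega
  have hU0 : (U : Subgroup L) ≠ ⊥ := fun h => by rw [h, Subgroup.card_bot] at hU9; omega
  have hN : Subgroup.normalizer ((U : Subgroup L) : Set L) ≠ ⊤ := fun h => by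
    rcases (Subgroup.normalizer_eq_top_iff.1 h).eq_bot_or_eq_top with h1 | h1
    · exact hU0 h1
    · rw [h1, Subgroup.card_top, hG] at hU9; omega
  refine ⟨U, hU0, fun _ => Subgroup.normalizer ((U : Subgroup L) : Set L), ⟨fun _ => Subgroup.le_normalizer,
    fun _ => hN, fun Q hQ hQ1 => ⟨0, ?_⟩, fun i => ?_, fun x hx => hx 0, Nat.one_pos⟩⟩
  · have hcore : Cfsg.pCore 3 ↥Q ≠ ⊥ := fun h =>
      hQ1 (Rigid.Count.full_three_504 hG Q U hQ h)
    obtain ⟨R, ⟨hRn, hRp⟩, hR0⟩ : ∃ R : Subgroup ↥Q, (R.Normal ∧ IsPGroup 3 ↥R) ∧ R ≠ ⊥ := by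
      by_contra! h
      exact hcore (le_bot_iff.1 (sSup_le fun R hR => (h R hR).le))
    have hRU : R ≤ (U.subtype hQ : Subgroup ↥Q) := by
      haveI := hRn
      exact hRp.le_sylow_of_normal _
    obtain ⟨x, hxR, hx1⟩ := (Subgroup.bot_or_exists_ne_one R).resolve_left hR0
    have hxU : (x : L) ∈ (U : Subgroup L) := hRU hxR
    set W := Subgroup.centralizer ((R.map Q.subtype : Subgroup L) : Set L)
    have hW : W = (U : Subgroup L) := by
      refine le_antisymm ?_ fun u hu => ?_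
      · rw [← hcent _ hxU fun e => hx1 (Subtype.ext e)]
        exact fun w hw => Subgroup.mem_centralizer_singleton_iff.2 (hw _ ⟨x, hxR, rfl⟩).symm
      · rintro _ ⟨r, hr, rfl⟩
        exact hab _ (hRU hr) u hu
    have key : ∀ q ∈ Q, ∀ u ∈ (U : Subgroup L), q * u * q⁻¹ ∈ (U : Subgroup L) := by
      intro q hq u hu
      rw [← hW] at hu ⊢
      rintro _ ⟨r, hr, rfl⟩
      have h := hu _ ⟨_, hRn.conj_mem r hr (⟨q, hq⟩⁻¹ : ↥Q), rfl⟩
      simp only [Subgroup.coe_subtype, Subgroup.coe_mul, inv_inv, InvMemClass.coe_inv] at h ⊢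
      calc (r : L) * (q * u * q⁻¹) = q * ((q⁻¹ * r * q) * u) * q⁻¹ := by group
        _ = q * (u * (q⁻¹ * r * q)) * q⁻¹ := by rw [h]
        _ = q * u * q⁻¹ * r := by group
    intro q hq
    exact Subgroup.mem_normalizer_iff.2 fun u => ⟨key q hq u, fun hu => by
      simpa [mul_assoc] using key q⁻¹ (Q.inv_mem hq) _ hu⟩
  · obtain ⟨w, hw⟩ : ∃ w, w ∉ Subgroup.normalizer ((U : Subgroup L) : Set L) := by
      by_contra! h
      exact hN (eq_top_iff.2 fun x _ => h x)
    exact ⟨w, hw, fun j hj => absurd (Subsingleton.elim j i) hj⟩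

end CfsgLib.Chev.PMin.L28
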