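import Mathlib

/-!
Overgroups of a Sylow subgroup described by a finite list of maximal ones, each with a witness
lying in all the others.
-/

set_option autoImplicit false

namespace CfsgLib.Chev.PMin

variable {G H : Type*} [Group G] [Group H]

/-- A list of the maximal overgroups of `U`, with witnesses, meeting inside the normalizer. -/
structure Lat {n : ℕ} (U : Subgroup G) (C : Fin n → Subgroup G) : Prop where
  le : ∀ i, U ≤ C i
  ne_top : ∀ i, C i ≠ ⊤
  cover : ∀ Q : Subgroup G, U ≤ Q → Q ≠ ⊤ → ∃ i, Q ≤ C i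
  wit : ∀ i, ∃ w, w ∉ C i ∧ ∀ j, j ≠ i → w ∈ C j
  inf_le : ∀ x, (∀ i, x ∈ C i) → x ∈ Subgroup.normalizer (U : Set G)
  pos : 0 < n

/-- Invariance under the automorphisms fixing `U`. -/
def Canon (U Q : Subgroup G) : Prop :=
  ∀ a : MulAut G, U.map a.toMonoidHom = U → Q.map a.toMonoidHom = Q

/-- What a Sylow subgroup in a unique maximal subgroup of an almost simple group forces. -/
structure Facts (p : ℕ) {n : ℕ} (U : Subgroup G) (C : Fin n → Subgroup G) : Prop where
  trans : ∀ i j, ∃ a : MulAut G, U.map a.toMonoidHom = U ∧ (C i).map a.toMonoidHom = C j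
  ppow : ∃ e, n = p ^ e
  canon : ∀ Q : Subgroup G, Canon U Q → U ≤ Q → Q ≠ ⊤ → ∀ i, Q ≤ C i

theorem map_map_symm (e : G ≃* H) (Q : Subgroup G) :
    (Q.map e.toMonoidHom).map e.symm.toMonoidHom = Q := by
  rw [Subgroup.map_map]
  conv_rhs => rw [← Subgroup.map_id Q]
  congr 1
  ext x; simp

theorem mem_map_iff (e : G ≃* H) (Q : Subgroup G) {x : H} :
    x ∈ Q.map e.toMonoidHom ↔ e.symm x ∈ Q := by
  constructor
  · rintro ⟨y, hy, rfl⟩
    simpa using hy
  · exact fun h => ⟨_, h, by simp⟩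

theorem map_top_iff (e : G ≃* H) (Q : Subgroup G) : Q.map e.toMonoidHom = ⊤ ↔ Q = ⊤ := by
  constructor
  · intro h
    rw [← map_map_symm e Q, h, Subgroup.map_top_of_surjective _ e.symm.surjective]
  · rintro rfl
    exact Subgroup.map_top_of_surjective _ e.surjective

theorem mem_normalizer_map (e : G ≃* H) (U : Subgroup G) {x : H} :
    x ∈ Subgroup.normalizer (U.map e.toMonoidHom : Set H) ↔ e.symm x ∈ Subgroup.normalizer (U : Set G) := by
  simp only [Subgroup.mem_normalizer_iff, SetLike.mem_coe, mem_map_iff, map_mul, map_inv]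
  constructor
  · intro h z
    simpa using h (e z)
  · exact fun h z => h (e.symm z)

theorem Lat.map {n : ℕ} {U : Subgroup G} {C : Fin n → Subgroup G} (h : Lat U C) (e : G ≃* H) :
    Lat (U.map e.toMonoidHom) (fun i => (C i).map e.toMonoidHom) where
  le i := Subgroup.map_mono (h.le i)
  ne_top i := fun hh => h.ne_top i ((map_top_iff e _).1 hh)
  cover Q hQ hne := by
    obtain ⟨i, hi⟩ := h.cover (Q.map e.symm.toMonoidHom)
      (by rw [← map_map_symm e U]; exact Subgroup.map_mono hQ) fun hh => hne ((map_top_iff _ _).1 hh)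
    exact ⟨i, by rw [← map_map_symm e.symm Q, MulEquiv.symm_symm]; exact Subgroup.map_mono hi⟩
  wit i := by
    obtain ⟨w, hw, hw'⟩ := h.wit i
    exact ⟨e w, fun hh => hw (by simpa using (mem_map_iff e _).1 hh),
      fun j hj => Subgroup.mem_map_of_mem _ (hw' j hj)⟩
  inf_le x hx := (mem_normalizer_map e U).2 (h.inf_le _ fun i => (mem_map_iff e _).1 (hx i))
  pos := h.pos

theorem Lat.reindex {ι : Type*} [Fintype ι] [Nonempty ι] {U : Subgroup G} (D : ι → Subgroup G)
    (le : ∀ i, U ≤ D i) (ne_top : ∀ i, D i ≠ ⊤)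
    (cover : ∀ Q : Subgroup G, U ≤ Q → Q ≠ ⊤ → ∃ i, Q ≤ D i)
    (wit : ∀ i, ∃ w, w ∉ D i ∧ ∀ j, j ≠ i → w ∈ D j)
    (inf_le : ∀ x, (∀ i, x ∈ D i) → x ∈ Subgroup.normalizer (U : Set G)) :
    Lat U (D ∘ (Fintype.equivFin ι).symm) where
  le i := le _
  ne_top i := ne_top _
  cover Q hQ hne := by
    obtain ⟨i, hi⟩ := cover Q hQ hne
    exact ⟨Fintype.equivFin ι i, by simpa using hi⟩
  wit i := by
    obtain ⟨w, hw, hw'⟩ := wit ((Fintype.equivFin ι).symm i)
    exact ⟨w, hw, fun j hj => hw' _ fun h => hj ((Fintype.equivFin ι).symm.injective h)⟩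
  inf_le x hx := inf_le x fun i => by simpa using hx (Fintype.equivFin ι i)
  pos := Fintype.card_pos

theorem Lat.maximal {n : ℕ} {U : Subgroup G} {C : Fin n → Subgroup G} (h : Lat U C) {i : Fin n}
    {Q : Subgroup G} (hle : C i ≤ Q) (hne : Q ≠ ⊤) : Q = C i := by
  obtain ⟨j, hj⟩ := h.cover Q ((h.le i).trans hle) hne
  rcases eq_or_ne i j with rfl | hij
  · exact le_antisymm hj hle
  · obtain ⟨w, hw, hw'⟩ := h.wit j
    exact absurd (hj (hle (hw' i hij))) hw

theorem Lat.inj {n : ℕ} {U : Subgroup G} {C : Fin n → Subgroup G} (h : Lat U C) {i j : Fin n}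
    (e : C i = C j) : i = j := by
  by_contra hij
  obtain ⟨w, hw, hw'⟩ := h.wit i
  exact hw (e ▸ hw' j (Ne.symm hij))

/-- An automorphism fixing `U` permutes the list. -/
theorem Lat.exists_image {n : ℕ} {U : Subgroup G} {C : Fin n → Subgroup G} (h : Lat U C)
    {a : MulAut G} (ha : U.map a.toMonoidHom = U) (i : Fin n) :
    ∃ j, (C i).map a.toMonoidHom = C j := by
  have hne : (C i).map a.toMonoidHom ≠ ⊤ := fun hh => h.ne_top i ((map_top_iff a _).1 hh)
  obtain ⟨j, hj⟩ := h.cover _ (by rw [← ha]; exact Subgroup.map_mono (h.le i)) hne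
  refine ⟨j, le_antisymm hj ?_⟩
  have hle : C i ≤ (C j).map a.symm.toMonoidHom := by
    rw [← map_map_symm a (C i)]; exact Subgroup.map_mono hj
  have := h.maximal hle fun hh => h.ne_top j ((map_top_iff _ _).1 hh)
  conv_rhs => rw [← this]
  exact (map_map_symm a.symm (C j)).ge

theorem canon_map {U Q : Subgroup G} (h : Canon U Q) (e : G ≃* H) :
    Canon (U.map e.toMonoidHom) (Q.map e.toMonoidHom) := by
  intro a ha
  have key : ∀ W : Subgroup G, W.map ((e.trans a).trans e.symm : MulAut G).toMonoidHom =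
      ((W.map e.toMonoidHom).map a.toMonoidHom).map e.symm.toMonoidHom := fun W => by
    rw [Subgroup.map_map, Subgroup.map_map]; rfl
  have h1 := h ((e.trans a).trans e.symm) (by rw [key, ha, map_map_symm])
  rw [key] at h1
  conv_rhs => rw [← h1]
  exact (map_map_symm e.symm _).symm

theorem Facts.comap {p n : ℕ} {U : Subgroup G} {C : Fin n → Subgroup G} (e : G ≃* H)
    (h : Facts p (U.map e.toMonoidHom) (fun i => (C i).map e.toMonoidHom)) : Facts p U C where
  trans i j := by
    obtain ⟨a, ha, hij⟩ := h.trans i j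
    have key : ∀ W : Subgroup G, W.map ((e.trans a).trans e.symm : MulAut G).toMonoidHom =
        ((W.map e.toMonoidHom).map a.toMonoidHom).map e.symm.toMonoidHom := fun W => by
      rw [Subgroup.map_map, Subgroup.map_map]; rfl
    exact ⟨(e.trans a).trans e.symm, by rw [key, ha, map_map_symm], by rw [key, hij, map_map_symm]⟩
  ppow := h.ppow
  canon Q hQ hle hne i := (Subgroup.map_le_map_iff_of_injective e.injective).1
    (h.canon _ (canon_map hQ e) (Subgroup.map_mono hle) (fun hh => hne ((map_top_iff e _).1 hh)) i)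

/-- The centralizer of the centre of `U`. -/
def centCen (U : Subgroup G) : Subgroup G :=
  Subgroup.centralizer ((U ⊓ Subgroup.centralizer (U : Set G) : Subgroup G) : Set G)

theorem le_centCen (U : Subgroup G) : U ≤ centCen U :=
  fun u hu z hz => ((Subgroup.mem_inf.1 hz).2 u hu).symm

theorem map_centralizer (e : G ≃* H) (W : Subgroup G) :
    (Subgroup.centralizer (W : Set G)).map e.toMonoidHom =
      Subgroup.centralizer ((W.map e.toMonoidHom : Subgroup H) : Set H) := by
  ext x
  simp only [mem_map_iff, Subgroup.mem_centralizer_iff, SetLike.mem_coe]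
  constructor
  · intro h y hy
    apply e.symm.injective
    simpa using h (e.symm y) hy
  · intro h y hy
    have h1 := h (e y) (by simpa using hy)
    apply e.injective
    simpa using h1

theorem canon_centCen (U : Subgroup G) : Canon U (centCen U) := by
  intro a ha
  rw [centCen, map_centralizer]
  congr 2
  rw [Subgroup.map_inf _ _ _ a.injective, map_centralizer, ha]

theorem centCen_ne_top [IsSimpleGroup G] [Finite G] {p : ℕ} [Fact p.Prime] {U : Subgroup G}
    (hU : IsPGroup p U) (hU0 : U ≠ ⊥) (hnc : ∃ x y : G, x * y ≠ y * x) : centCen U ≠ ⊤ := by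
  intro h
  haveI : Nontrivial ↥U := (Subgroup.nontrivial_iff_ne_bot U).2 hU0
  haveI := hU.center_nontrivial
  obtain ⟨⟨z, hz⟩, hz1⟩ := exists_ne (1 : Subgroup.center ↥U)
  have hzmem : (z : G) ∈ U ⊓ Subgroup.centralizer (U : Set G) :=
    ⟨z.2, fun u hu => congrArg Subtype.val (Subgroup.mem_center_iff.1 hz ⟨u, hu⟩)⟩
  have hzc : (z : G) ∈ Subgroup.center G := Subgroup.mem_center_iff.2 fun g =>
    ((h.ge (Subgroup.mem_top g) : g ∈ centCen U) _ hzmem).symm
  have hcb : Subgroup.center G = ⊥ :=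
    (IsSimpleGroup.eq_bot_or_eq_top_of_normal _ inferInstance).resolve_right fun ht => by
      obtain ⟨x, y, hxy⟩ := hnc
      exact hxy (Subgroup.mem_center_iff.1 (ht ▸ Subgroup.mem_top y) x)
  rw [hcb, Subgroup.mem_bot] at hzc
  exact hz1 (Subtype.ext (Subtype.ext hzc))

/-- A witness centralizing the centre of `U` refutes the facts. -/
theorem false_of_centCen [IsSimpleGroup G] [Finite G] {p : ℕ} [Fact p.Prime] {n : ℕ}
    {U : Subgroup G} {C : Fin n → Subgroup G} (hU : IsPGroup p U) (hU0 : U ≠ ⊥)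
    (hnc : ∃ x y : G, x * y ≠ y * x) {w : G}
    (hw : ∀ z ∈ U, (∀ u ∈ U, u * z = z * u) → z * w = w * z) {i : Fin n} (hi : w ∉ C i)
    (hF : Facts p U C) : False :=
  hi (hF.canon _ (canon_centCen U) (le_centCen U) (centCen_ne_top hU hU0 hnc) i
    fun z hz => hw z (Subgroup.mem_inf.1 hz).1 (Subgroup.mem_inf.1 hz).2)

end CfsgLib.Chev.PMin
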