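import Cfsg.Agent.Lib.Chev.RigidSL
import Cfsg.Agent.Lib.Chev.PMin.Outcome

/-!
The projective special linear groups: the maximal overgroups of the unitriangular group fix the
subspaces spanned by the first basis vectors.
-/

set_option autoImplicit false
set_option linter.unusedSectionVars false

namespace CfsgLib.Chev.PMin.SLLat

open Matrix CfsgLib.Fusion CfsgLib.Fusion.SLUni CfsgLib.Chev.Rigid CfsgLib.Chev.Rigid.SLPoints

variable {F : Type*} [Field F] [Fintype F] {n : ℕ} (p : ℕ) [Fact p.Prime] [CharP F p]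

local notation "SL" => Matrix.SpecialLinearGroup (Fin n) F
local notation "PSL" => Matrix.ProjectiveSpecialLinearGroup (Fin n) F
local notation "π" => QuotientGroup.mk' (Subgroup.center SL)
local notation "tv" => Matrix.SpecialLinearGroup.transvection

include p in
theorem eq_one_of_quot (hn : 0 < n) {x : SL} (hx : x ∈ U F n) (h : π x = 1) : x = 1 := by
  refine eq_of_center p hn ?_ ⟨0, one_pow _⟩ (h.trans (map_one _).symm)
  obtain ⟨k, hk⟩ := isPGroup_U (p := p) (by omega) ⟨x, hx⟩
  exact ⟨k, congrArg Subtype.val hk⟩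

include p in
/-- An overgroup of the unitriangular group moving the first vector out of the hyperplane. -/
theorem eq_top_of_entry [IsSimpleGroup PSL] {M : Subgroup PSL} (hM : (U F n).map π ≤ M) {z l : Fin n}
    (hz : z.val = 0) (hl : l.val + 1 = n) (hn : 2 ≤ n) {m : SL} (hm : π m ∈ M) (hml : m.1 l z ≠ 0) :
    M = ⊤ := by
  classical
  have hzl : z < l := by show z.val < l.val; omega
  set M' : Subgroup SL := M.comap π with hM'
  replace hm : m ∈ M' := hm
  have hUM : U F n ≤ M' := fun u hu => hM (Subgroup.mem_map_of_mem _ hu)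
  have htop : ∀ a, l < a → False := fun a ha => by
    have : l.val < a.val := ha
    omega
  have ht0 : tv hzl.ne (1 : F) ∈ R F z := fun a ha b => by
    rw [tv_apply, if_neg (show ¬(z = a ∧ l = b) from fun e => ha e.1.symm), add_zero, Matrix.one_apply]
  have hπne : ∀ x ∈ U F n, π x = 1 → x = 1 := fun x hx h => eq_one_of_quot p (by omega) hx h
  have ht1 : tv hzl.ne (1 : F) ≠ 1 := fun e => by
    have h2 := congrFun (congrFun (congrArg Subtype.val e) z) l
    rw [tv_apply, if_neg hzl.ne, if_pos ⟨rfl, rfl⟩, Matrix.SpecialLinearGroup.coe_one,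
      Matrix.one_apply_ne hzl.ne, zero_add] at h2
    exact one_ne_zero h2
  -- the conjugates of the transvection group lying in `M`
  have hY : ∀ g : SL, g.1 l z ≠ 0 → ∀ r ∈ R F z, g * r * g⁻¹ ∈ M' := by
    intro g hg r hr
    obtain ⟨u, hu, hk⟩ := exists_U hml (fun a ha => (htop a ha).elim) hg (fun a ha => (htop a ha).elim)
    set k := (u * m)⁻¹ * g with hkdef
    have hr' : k * r * k⁻¹ ∈ R F z := fun a ha b => by
      have e : ∀ c, (k * r).1 a c = k.1 a c := fun c => by
        rw [Matrix.SpecialLinearGroup.coe_mul, Matrix.mul_apply, Finset.sum_congr rfl fun d _ =>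
          show k.1 a d * r.1 d c = k.1 a d * (1 : Matrix (Fin n) (Fin n) F) d c by
            by_cases hd : d = z
            · rw [hd, hk a ha, zero_mul, zero_mul]
            · rw [hr d hd c], ← Matrix.mul_apply, Matrix.mul_one]
      rw [Matrix.SpecialLinearGroup.coe_mul, Matrix.mul_apply, Finset.sum_congr rfl fun c _ => by rw [e c],
        ← Matrix.mul_apply, ← Matrix.SpecialLinearGroup.coe_mul, mul_inv_cancel, Matrix.SpecialLinearGroup.coe_one]
    have h1 := mul_mem (mul_mem (mul_mem (hUM hu) hm) (hUM (R_le_U hz hr'))) (inv_mem (mul_mem (hUM hu) hm))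
    rwa [show u * m * (k * r * k⁻¹) * (u * m)⁻¹ = g * r * g⁻¹ by rw [hkdef]; group] at h1
  have hall : ∀ g : SL, ∀ r ∈ R F z, g * r * g⁻¹ ∈ M' := by
    intro g r hr
    by_cases hg : g.1 l z ≠ 0
    · exact hY g hg r hr
    push Not at hg
    obtain ⟨j, hj, -⟩ := exists_top (z := z) g
    have hlj : l ≠ j := fun e => hj (e ▸ hg)
    -- a transvection with centre `e l`
    let g₀ : SL := tv hzl.ne (-1 : F) * tv hzl.ne' (1 : F)
    have hg₀ : ∀ a, g₀.1 a z = if a = l then 1 else 0 := fun a => by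
      rw [tv_mul_apply, tv_apply, tv_apply]
      by_cases ha : a = z
      · subst ha
        simp [hzl.ne, hzl.ne']
      · rcases eq_or_ne a l with rfl | hal
        · simp [ha]
        · simp [ha, hal, Ne.symm hal]
    have hs : tv hlj (1 : F) ∈ M' := by
      have h1 := conj_mem_R (z := z) (g := g₀) (A := tv hlj (1 : F)) (fun b => if b = j then 1 else 0)
        (fun a => if a = l then 1 else 0) hg₀ fun a b => by
          rw [tv_apply, Matrix.one_apply]
          congr 1
          by_cases ha : a = l <;> by_cases hb : b = j <;> simp [ha, hb, Ne.symm, eq_comm]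
      have := hY g₀ (by rw [hg₀, if_pos rfl]; exact one_ne_zero) _ h1
      rwa [show g₀ * (g₀⁻¹ * tv hlj (1 : F) * g₀) * g₀⁻¹ = tv hlj (1 : F) by group] at this
    have h1 := hY (tv hlj (1 : F) * g) (by rw [tv_mul_apply, if_pos rfl, hg, zero_add, one_mul]; exact hj) r hr
    have h2 := mul_mem (mul_mem (inv_mem hs) h1) hs
    rwa [show (tv hlj (1 : F))⁻¹ * (tv hlj (1 : F) * g * r * (tv hlj (1 : F) * g)⁻¹) * tv hlj (1 : F) =
      g * r * g⁻¹ by group] at h2
  have hN : Subgroup.normalClosure {π (tv hzl.ne (1 : F))} ≤ M := by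
    refine (Subgroup.closure_le _).2 fun y hy => ?_
    obtain ⟨v, hv, hvy⟩ := Group.mem_conjugatesOfSet_iff.1 hy
    rw [Set.mem_singleton_iff] at hv
    subst hv
    obtain ⟨c, rfl⟩ := isConj_iff.1 hvy
    obtain ⟨g, rfl⟩ := QuotientGroup.mk'_surjective (Subgroup.center SL) c
    rw [SetLike.mem_coe, ← map_inv, ← map_mul, ← map_mul]
    exact hall g _ ht0
  refine eq_top_iff.2 ?_
  rcases IsSimpleGroup.eq_bot_or_eq_top_of_normal (Subgroup.normalClosure {π (tv hzl.ne (1 : F))})
    inferInstance with h | h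
  · refine absurd (hπne _ (R_le_U hz ht0) ?_) ht1
    rw [← Subgroup.mem_bot, ← h]
    exact Subgroup.subset_normalClosure (Set.mem_singleton _)
  · exact h ▸ hN

/-- The elements keeping the span of the first `i + 1` vectors. -/
def blk (i : Fin n) : Subgroup SL where
  carrier := {g | ∀ a b, b ≤ i → i < a → g.1 a b = 0}
  one_mem' := fun a b hb ha => Matrix.one_apply_ne (ne_of_gt (lt_of_le_of_lt hb ha))
  mul_mem' := fun {g h} hg hh a b hb ha => by
    rw [Matrix.SpecialLinearGroup.coe_mul, Matrix.mul_apply]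
    refine Finset.sum_eq_zero fun c _ => ?_
    rcases le_or_gt c i with hc | hc
    · rw [hg a c hc ha, zero_mul]
    · rw [hh c b hb hc, mul_zero]
  inv_mem' := fun {g} hg => by
    have h : g⁻¹ = g ^ (orderOf g - 1) := by
      refine inv_eq_of_mul_eq_one_left ?_
      rw [← pow_succ, Nat.sub_add_cancel (orderOf_pos g), pow_orderOf_eq_one]
    rw [h]
    induction orderOf g - 1 with
    | zero => exact fun a b hb ha => Matrix.one_apply_ne (ne_of_gt (lt_of_le_of_lt hb ha))
    | succ m ih =>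
      rw [pow_succ]
      intro a b hb ha
      rw [Matrix.SpecialLinearGroup.coe_mul, Matrix.mul_apply]
      refine Finset.sum_eq_zero fun c _ => ?_
      rcases le_or_gt c i with hc | hc
      · rw [ih a c hc ha, zero_mul]
      · rw [hg c b hb hc, mul_zero]

theorem center_le_blk (i : Fin n) : Subgroup.center SL ≤ blk i := fun c hc a b hb ha => by
  obtain ⟨r, -, hr⟩ := Matrix.SpecialLinearGroup.mem_center_iff.1 hc
  rw [← hr, scalar_apply, diagonal_apply_ne _ (ne_of_gt (lt_of_le_of_lt hb ha))]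

theorem mem_map_blk (i : Fin n) {g : SL} : π g ∈ (blk (F := F) i).map π ↔ g ∈ blk i := by
  refine ⟨?_, Subgroup.mem_map_of_mem _⟩
  rintro ⟨g', hg', he⟩
  rw [show g = g' * (g'⁻¹ * g) by group]
  exact mul_mem hg' (center_le_blk i (QuotientGroup.eq.1 he))

theorem tv_mem_blk {i j : Fin n} (h : i ≠ j) (c : F) {k : Fin n} (hk : ¬ (j ≤ k ∧ k < i)) :
    tv h c ∈ blk (F := F) k := fun a b hb ha => by
  rw [tv_apply, if_neg (ne_of_gt (lt_of_le_of_lt hb ha)), if_neg, add_zero]
  rintro ⟨rfl, rfl⟩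
  exact hk ⟨hb, ha⟩

theorem conj_mem_U {g : SL} (hg : ∀ i : Fin n, i.val + 1 < n → g ∈ blk (F := F) i) {u : SL}
    (hu : u ∈ U F n) : g * u * g⁻¹ ∈ U F n := by
  have htri : ∀ h : SL, (∀ i : Fin n, i.val + 1 < n → h ∈ blk (F := F) i) → Matrix.BlockTriangular h.1 id :=
    fun h hh a b hba => hh b (by have : b.val < a.val := hba; omega) a b le_rfl hba
  have hA := htri g hg
  have hB := htri g⁻¹ fun i hi => inv_mem (hg i hi)
  have hN : Matrix.BlockTriangular u.1 id := fun a b hba => IsUni.lower hu a b hba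
  have hAN := hA.mul hN
  have hprod : (g.1 * (g⁻¹).1) = 1 := by
    rw [← Matrix.SpecialLinearGroup.coe_mul, mul_inv_cancel, Matrix.SpecialLinearGroup.coe_one]
  have hsum : ∀ (A B : Matrix (Fin n) (Fin n) F), A.BlockTriangular id → B.BlockTriangular id →
      ∀ a, (A * B) a a = A a a * B a a := fun A B hA hB a => by
    rw [Matrix.mul_apply, Finset.sum_eq_single a]
    · intro c _ hc
      rcases lt_or_gt_of_ne hc with hlt | hgt
      · rw [hA hlt, zero_mul]
      · rw [hB hgt, mul_zero]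
    · simp
  intro a b hba
  rw [Matrix.SpecialLinearGroup.coe_mul, Matrix.SpecialLinearGroup.coe_mul]
  rcases eq_or_lt_of_le hba with rfl | hlt
  · rw [if_pos rfl, hsum _ _ hAN hB, hsum _ _ hA hN, hu b b le_rfl, if_pos rfl, mul_one,
      ← hsum _ _ hA hB, hprod, Matrix.one_apply_eq]
  · rw [if_neg (ne_of_gt hlt)]
    exact (hAN.mul hB) hlt

variable [IsSimpleGroup (Matrix.ProjectiveSpecialLinearGroup (Fin n) F)] (hn : 2 ≤ n)
include hn p

/-- A proper overgroup keeps one of the spans. -/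
theorem cover {M : Subgroup PSL} (hM : (U F n).map π ≤ M) (hne : M ≠ ⊤) :
    ∃ i : Fin n, i.val + 1 < n ∧ M ≤ (blk (F := F) i).map π := by
  classical
  obtain ⟨z, hz⟩ : ∃ z : Fin n, z.val = 0 := ⟨⟨0, by omega⟩, rfl⟩
  obtain ⟨l, hl⟩ : ∃ l : Fin n, l.val + 1 = n := ⟨⟨n - 1, by omega⟩, by show n - 1 + 1 = n; omega⟩
  obtain ⟨i, hi, hmax⟩ := Finset.exists_max_image
    (Finset.univ.filter fun a : Fin n => ∃ m : SL, π m ∈ M ∧ m.1 a z ≠ 0) id
    ⟨z, Finset.mem_filter.2 ⟨Finset.mem_univ _, 1, by rw [map_one]; exact M.one_mem, by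
      rw [Matrix.SpecialLinearGroup.coe_one, Matrix.one_apply_eq]; exact one_ne_zero⟩⟩
  obtain ⟨-, m₀, hm₀, hi0⟩ := Finset.mem_filter.1 hi
  have hzero : ∀ m : SL, π m ∈ M → ∀ a, i < a → m.1 a z = 0 := fun m hm a ha => by_contra fun h =>
    absurd (hmax a (Finset.mem_filter.2 ⟨Finset.mem_univ _, m, hm, h⟩)) (not_le.2 ha)
  have hil : i.val + 1 < n := by
    by_contra h
    obtain rfl : i = l := Fin.ext (by omega)
    exact hne (eq_top_of_entry p hM hz hl hn hm₀ hi0)
  refine ⟨i, hil, fun x hx => ?_⟩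
  obtain ⟨g, rfl⟩ := QuotientGroup.mk'_surjective (Subgroup.center SL) x
  refine Subgroup.mem_map_of_mem _ fun a b hb ha => ?_
  have hlow : ∀ c, c < i → g.1 a c = 0 := by
    intro c hc
    have hu : tv hc.ne (1 : F) ∈ U F n := tv_mem_U hc 1
    have h1 := hzero (g * (tv hc.ne (1 : F) * m₀))
      (by rw [map_mul, map_mul]; exact M.mul_mem hx (M.mul_mem (hM (Subgroup.mem_map_of_mem _ hu)) hm₀)) a ha
    have h2 := hzero (g * m₀) (by rw [map_mul]; exact M.mul_mem hx hm₀) a ha
    rw [← mul_assoc, Matrix.SpecialLinearGroup.coe_mul, Matrix.mul_apply] at h1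
    rw [Matrix.SpecialLinearGroup.coe_mul, Matrix.mul_apply] at h2
    simp only [mul_tv_apply, mul_one, add_mul, ite_mul, zero_mul, Finset.sum_add_distrib,
      Finset.sum_ite_eq', Finset.mem_univ, if_true, h2, zero_add] at h1
    exact (mul_eq_zero.1 h1).resolve_right hi0
  rcases eq_or_lt_of_le hb with rfl | hb'
  · have h2 := hzero (g * m₀) (by rw [map_mul]; exact M.mul_mem hx hm₀) a ha
    rw [Matrix.SpecialLinearGroup.coe_mul, Matrix.mul_apply, Finset.sum_eq_single b] at h2
    · exact (mul_eq_zero.1 h2).resolve_right hi0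
    · intro c _ hc
      rcases lt_or_gt_of_ne hc with hlt | hgt
      · rw [hlow c hlt, zero_mul]
      · rw [hzero m₀ hm₀ c hgt, mul_zero]
    · simp
  · exact hlow b hb'

/-- The lattice of `PSL_n`. -/
theorem res_psl : HasLat p PSL (n - 1) ∧ (4 ≤ n → Excluded p PSL) := by
  classical
  obtain ⟨S, hS⟩ := exists_sylow_psl (F := F) p (n := n) (by omega)
  obtain ⟨z, hz⟩ : ∃ z : Fin n, z.val = 0 := ⟨⟨0, by omega⟩, rfl⟩
  obtain ⟨l, hl⟩ : ∃ l : Fin n, l.val + 1 = n := ⟨⟨n - 1, by omega⟩, by show n - 1 + 1 = n; omega⟩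
  have hzl : z < l := by show z.val < l.val; omega
  have hne : (U F n).map π ≠ ⊥ := fun h => by
    have h1 := eq_one_of_quot p (by omega) (tv_mem_U hzl (1 : F)) (by
      rw [← Subgroup.mem_bot, ← h]; exact Subgroup.mem_map_of_mem _ (tv_mem_U hzl 1))
    have h2 := congrFun (congrFun (congrArg Subtype.val h1) z) l
    rw [tv_apply, if_neg hzl.ne, if_pos ⟨rfl, rfl⟩, Matrix.SpecialLinearGroup.coe_one,
      Matrix.one_apply_ne hzl.ne, zero_add] at h2
    exact one_ne_zero h2
  let emb : Fin (n - 1) → Fin n := fun i => ⟨i.val, by omega⟩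
  let C : Fin (n - 1) → Subgroup PSL := fun i => (blk (F := F) (emb i)).map π
  -- the witnesses
  have wit : ∀ i : Fin (n - 1), ∃ w : SL, w ∉ blk (F := F) (emb i) ∧ ∀ j, j ≠ i → w ∈ blk (emb j) := by
    intro i
    obtain ⟨j, hj⟩ : ∃ j : Fin n, j.val = i.val + 1 := ⟨⟨i.val + 1, by omega⟩, rfl⟩
    have hlt : emb i < j := by show i.val < j.val; omega
    refine ⟨tv hlt.ne' (1 : F), fun h => ?_, fun k hk => tv_mem_blk _ _ ?_⟩
    · have h1 := h j (emb i) le_rfl hlt
      rw [tv_apply, if_neg hlt.ne', if_pos ⟨rfl, rfl⟩, zero_add] at h1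
      exact one_ne_zero h1
    · rintro ⟨h1, h2⟩
      have h1' : i.val ≤ k.val := h1
      have h2' : k.val < j.val := h2
      exact hk (Fin.ext (by omega))
  have hlat : Lat ((U F n).map π) C :=
    { le := fun i => Subgroup.map_mono fun u hu a b hb ha => by
        rw [hu a b (le_of_lt (lt_of_le_of_lt hb ha)), if_neg (ne_of_gt (lt_of_le_of_lt hb ha))]
      ne_top := fun i h => by
        obtain ⟨w, hw, -⟩ := wit i
        exact hw ((mem_map_blk _).1 (h.ge (Subgroup.mem_top (π w))))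
      cover := fun Q hQ hQ' => by
        obtain ⟨i, hi, hle⟩ := cover p hn hQ hQ'
        exact ⟨⟨i.val, by omega⟩, hle⟩
      wit := fun i => by
        obtain ⟨w, hw, hw'⟩ := wit i
        exact ⟨π w, fun h => hw ((mem_map_blk _).1 h), fun j hj => Subgroup.mem_map_of_mem _ (hw' j hj)⟩
      inf_le := fun x hx => by
        obtain ⟨g, rfl⟩ := QuotientGroup.mk'_surjective (Subgroup.center SL) x
        have hg : ∀ i : Fin n, i.val + 1 < n → g ∈ blk (F := F) i := fun i hi =>
          (mem_map_blk _).1 (hx ⟨i.val, by omega⟩)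
        refine Subgroup.mem_normalizer_iff.2 fun y => ⟨?_, ?_⟩
        · rintro ⟨u, hu, rfl⟩
          exact ⟨g * u * g⁻¹, conj_mem_U hg hu, by rw [map_mul, map_mul, map_inv]⟩
        · rintro ⟨u, hu, he⟩
          refine ⟨g⁻¹ * u * g, ?_, ?_⟩
          · simpa using conj_mem_U (g := g⁻¹) (fun i hi => inv_mem (hg i hi)) hu
          · rw [map_mul, map_mul, map_inv, he]; group
      pos := by omega }
  refine ⟨⟨S, hS.symm ▸ hne, C, hS.symm ▸ hlat⟩, fun h4 => ⟨S, hS.symm ▸ hne, Or.inl ⟨n - 1, C,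
    hS.symm ▸ hlat, fun hF => ?_⟩⟩⟩
  rw [hS] at hF
  obtain ⟨a₁, ha₁⟩ : ∃ a : Fin n, a.val = 1 := ⟨⟨1, by omega⟩, rfl⟩
  obtain ⟨a₂, ha₂⟩ : ∃ a : Fin n, a.val = 2 := ⟨⟨2, by omega⟩, rfl⟩
  have h12 : a₁ < a₂ := by show a₁.val < a₂.val; omega
  have hnc : ∃ x y : PSL, x * y ≠ y * x := by
    by_contra h
    push Not at h
    rcases IsSimpleGroup.eq_bot_or_eq_top_of_normal ((U F n).map π)
      ⟨fun y hy g => by rw [h g y, mul_inv_cancel_right]; exact hy⟩ with e | e
    · exact hne e
    · exact hlat.ne_top ⟨0, by omega⟩ (top_le_iff.1 (e ▸ hlat.le _))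
  refine false_of_centCen (w := π (tv h12.ne' (1 : F))) (i := ⟨1, by omega⟩) (hS ▸ S.isPGroup') hne hnc
    ?_ (fun h => ?_) hF
  · rintro _ ⟨u, hu, rfl⟩ hcomm
    have hc' : ∀ i j : Fin n, ∀ hij : i < j, tv hij.ne (1 : F) * u = u * tv hij.ne (1 : F) := fun i j hij =>
      eq_of_center p (by omega)
        (by obtain ⟨k, hk⟩ := isPGroup_U (p := p) (by omega) ⟨_, mul_mem (tv_mem_U hij (1 : F)) hu⟩
            exact ⟨k, congrArg Subtype.val hk⟩)
        (by obtain ⟨k, hk⟩ := isPGroup_U (p := p) (by omega) ⟨_, mul_mem hu (tv_mem_U hij (1 : F))⟩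
            exact ⟨k, congrArg Subtype.val hk⟩)
        (by rw [map_mul, map_mul]; exact hcomm _ (Subgroup.mem_map_of_mem _ (tv_mem_U hij 1)))
    have hcol : ∀ c b, b ≠ l → c ≠ b → u.1 c b = 0 := fun c b hb hcb => by
      have hlt : b < l := by
        show b.val < l.val
        have : b.val ≠ l.val := fun e => hb (Fin.ext e)
        omega
      have h := congrFun (congrFun (congrArg Subtype.val (hc' b l hlt)) c) l
      rw [tv_mul_apply, mul_tv_apply, if_neg hcb, if_pos rfl, add_zero, mul_one] at h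
      exact add_eq_left.1 h.symm
    have hrow : ∀ a d, a ≠ z → a ≠ d → u.1 a d = 0 := fun a d ha had => by
      have hlt : z < a := by
        show z.val < a.val
        have : a.val ≠ z.val := fun e => ha (Fin.ext e)
        omega
      have h := congrFun (congrFun (congrArg Subtype.val (hc' z a hlt)) z) d
      rw [tv_mul_apply, mul_tv_apply, if_pos rfl, if_neg (Ne.symm had), add_zero, one_mul] at h
      exact add_eq_left.1 h
    rw [← map_mul, ← map_mul]
    congr 1
    refine Subtype.ext (Matrix.ext fun c d => ?_)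
    rw [mul_tv_apply, tv_mul_apply]
    have hdiag : ∀ a, u.1 a a = 1 := fun a => IsUni.diag hu a
    have e1 : a₁ ≠ l := Fin.ne_of_val_ne (by omega)
    have e2 : a₂ ≠ z := Fin.ne_of_val_ne (by omega)
    have e3 : a₁ ≠ z := Fin.ne_of_val_ne (by omega)
    have e4 : a₂ ≠ l := Fin.ne_of_val_ne (by omega)
    congr 1
    by_cases hd : d = a₁ <;> by_cases hcc : c = a₂
    · subst hd; subst hcc; rw [if_pos rfl, if_pos rfl, mul_one, one_mul, hdiag, hdiag]
    · subst hd; rw [if_pos rfl, if_neg hcc, mul_one, hcol c a₂ e4 hcc]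
    · subst hcc; rw [if_neg hd, if_pos rfl, one_mul, hrow a₁ d e3 (Ne.symm hd)]
    · rw [if_neg hd, if_neg hcc]
  · have h1 := (mem_map_blk _).1 h a₂ a₁ (by show a₁.val ≤ 1; omega) (by show 1 < a₂.val; omega)
    rw [tv_apply, if_neg h12.ne', if_pos ⟨rfl, rfl⟩, zero_add] at h1
    exact one_ne_zero h1

end CfsgLib.Chev.PMin.SLLat
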