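import Cfsg.Agent.Lib.Chev.RigidSuzuki
import Cfsg.Agent.Lib.Chev.PMin.BNLat

/-!
The Suzuki groups: one maximal overgroup of a Sylow 2-subgroup.
-/

set_option autoImplicit false

namespace CfsgLib.Chev.PMin.Suz

open CfsgLib.Suzuki CfsgLib.Chev.Rigid

variable {F : Type*} [Field F] [CharP F 2] [Fintype F] {m : ℕ}

theorem lat_sz (hm : 1 ≤ m) (hF : Fintype.card F = 2 ^ (2 * m + 1)) : HasLat 2 (Cfsg.Sz F m) 1 := by
  haveI : IsSimpleGroup (Cfsg.Sz F m) := isSimpleGroup_sz hm hF
  haveI : Fact (Nat.Prime 2) := ⟨Nat.prime_two⟩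
  set h := thSq_of_card hF
  let P : Cfsg.BNPair (Cfsg.Sz F m) :=
    { B := bSub F m
      N := szN h
      S := {wG h}
      sup_eq_top := eq_top_iff.2 fun g _ => by
        rcases sz_cover hF g with hg | hg
        · exact Subgroup.mem_sup_left hg
        · obtain ⟨a, ha, b, hb, rfl⟩ := DoubleCoset.mem_doubleCoset.1 hg
          exact mul_mem (mul_mem (Subgroup.mem_sup_left ha) (Subgroup.mem_sup_right (wG_mem_szN h)))
            (Subgroup.mem_sup_left hb)
      conj_mem := fun n hn t ht => by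
        refine hSub_le_bSub h ?_
        have htH := mem_hSub_of_mem ht.2 ht.1
        rcases hn with hn | hn
        · exact mul_mem (mul_mem hn htH) (inv_mem hn)
        · have := hSub_conj_w h (mul_mem (mul_mem hn htH) (inv_mem hn))
          rwa [mul_inv_rev, wG_inv, show wG h * (wG h * n * t * (n⁻¹ * wG h)) * wG h =
            wG h * wG h * (n * t * n⁻¹) * (wG h * wG h) by group, wG_sq, one_mul, mul_one] at this
      subset := fun _ hs => (Set.mem_singleton_iff.1 hs).symm ▸ wG_mem_szN h
      sq_mem := fun _ hs => by rw [Set.mem_singleton_iff.1 hs, wG_sq]; exact one_mem _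
      inj := fun _ hs _ hs' _ => hs.trans hs'.symm
      closure_sup := by
        refine le_antisymm (sup_le ((Subgroup.closure_le _).2 fun _ hs =>
          (Set.mem_singleton_iff.1 hs).symm ▸ wG_mem_szN h) inf_le_right) fun x hx => ?_
        rcases hx with hx | hx
        · exact Subgroup.mem_sup_right ⟨hSub_le_bSub h hx, Or.inl hx⟩
        · rw [show x = wG h * (wG h * x) by rw [← mul_assoc, wG_sq, one_mul]]
          exact mul_mem (Subgroup.mem_sup_left (Subgroup.subset_closure rfl))
            (Subgroup.mem_sup_right ⟨hSub_le_bSub h hx, Or.inl hx⟩)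
      mul_mem_union := fun s hs n hn b _ => by
        rw [Set.mem_singleton_iff.1 hs]
        rcases sz_cover hF (wG h * b * n) with hc | hc <;> rcases hn with hn | hn
        · exact Or.inr (doubleCoset_mem_eq hn hc)
        · exact Or.inl (doubleCoset_mem_eq hn hc)
        · refine Or.inl ((sz_mem_of_cell (h := h) ?_).symm ▸ hc)
          rwa [← mul_assoc, wG_sq, one_mul]
        · exact Or.inr ((sz_mem_of_cell hn).symm ▸ hc)
      conj_ne := fun s hs he => by
        rw [Set.mem_singleton_iff.1 hs] at he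
        have h1 : wG h * tG h 1 0 * wG h ∈ (bSub F m : Set (Cfsg.Sz F m)) :=
          he ▸ ⟨_, tG_mem_bSub h 1 0, rfl⟩
        refine wG_not_mem h (mem_bSub_of_conj (h := h) (u := tG h 1 0) ⟨1, 0, rfl⟩ ?_ ?_)
        · rw [Ne, tG_eq_one]; simp
        · rw [wG_inv]; exact h1 }
  let X : Split 2 (Cfsg.Sz F m) :=
    { P := P
      U := uSub h
      le := uSub_le_bSub h
      normal := fun b hb u hu => conj_mem_uSub hm hF hb hu
      split := fun b hb => by
        obtain ⟨a, c, s, e⟩ := exists_of_mem_bSub hm hF hb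
        exact ⟨_, ⟨a, c, rfl⟩, hG h s, ⟨hG_mem_bSub h s, Or.inl ⟨s, rfl⟩⟩, e⟩
      pgroup := isPGroup_uSub hF
      coprime := by
        intro hd
        have hle : P.B ⊓ P.N ≤ hSub h := fun x hx => mem_hSub_of_mem hx.2 hx.1
        exact card_units_odd hF (by
          have := hd.trans (Subgroup.card_dvd_of_le hle)
          rwa [card_hSub] at this)
      n0 := wG h
      n0N := wG_mem_szN h
      opp := fun u hu hB => by
        by_contra hu1
        refine wG_not_mem h (mem_bSub_of_conj hu hu1 ?_)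
        rwa [wG_inv] at hB ⊢
      ne_top := fun e => wG_not_mem h (e.symm ▸ Subgroup.mem_top (wG h) : wG h ∈ P.B) }
  have h1 : Nat.card ↥X.P.S = 1 := by
    show Nat.card ↥({wG h} : Set (Cfsg.Sz F m)) = 1
    simp
  exact h1 ▸ BNLat.res X

theorem lat_lieSz (hm : 1 ≤ m) (hF : Fintype.card F = 2 ^ (2 * m + 1)) :
    HasLat 2 ↥(Cfsg.Lie.Sz F (2 ^ (m + 1))) 1 :=
  haveI : Fact (Nat.Prime 2) := ⟨Nat.prime_two⟩
  (lat_sz hm hF).of_mulEquiv (szEquiv hm hF)

end CfsgLib.Chev.PMin.Suz
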