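import Cfsg.Agent.Lib.Chev.PMin.Outcome
import Cfsg.Agent.Lib.Chev.RigidTits

/-!
The Tits group: its two maximal subgroups over a Sylow 2-subgroup are not conjugate.
-/

set_option autoImplicit false
set_option maxHeartbeats 400000

namespace CfsgLib.Chev.PMin.TitsLat

open Cfsg.Lie CfsgLib.Chev.Tits

attribute [local irreducible] Lt matP mulP evalP prodP elemsP gW pW

theorem par_le_tits : ∀ o, parT o ≤ titsSub := by
  intro o
  fin_cases o
  · exact three_le
  · exact five_le

theorem card_par : Nat.card ↥(parT 0) = 3 * 2 ^ 11 ∧ Nat.card ↥(parT 1) = 5 * 2 ^ 11 :=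
  ⟨(coset_spec (by norm_num) (by norm_num) (by simp [wThree]) checkThree_ok).1,
    (coset_spec (by norm_num) (by norm_num) (by simp [wFive]) checkFive_ok).1⟩

theorem inf_par : parT 0 ⊓ parT 1 = chain 1 := by
  have hc : Nat.card ↥(chain 1) = 2 ^ 11 := (chain_spec 11 1 rfl).1
  haveI : Finite ↥(parT 0) := Nat.finite_of_card_ne_zero (by rw [card_par.1]; norm_num)
  haveI : Finite ↥(parT 0 ⊓ parT 1 : Subgroup _) :=
    Finite.of_injective _ (Subgroup.inclusion_injective (inf_le_left : parT 0 ⊓ parT 1 ≤ parT 0))
  refine (Subgroup.eq_of_le_of_card_ge (le_inf (chain_le_par 0) (chain_le_par 1)) ?_).symm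
  rw [hc]
  refine Nat.le_of_dvd (by norm_num) ?_
  have h := Nat.dvd_gcd (Subgroup.card_dvd_of_le (inf_le_left : parT 0 ⊓ parT 1 ≤ parT 0))
    (Subgroup.card_dvd_of_le (inf_le_right : parT 0 ⊓ parT 1 ≤ parT 1))
  rw [card_par.1, card_par.2, Nat.gcd_mul_right] at h
  simpa using h

theorem excluded : Excluded 2 TitsGroup := by
  obtain ⟨S⟩ := exists_setup
  haveI : Fact (Nat.Prime 2) := ⟨Nat.prime_two⟩
  set U := (chain 1).comap inc with hU
  have hcard : Nat.card ↥U = 2 ^ 11 := (card_comap chain_one_le_tits).trans (chain_spec 11 1 rfl).1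
  have hUp : IsPGroup 2 ↥U := IsPGroup.of_card hcard
  have hidx : ¬ 2 ∣ U.index := by
    have h := U.card_mul_index
    rw [hcard, card_tits] at h
    omega
  haveI : Finite TitsGroup := Nat.finite_of_card_ne_zero (by rw [card_tits]; norm_num)
  have hC : ∀ o, Nat.card ↥((parT o).comap inc) = Nat.card ↥(parT o) := fun o => card_comap (par_le_tits o)
  have h35 : ∀ o o' : Fin 2, Nat.card ↥(parT o) = Nat.card ↥(parT o') → o = o' := by
    intro o o' h
    fin_cases o <;> fin_cases o' <;> first | rfl | skip
    all_goals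
      simp only [Fin.zero_eta, Fin.mk_one, card_par.1, card_par.2] at h
      norm_num at h
  refine ⟨hUp.toSylow hidx, fun h => ?_, Or.inl ⟨2, fun o => (parT o).comap inc, ?_, fun hF => ?_⟩⟩
  · change U = ⊥ at h
    rw [h, Subgroup.card_bot] at hcard
    norm_num at hcard
  · show Lat U _
    refine ⟨fun o => Subgroup.comap_mono (chain_le_par o), fun o h => ?_, fun Q hQ hQ1 => ?_, fun o => ?_,
      fun x hx => Subgroup.le_normalizer ?_, by norm_num⟩
    · have h' := hC o
      rw [h, Subgroup.card_top, card_tits] at h'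
      fin_cases o <;> simp only [Fin.zero_eta, Fin.mk_one, card_par.1, card_par.2] at h' <;> norm_num at h'
    · have h1 : chain 1 ≤ Q.map inc := by
        have := Subgroup.map_mono (f := inc) hQ
        rwa [hU, Subgroup.map_comap_eq_self (inc_range ▸ chain_one_le_tits)] at this
      rcases overgroup_cases S h1 (inc_range ▸ Subgroup.map_le_range inc Q) with h | ⟨o, h⟩
      · exact absurd (Subgroup.map_injective inc_injective
          (by rw [h, ← MonoidHom.range_eq_map, inc_range])) hQ1
      · exact ⟨o, Subgroup.map_le_iff_le_comap.1 h⟩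
    · by_contra hcon
      push Not at hcon
      obtain ⟨o', ho'⟩ := exists_ne o
      have hle : (parT o').comap inc ≤ (parT o).comap inc := fun w hw => by
        by_contra hwo
        obtain ⟨j, hj, hwj⟩ := hcon w hwo
        obtain rfl : j = o' := (show ∀ a b c : Fin 2, a ≠ c → b ≠ c → a = b by decide) j o' o hj ho'
        exact hwj hw
      have h2 := Subgroup.map_mono (f := inc) hle
      rw [Subgroup.map_comap_eq_self (inc_range ▸ par_le_tits o'),
        Subgroup.map_comap_eq_self (inc_range ▸ par_le_tits o)] at h2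
      have hall : ∀ k, parT o' ≤ parT k := fun k => by
        rcases eq_or_ne k o' with rfl | hk
        · exact le_refl _
        · obtain rfl : k = o := (show ∀ a b c : Fin 2, a ≠ c → b ≠ c → a = b by decide) k o o' hk ho'.symm
          exact h2
      have h3 : parT o' ≤ chain 1 := inf_par ▸ le_inf (hall 0) (hall 1)
      haveI : Finite ↥(chain 1) := Nat.finite_of_card_ne_zero (by rw [(chain_spec 11 1 rfl).1]; norm_num)
      have h4 := Subgroup.card_le_of_le h3
      rw [(chain_spec 11 1 rfl).1] at h4
      fin_cases o' <;> simp only [Fin.zero_eta, Fin.mk_one, card_par.1, card_par.2] at h4 <;> norm_num at h4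
    · show inc x ∈ chain 1
      rw [← inf_par]
      exact ⟨hx 0, hx 1⟩
  · obtain ⟨a, -, ha⟩ := hF.trans 0 1
    refine absurd (h35 0 1 ?_) (by decide)
    rw [← hC 0, ← hC 1, ← ha]
    exact Nat.card_congr (Subgroup.equivMapOfInjective _ a.toMonoidHom a.injective).toEquiv

end CfsgLib.Chev.PMin.TitsLat
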