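import Cfsg.Agent.Lib.Chev.PMin.Outcome
import Cfsg.Agent.Lib.Chev.RigidChevSimple

/-!
`U₃(3)` in characteristic two: the centralizer of the centre of a Sylow 2-subgroup and the
normalizer of its abelian subgroup of type (4,4) are invariant and generate the group.
-/

set_option autoImplicit false

namespace CfsgLib.Chev.PMin.U33

open Matrix CfsgLib.Classical

variable {F : Type*} [Field F] [Fintype F] (hF : Fintype.card F = 3 ^ 2) {i : F} (hi : i * i = -1)

include hF in
theorem three_eq_zero : (3 : F) = 0 := by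
  haveI : Fact (Nat.Prime 3) := ⟨Nat.prime_three⟩
  haveI : CharP F 3 := charP_of_card_eq_prime_pow (f := 2) hF
  exact_mod_cast CharP.cast_eq_zero F 3

/-- The powers of `i`, indexed modulo four. -/
def chi (i : F) (x : ZMod 4) : F := ![1, i, -1, -i] x

include hi in
omit [Fintype F] in
theorem chi_add (x y : ZMod 4) : chi i (x + y) = chi i x * chi i y := by
  fin_cases x <;> fin_cases y <;> simp [chi, hi] <;> rfl

include hF hi in
theorem chi_frob (x : ZMod 4) : chi i x * chi i x ^ 3 = 1 := by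
  fin_cases x <;>
    simp [chi, show i * i ^ 3 = (i * i) * (i * i) by ring, hi] <;>
    first | rfl | linear_combination (i * i - 1) * hi | norm_num

include hF hi in
theorem chi_inj {x y : ZMod 4} (h : chi i x = chi i y) : x = y := by
  have h3 := three_eq_zero hF
  have h2 : (1 : F) ≠ -1 := fun e => one_ne_zero (show (1 : F) = 0 by linear_combination h3 - e)
  have hi1 : i ≠ 1 := fun e => h2 (by rw [← hi, e, one_mul])
  have hi2 : i ≠ -1 := fun e => h2 (by rw [← hi, e]; ring)
  have hi0 : i ≠ 0 := fun e => by rw [e, zero_mul] at hi; simp at hi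
  have hii : i ≠ -i := fun e => hi0 (by linear_combination i * h3 - e)
  fin_cases x <;> fin_cases y <;> simp [chi] at h ⊢ <;>
    first
    | rfl
    | exact absurd h hi1 | exact absurd h.symm hi1
    | exact absurd h hi2 | exact absurd h.symm hi2
    | exact absurd h h2 | exact absurd h.symm h2
    | exact absurd h hii | exact absurd h.symm hii
    | exact absurd (neg_inj.1 (by simpa using h)) hi1
    | exact absurd (show i = -1 by linear_combination -h) hi2
    | exact absurd (show i = 1 by linear_combination -h) hi1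
    | exact absurd (show i = -1 by linear_combination h) hi2
    | exact absurd (show i = 1 by linear_combination h) hi1

include hF in
theorem su_of (M : Matrix (Fin 3) (Fin 3) F) (hd : M.det = 1)
    (hu : Mᵀ * M.map (fun x => x ^ 3) = 1) : ∃ s : Cfsg.SU 3 F 3, s.1.1 = M := by
  refine ⟨⟨⟨M, hd⟩, (mem_su_iff hF _).2 ?_⟩, rfl⟩
  convert hu using 3
  funext x
  exact qFrob_apply hF x

include hF hi in
theorem exists_tt (p : ZMod 4 × ZMod 4) : ∃ s : Cfsg.SU 3 F 3,
    s.1.1 = Matrix.diagonal ![chi i p.1, chi i p.2, chi i (-p.1 - p.2)] := by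
  refine diagonal_mem_su hF _ (fun k => ?_) ?_
  · rw [pow_succ']
    fin_cases k <;> simpa using chi_frob hF hi _
  · rw [Fin.prod_univ_three]
    show chi i p.1 * chi i p.2 * chi i (-p.1 - p.2) = 1
    rw [← chi_add hi, ← chi_add hi, show p.1 + p.2 + (-p.1 - p.2) = 0 by ring]
    rfl

/-- The diagonal elements. -/
noncomputable def tt (p : ZMod 4 × ZMod 4) : Cfsg.SU 3 F 3 := (exists_tt hF hi p).choose

theorem coe_tt (p : ZMod 4 × ZMod 4) :
    (tt hF hi p).1.1 = Matrix.diagonal ![chi i p.1, chi i p.2, chi i (-p.1 - p.2)] :=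
  (exists_tt hF hi p).choose_spec

theorem tt_add (p q : ZMod 4 × ZMod 4) : tt hF hi (p + q) = tt hF hi p * tt hF hi q := by
  refine Subtype.ext (Subtype.ext ?_)
  show (tt hF hi (p + q)).1.1 = (tt hF hi p).1.1 * (tt hF hi q).1.1
  rw [coe_tt, coe_tt, coe_tt, Matrix.diagonal_mul_diagonal]
  congr 1
  funext k
  fin_cases k
  · exact chi_add hi _ _
  · exact chi_add hi _ _
  · show chi i (-(p.1 + q.1) - (p.2 + q.2)) = chi i (-p.1 - p.2) * chi i (-q.1 - q.2)
    rw [← chi_add hi]; congr 1; ring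

theorem tt_inj {p q : ZMod 4 × ZMod 4} (h : tt hF hi p = tt hF hi q) : p = q := by
  have h1 := congrArg (fun s : Cfsg.SU 3 F 3 => s.1.1) h
  simp only [coe_tt] at h1
  have h2 := Matrix.diagonal_injective h1
  exact Prod.ext (chi_inj hF hi (congrFun h2 0)) (chi_inj hF hi (congrFun h2 1))

/-- The diagonal subgroup. -/
noncomputable def ttHom : Multiplicative (ZMod 4 × ZMod 4) →* Cfsg.SU 3 F 3 :=
  MonoidHom.mk' (fun p => tt hF hi p.toAdd) fun p q => tt_add hF hi _ _

include hF hi in
theorem exists_d : ∃ d : Cfsg.SU 3 F 3, d.1.1 = !![1 + i, 1 + i, 0; i - 1, 1 - i, 0; 0, 0, 1] ∧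
    d.1.1 * d.1.1 = -d.1.1 - 1 := by
  have h3 := three_eq_zero hF
  have hp : (1 + i) ^ 3 = 1 - i := by linear_combination (i + 3) * hi + (i - 1) * h3
  have hm : (1 - i) ^ 3 = 1 + i := by linear_combination (3 - i) * hi + (-i - 1) * h3
  have hn : (i - 1) ^ 3 = -i - 1 := by linear_combination (i - 3) * hi + (i + 1) * h3
  obtain ⟨d, hd⟩ := su_of hF !![1 + i, 1 + i, 0; i - 1, 1 - i, 0; 0, 0, 1]
    (by
      simp [Matrix.det_fin_three]
      linear_combination (-2 : F) * hi + h3)
    (by
      rw [show Matrix.map !![1 + i, 1 + i, 0; i - 1, 1 - i, 0; 0, 0, 1] (fun x => x ^ 3) =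
          !![1 - i, 1 - i, 0; -i - 1, 1 + i, 0; 0, 0, 1] by
        ext a b; fin_cases a <;> fin_cases b <;> simp [hp, hm, hn]]
      ext a b
      fin_cases a <;> fin_cases b <;> simp [Matrix.mul_apply, Fin.sum_univ_three] <;>
        first
        | ring1
        | linear_combination (-2 : F) * hi + h3)
  refine ⟨d, hd, ?_⟩
  rw [hd]
  ext a b
  fin_cases a <;> fin_cases b <;> simp [Matrix.mul_apply, Fin.sum_univ_three] <;>
    first
    | linear_combination (2 : F) * hi + i * h3
    | linear_combination (1 + i) * h3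
    | linear_combination (i - 1) * h3
    | linear_combination (2 : F) * hi - i * h3
    | linear_combination h3

/-- The exchange of the first two coordinates of an index. -/
def sw (e : Bool) (p : ZMod 4 × ZMod 4) : ZMod 4 × ZMod 4 := bif e then (p.2, p.1) else p

set_option maxHeartbeats 1600000 in
include hF hi in
theorem excluded_su :  Excluded 2 (Cfsg.SU 3 F 3) := by
  haveI : Fact (Nat.Prime 2) := ⟨Nat.prime_two⟩
  have h3 := three_eq_zero hF
  have h32 : ¬ ((3 : ℕ) = 3 ∧ (3 : ℕ) = 2) := by norm_num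
  haveI : Finite (Cfsg.SU 3 F 3) := inferInstance
  -- the projection is bijective
  have hcen : Subgroup.center (Cfsg.SU 3 F 3) = ⊥ :=
    Subgroup.card_eq_one.1 (by rw [card_center_su hF (by norm_num)]; norm_num)
  let π : Cfsg.SU 3 F 3 ≃* Cfsg.PSU 3 F 3 := MulEquiv.ofBijective
    (QuotientGroup.mk' (Subgroup.center (Cfsg.SU 3 F 3)))
    ⟨(MonoidHom.ker_eq_bot_iff _).1 (by rw [QuotientGroup.ker_mk', hcen]),
      QuotientGroup.mk'_surjective _⟩
  haveI : IsSimpleGroup (Cfsg.PSU 3 F 3) := Cfsg.Agent.S0283.result hF 3 le_rfl h32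
  haveI : IsSimpleGroup (Cfsg.SU 3 F 3) := MulEquiv.isSimpleGroup π
  have hG : Nat.card (Cfsg.SU 3 F 3) = 6048 :=
    (Nat.card_congr π.toEquiv).trans (Rigid.card_psu_three_three hF)
  have hidx : ∀ H : Subgroup (Cfsg.SU 3 F 3), H ≠ ⊤ → 28 ≤ H.index := fun H hH => by
    have h := (Cfsg.Agent.S2148.result 3 hF le_rfl (by norm_num)).1 (H.map π.toMonoidHom)
      fun e => hH ((map_top_iff π H).1 e)
    have h' : (H.map π.toMonoidHom).index = H.index :=
      Subgroup.index_map_of_bijective (f := π.toMonoidHom) π.bijective H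
    rwa [h'] at h
  -- the three other elements
  obtain ⟨s, hs⟩ := su_of hF !![0, 1, 0; 1, 0, 0; 0, 0, -1]
    (by simp [Matrix.det_fin_three]) (by
      ext a b
      fin_cases a <;> fin_cases b <;>
        simp [Matrix.mul_apply, Fin.sum_univ_three] <;> ring)
  obtain ⟨c, hc⟩ := su_of hF !![0, 1, 0; 0, 0, 1; 1, 0, 0]
    (by simp [Matrix.det_fin_three]) (by
      ext a b
      fin_cases a <;> fin_cases b <;> simp [Matrix.mul_apply, Fin.sum_univ_three])
  obtain ⟨d, hd, hd2⟩ := exists_d hF hi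
  have hext : ∀ g h : Cfsg.SU 3 F 3, g.1.1 = h.1.1 → g = h := fun g h e => Subtype.ext (Subtype.ext e)
  have hmul : ∀ g h : Cfsg.SU 3 F 3, (g * h).1.1 = g.1.1 * h.1.1 := fun _ _ => rfl
  -- their relations with the diagonal
  have hst : ∀ p : ZMod 4 × ZMod 4, s * tt hF hi p = tt hF hi (sw true p) * s := fun p => hext _ _ (by
    rw [hmul, hmul, coe_tt, coe_tt, hs]
    ext a b
    fin_cases a <;> fin_cases b <;>
      simp [Matrix.mul_apply, Fin.sum_univ_three, sw, neg_sub_left, add_comm])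
  have hct : ∀ p : ZMod 4 × ZMod 4, c * tt hF hi p = tt hF hi (p.2, -p.1 - p.2) * c := fun p => hext _ _ (by
    rw [hmul, hmul, coe_tt, coe_tt, hc]
    ext a b
    fin_cases a <;> fin_cases b <;>
      simp [Matrix.mul_apply, Fin.sum_univ_three] <;> ring_nf)
  have hss : s * s = 1 := hext _ _ (by
    rw [hmul, hs]
    ext a b
    fin_cases a <;> fin_cases b <;> simp [Matrix.mul_apply, Fin.sum_univ_three])
  have hdz : d * tt hF hi (1, 1) = tt hF hi (1, 1) * d := hext _ _ (by
    rw [hmul, hmul, coe_tt, hd]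
    ext a b
    fin_cases a <;> fin_cases b <;>
      simp [Matrix.mul_apply, Fin.sum_univ_three, chi, Matrix.diagonal] <;> ring)
  have hcz : c * tt hF hi (1, 1) ≠ tt hF hi (1, 1) * c := fun e => by
    rw [hct] at e
    exact absurd (congrArg Prod.snd (tt_inj hF hi (mul_right_cancel e))) (by decide)
  have hd3 : orderOf d = 3 := by
    haveI : Fact (Nat.Prime 3) := ⟨Nat.prime_three⟩
    refine orderOf_eq_prime (hext _ _ ?_) fun e => ?_
    · rw [pow_succ, pow_two, hmul, hmul, hd2, Matrix.sub_mul, Matrix.neg_mul, hd2, Matrix.one_mul,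
        neg_sub, sub_neg_eq_add, add_sub_cancel_right]
      rfl
    · have h1 := congrArg (fun g : Cfsg.SU 3 F 3 => g.1.1 0 0) e
      simp only [hd] at h1
      have h2 : i = 0 := by simpa using h1
      rw [h2, zero_mul] at hi
      simp at hi
  have hsT : ∀ p, tt hF hi p ≠ s := fun p e => by
    have h1 := congrArg (fun g : Cfsg.SU 3 F 3 => g.1.1 0 1) e
    simp [coe_tt, hs] at h1
  -- the Sylow subgroup
  let f : (ZMod 4 × ZMod 4) × Bool → Cfsg.SU 3 F 3 := fun u => tt hF hi u.1 * bif u.2 then s else 1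
  have hf : ∀ u v, f u * f v = f (u.1 + sw u.2 v.1, xor u.2 v.2) := by
    rintro ⟨p, e⟩ ⟨q, e'⟩
    cases e <;> cases e' <;>
      simp [f, tt_add, sw, hst, mul_assoc, hss, ← mul_assoc s]
  have hfinj : Function.Injective f := by
    rintro ⟨p, e⟩ ⟨q, e'⟩ h
    cases e <;> cases e' <;> simp only [f, cond_true, cond_false, mul_one] at h
    · rw [tt_inj hF hi h]
    · exact absurd (show tt hF hi (-q + p) = s by rw [tt_add, h, ← mul_assoc, ← tt_add, neg_add_cancel,
        show tt hF hi 0 = 1 from map_one (ttHom hF hi), one_mul]) (hsT _)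
    · exact absurd (show tt hF hi (-p + q) = s by rw [tt_add, ← h, ← mul_assoc, ← tt_add, neg_add_cancel,
        show tt hF hi 0 = 1 from map_one (ttHom hF hi), one_mul]) (hsT _)
    · rw [tt_inj hF hi (mul_right_cancel h)]
  have hf1 : f (0, false) = 1 := by
    simp only [f, cond_false, mul_one]
    exact map_one (ttHom hF hi)
  let U : Subgroup (Cfsg.SU 3 F 3) :=
    { carrier := Set.range f
      one_mem' := ⟨_, hf1⟩
      mul_mem' := by
        rintro _ _ ⟨u, rfl⟩ ⟨v, rfl⟩
        exact ⟨_, (hf u v).symm⟩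
      inv_mem' := by
        rintro _ ⟨⟨p, e⟩, rfl⟩
        refine ⟨(-sw e p, e), eq_inv_of_mul_eq_one_left ?_⟩
        rw [hf, Bool.xor_self, show -sw e p + sw e p = 0 by simp, hf1] }
  have hU32 : Nat.card ↥U = 32 := by
    rw [show Nat.card ↥U = Nat.card ↥(Set.range f) from rfl, Nat.card_range_of_injective hfinj]
    simp
  have hUp : IsPGroup 2 ↥U := IsPGroup.of_card (n := 5) (by rw [hU32]; norm_num)
  have hUi : U.index = 189 := by
    have := U.card_mul_index
    rw [hU32, hG] at this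
    omega
  let V : Sylow 2 (Cfsg.SU 3 F 3) := hUp.toSylow (by rw [hUi]; norm_num)
  have htU : ∀ p, tt hF hi p ∈ U := fun p => ⟨(p, false), by simp [f]⟩
  have hsU : s ∈ U := ⟨(0, true), by
    simp only [f, cond_true]
    rw [show tt hF hi 0 = 1 from map_one (ttHom hF hi), one_mul]⟩
  have hcomm : ∀ u v : (ZMod 4 × ZMod 4) × Bool, f u * f v = f v * f u →
      u.1 + sw u.2 v.1 = v.1 + sw v.2 u.1 := fun u v h => by
    rw [hf, hf] at h
    exact congrArg Prod.fst (hfinj h)
  set T : Subgroup (Cfsg.SU 3 F 3) := (ttHom hF hi).range with hT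
  have hTmem : ∀ g, g ∈ T ↔ ∃ p, tt hF hi p = g := fun g =>
    ⟨fun ⟨p, hp⟩ => ⟨p.toAdd, hp⟩, fun ⟨p, hp⟩ => ⟨Multiplicative.ofAdd p, hp⟩⟩
  set Q := centCen U with hQ
  set R := Subgroup.normalizer (T : Set (Cfsg.SU 3 F 3)) with hR
  -- automorphisms fixing `U` fix `T`
  have hRcan : Canon U R := by
    intro a ha
    have haU : ∀ p, a (tt hF hi p) ∈ U := fun p => ha ▸ Subgroup.mem_map_of_mem _ (htU p)
    have hle : T.map a.toMonoidHom ≤ T := by
      rintro _ ⟨g, hg, rfl⟩
      obtain ⟨p, rfl⟩ := (hTmem g).1 hg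
      obtain ⟨⟨q, e⟩, hu⟩ := haU p
      cases e
      · exact (hTmem _).2 ⟨q, by simpa [f] using hu⟩
      · exfalso
        choose w hw using fun r => (haU r : _ ∈ Set.range f)
        have key : ∀ r, (w r).1.2 = bif (w r).2 then (w r).1.1 + q.2 - q.1 else (w r).1.1 := fun r => by
          have h1 := hcomm (q, true) (w r) (by
            rw [hu, hw]
            show a _ * a _ = a _ * a _
            rw [← map_mul, ← map_mul, ← tt_add, ← tt_add, add_comm])
          cases hb : (w r).2 <;> rw [hb] at h1 <;> simp only [sw, cond_true, cond_false] at h1 ⊢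
          · have h2 := congrArg Prod.fst h1
            simp only [Prod.fst_add] at h2
            linear_combination h2
          · have h2 := congrArg Prod.fst h1
            simp only [Prod.fst_add] at h2
            linear_combination h2
        have hinj : Function.Injective fun r => ((w r).1.1, (w r).2) := fun r r' h => by
          simp only [Prod.mk.injEq] at h
          obtain ⟨h1, h2⟩ := h
          have h4 : w r = w r' := Prod.ext (Prod.ext h1 (by rw [key, key, h1, h2])) h2
          exact tt_inj hF hi (a.injective (by rw [← hw r, ← hw r', h4]))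
        have := Fintype.card_le_of_injective _ hinj
        simp at this
    have hTe : T.map a.toMonoidHom = T := Subgroup.eq_of_le_of_card_ge hle
      (Nat.card_congr (Subgroup.equivMapOfInjective T a.toMonoidHom a.injective).toEquiv).le
    ext g
    rw [mem_map_iff, hR]
    conv_rhs => rw [← hTe]
    exact (mem_normalizer_map a T).symm
  have hzc : tt hF hi (1, 1) ∈ U ⊓ Subgroup.centralizer (U : Set (Cfsg.SU 3 F 3)) := by
    refine ⟨htU _, ?_⟩
    rintro _ ⟨⟨q, e⟩, rfl⟩
    rw [show tt hF hi (1, 1) = f ((1, 1), false) by simp [f], hf, hf]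
    cases e <;> simp [sw, add_comm]
  have hcQ : c ∉ Q := fun h => hcz (h _ hzc).symm
  have hdQ : d ∈ Q := by
    rintro z ⟨⟨⟨q, e⟩, rfl⟩, hz⟩
    have h1 := hcomm (q, e) ((1, 0), false) (hz _ ⟨_, rfl⟩).symm
    cases e <;> simp only [sw, cond_true, cond_false] at h1
    · have h2 := hcomm (q, false) (0, true) (hz _ ⟨_, rfl⟩).symm
      simp only [sw, cond_true, cond_false, add_zero, zero_add] at h2
      have hq : q = (q.1, q.1) := Prod.ext rfl (congrArg Prod.fst h2).symm
      rw [show f (q, false) = tt hF hi q by simp [f], hq,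
        show ((q.1, q.1) : ZMod 4 × ZMod 4) = q.1.val • ((1, 1) : ZMod 4 × ZMod 4) by simp [Prod.smul_mk],
        show tt hF hi (q.1.val • (1, 1)) = tt hF hi (1, 1) ^ q.1.val from
          map_pow (ttHom hF hi) (Multiplicative.ofAdd (1, 1)) q.1.val]
      exact ((show Commute d (tt hF hi (1, 1)) from hdz).pow_right _).symm.eq
    · exact absurd (congrArg Prod.fst h1) (by simp; decide)
  have hsR : s ∈ R := by
    refine Subgroup.mem_normalizer_iff.2 fun g => ⟨fun hg => ?_, fun hg => ?_⟩
    · obtain ⟨p, rfl⟩ := (hTmem g).1 hg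
      exact (hTmem _).2 ⟨sw true p, by rw [hst, mul_inv_cancel_right]⟩
    · obtain ⟨p, hp⟩ := (hTmem _).1 hg
      refine (hTmem _).2 ⟨sw true p, ?_⟩
      rw [show g = s * tt hF hi p * s by
        rw [hp, mul_assoc s (s * g * s⁻¹) s, inv_mul_cancel_right, ← mul_assoc, hss, one_mul],
        hst, mul_assoc, hss, mul_one]
  have hUR : U ≤ R := by
    rintro _ ⟨⟨p, e⟩, rfl⟩
    refine R.mul_mem (Subgroup.le_normalizer ((hTmem _).2 ⟨p, rfl⟩)) ?_
    cases e
    · exact R.one_mem
    · exact hsR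
  have hcR : c ∈ R := by
    refine Subgroup.mem_normalizer_iff.2 fun g => ⟨fun hg => ?_, fun hg => ?_⟩
    · obtain ⟨p, rfl⟩ := (hTmem g).1 hg
      exact (hTmem _).2 ⟨_, by rw [hct, mul_inv_cancel_right]⟩
    · obtain ⟨p, hp⟩ := (hTmem _).1 hg
      refine (hTmem _).2 ⟨(-p.1 - p.2, p.1), mul_left_cancel (a := c) ?_⟩
      rw [hct, show ((p.1, -(-p.1 - p.2) - p.1) : ZMod 4 × ZMod 4) = p from Prod.ext rfl (by ring), hp,
        inv_mul_cancel_right]
  have hU0 : U ≠ ⊥ := fun h => by rw [h, Subgroup.card_bot] at hU32; omega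
  have hR1 : R ≠ ⊤ := by
    intro h
    rcases (Subgroup.normalizer_eq_top_iff.1 h).eq_bot_or_eq_top with h1 | h1
    · have h2 : tt hF hi (1, 0) ∈ T := (hTmem _).2 ⟨_, rfl⟩
      rw [h1, Subgroup.mem_bot, ← show tt hF hi 0 = 1 from map_one (ttHom hF hi)] at h2
      exact absurd (congrArg Prod.fst (tt_inj hF hi h2)) (by decide)
    · obtain ⟨p, hp⟩ := (hTmem s).1 (h1 ▸ Subgroup.mem_top s)
      exact hsT p hp
  have hQ1 : Q ≠ ⊤ := fun h => hcQ (h ▸ Subgroup.mem_top c)
  refine ⟨V, hU0, Or.inr ⟨Q, R, canon_centCen U, hRcan, le_centCen U, hUR, hQ1, hR1, ?_⟩⟩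
  by_contra hne
  have h28 := hidx _ hne
  have h96 : 96 ∣ Nat.card ↥Q := by
    have h1 : 32 ∣ Nat.card ↥Q := hU32 ▸ Subgroup.card_dvd_of_le (le_centCen U)
    have h2 : 3 ∣ Nat.card ↥Q := by
      have h3' := orderOf_dvd_natCard (⟨d, hdQ⟩ : ↥Q)
      rwa [Subgroup.orderOf_mk, hd3] at h3'
    exact Nat.Coprime.mul_dvd_of_dvd_of_dvd (by norm_num) h1 h2
  obtain ⟨k, hk⟩ := h96.trans (Subgroup.card_dvd_of_le (le_sup_left : Q ≤ Q ⊔ R))
  have hm := (Q ⊔ R).card_mul_index
  rw [hk, hG, mul_assoc] at hm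
  have hm' : k * (Q ⊔ R).index = 63 := by omega
  obtain rfl : k = 1 := by
    have : k ≤ 2 := by
      by_contra hk2
      have := Nat.mul_le_mul (show 3 ≤ k by omega) h28
      omega
    interval_cases k <;> omega
  have h2 : Q = Q ⊔ R := Subgroup.eq_of_le_of_card_ge le_sup_left (by
    rw [hk, mul_one]; exact Nat.le_of_dvd Nat.card_pos h96)
  exact hcQ (h2.symm ▸ Subgroup.mem_sup_right hcR)

include hF in
theorem excluded : Excluded 2 (Cfsg.PSU 3 F 3) := by
  haveI : Fact (Nat.Prime 2) := ⟨Nat.prime_two⟩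
  obtain ⟨j, hj⟩ : IsSquare (-1 : F) := FiniteField.isSquare_neg_one_iff.2 (by omega)
  have hcen : Subgroup.center (Cfsg.SU 3 F 3) = ⊥ :=
    Subgroup.card_eq_one.1 (by rw [card_center_su hF (by norm_num)]; norm_num)
  exact (excluded_su hF hj.symm).of_mulEquiv (MulEquiv.ofBijective
    (QuotientGroup.mk' (Subgroup.center (Cfsg.SU 3 F 3)))
    ⟨(MonoidHom.ker_eq_bot_iff _).1 (by rw [QuotientGroup.ker_mk', hcen]),
      QuotientGroup.mk'_surjective _⟩)

end CfsgLib.Chev.PMin.U33
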