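import Cfsg.Prelude.Def_LocalEven
import Cfsg.Prelude.Def_AlmostLie
import Cfsg.Agent.Lib.Chev.PMin.ClassicalFam
import Cfsg.Agent.Lib.Chev.PMin.SLLat
import Cfsg.Agent.Lib.Chev.PMin.BNFam
import Cfsg.Agent.Lib.Chev.PMin.Suz
import Cfsg.Agent.Lib.Chev.PMin.G2
import Cfsg.Agent.Lib.Chev.PMin.U33
import Cfsg.Agent.Lib.Chev.PMin.AltSix
import Cfsg.Agent.Lib.Chev.PMin.Tits
import Cfsg.Agent.Lib.Chev.PMin.L28
import Cfsg.Agent.Lib.Chev.RigidChevSimple

/-!
`p`-minimal groups with a socle of Lie type in characteristic `p`.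
-/

set_option autoImplicit false
set_option maxRecDepth 100000

namespace CfsgLib.Chev.PMin

theorem simple_of_iso {G : Type*} (H : Type*) [Group G] [Group H] (h : IsSimpleGroup H) (e : G ≃* H) :
    IsSimpleGroup G :=
  haveI := h
  MulEquiv.isSimpleGroup e

/-- The groups of `IsChevSimple` are simple. -/
theorem isSimpleGroup_of_chevSimple {K : Type*} [Group K] {p : ℕ} (hK : Cfsg.IsChevSimple p K) :
    IsSimpleGroup K := by
  rcases hK with h | ⟨-, h⟩ | ⟨-, F, _, _, hF, ⟨e⟩⟩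
  · exact Rigid.isSimpleGroup_of_lieTypeChar p h
  · rcases h with ⟨⟨e⟩⟩ | ⟨F, _, _, hF, ⟨e⟩⟩ | ⟨⟨e⟩⟩
    · haveI : IsSimpleGroup (alternatingGroup (Fin 6)) := alternatingGroup.isSimpleGroup (by simp)
      exact MulEquiv.isSimpleGroup e
    · haveI : IsSimpleGroup (Cfsg.PSU 3 F 3) :=
        Cfsg.Agent.S0283.result (q := 3) (by rw [hF]; norm_num) 3 le_rfl (by norm_num)
      exact MulEquiv.isSimpleGroup e
    · exact simple_of_iso Cfsg.Lie.TitsGroup Tits.simple.1 e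
  · haveI : IsSimpleGroup (Matrix.ProjectiveSpecialLinearGroup (Fin 2) F) :=
      ClassK.isSimpleGroup_psl_two (by omega)
    exact MulEquiv.isSimpleGroup e

theorem eq_two_of_pow {p e : ℕ} [Fact p.Prime] (h : 2 = p ^ e) : p = 2 := by
  have hp : p.Prime := Fact.out
  exact ((Nat.prime_dvd_prime_iff_eq Nat.prime_two hp).1
    (Nat.prime_two.dvd_of_dvd_pow (dvd_of_eq h))).symm

theorem four_le_card {F : Type*} [Field F] [Fintype F] [CharP F 2] (h : 3 ≤ Fintype.card F) :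
    4 ≤ Fintype.card F := by
  obtain ⟨n, -, hn⟩ := FiniteField.card F 2
  rw [hn] at h ⊢
  have h2 : 2 ∣ 2 ^ (n : ℕ) := dvd_pow_self 2 n.ne_zero
  omega

variable {X : Type*} [Group X] [Finite X] {p : ℕ} [Fact p.Prime] {K : Subgroup X} [K.Normal]
  [IsSimpleGroup ↥K] (hX : Cfsg.IsPMinimal p X) (U : Sylow p ↥K)

include hX

theorem refute_of {H : Type*} [Group H] (h : Excluded p H) (e : ↥K ≃* H) : False := by
  haveI : Finite H := Finite.of_equiv _ e.toEquiv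
  exact false_of_excluded hX (h.of_mulEquiv e.symm)

theorem transfer {n : ℕ} {H : Type*} [Group H] (e : ↥K ≃* H) (h : IsSimpleGroup H → HasLat p H n) :
    IsCoatom (Subgroup.normalizer (((U : Subgroup ↥K).map K.subtype : Subgroup X) : Set X)) ∧
      (∃ e, n = p ^ e) ∧ (2 ≤ n → K ≠ ⊤) := by
  haveI : Finite H := Finite.of_equiv _ e.toEquiv
  exact concl_of_lat hX U ((h (MulEquiv.isSimpleGroup e.symm)).of_mulEquiv e.symm)

theorem refute {H : Type*} [Group H] (e : ↥K ≃* H) (h : IsSimpleGroup H → Excluded p H) : False := by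
  haveI : Finite H := Finite.of_equiv _ e.toEquiv
  exact false_of_excluded hX ((h (MulEquiv.isSimpleGroup e.symm)).of_mulEquiv e.symm)

include U in
/-- The classification. -/
theorem classify (hK : Cfsg.IsChevSimple p ↥K) :
    IsCoatom (Subgroup.normalizer (((U : Subgroup ↥K).map K.subtype : Subgroup X) : Set X)) ∧
      (Cfsg.IsLieRankOneChar p ↥K ∨ (p = 2 ∧ K ≠ ⊤ ∧
        ((∃ (F : Type) (_ : Field F) (_ : Fintype F) (_ : CharP F 2),
          Nonempty (↥K ≃* Matrix.ProjectiveSpecialLinearGroup (Fin 3) F)) ∨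
        (∃ (F : Type) (_ : Field F) (_ : Fintype F) (_ : CharP F 2),
          4 ≤ Fintype.card F ∧ Nonempty (↥K ≃* Cfsg.PSp 2 F)) ∨
        Nonempty (↥K ≃* ↥(alternatingGroup (Fin 6)))))) := by
  rcases hK with h | ⟨rfl, h⟩ | ⟨rfl, F, _, _, hF, ⟨e⟩⟩
  · rcases h with h | h | h | h | h | h | h | h | h | h | h
    · obtain ⟨F, _, _, _, n, hn, hq, ⟨e⟩⟩ := h
      rcases (show n = 2 ∨ n = 3 ∨ 4 ≤ n by omega) with rfl | rfl | h4
      · obtain ⟨hco, -, -⟩ := transfer hX U e fun _ => (SLLat.res_psl (F := F) p hn).1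
        exact ⟨hco, Or.inl (Or.inl ⟨F, _, _, inferInstance, hq rfl, ⟨e⟩⟩)⟩
      · obtain ⟨hco, ⟨k, hk⟩, hne⟩ := transfer hX U e fun _ => (SLLat.res_psl (F := F) p hn).1
        obtain rfl : p = 2 := eq_two_of_pow hk
        exact ⟨hco, Or.inr ⟨rfl, hne le_rfl, Or.inl ⟨F, inferInstance, inferInstance, inferInstance, ⟨e⟩⟩⟩⟩
      · exact (refute hX e fun _ => (SLLat.res_psl (F := F) p hn).2 h4).elim
    · obtain ⟨F, _, _, _, m, hm, hq, ⟨e⟩⟩ := h
      by_cases hcase : p ≠ 2 ∨ 3 ≤ m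
      · exact (refute hX e fun _ => (ClassicalFam.res_psp (F := F) p (m := m) (by omega)).2 hm hcase).elim
      · push Not at hcase
        obtain ⟨rfl, hm2⟩ := hcase
        obtain rfl : m = 2 := by omega
        obtain ⟨hco, -, hne⟩ := transfer hX U e fun _ => (ClassicalFam.res_psp (F := F) 2 (m := 2) (by omega)).1
        exact ⟨hco, Or.inr ⟨rfl, hne le_rfl,
          Or.inr (Or.inl ⟨F, _, _, inferInstance, four_le_card (hq rfl), ⟨e⟩⟩)⟩⟩
    · obtain ⟨F, _, _, _, n, q, hq, hn, hne, ⟨e⟩⟩ := h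
      rcases (show n = 3 ∨ 4 ≤ n by omega) with rfl | h4
      · obtain ⟨hco, -, -⟩ := transfer hX U e fun _ => (ClassicalFam.res_psu (F := F) p le_rfl hq).1
        exact ⟨hco, Or.inl (Or.inr (Or.inl ⟨F, _, _, inferInstance, q, hq, fun hq2 => hne ⟨rfl, hq2⟩, ⟨e⟩⟩))⟩
      · exact (refute hX e fun _ => (ClassicalFam.res_psu (F := F) p hn hq).2 h4).elim
    · obtain ⟨F, _, _, _, m, hm, hodd, ⟨e⟩⟩ := h
      exact (refute hX e fun _ => (ClassicalFam.res_odd (F := F) p hodd hm).2).elim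
    · obtain ⟨F, _, _, _, m, hm, ⟨e⟩⟩ := h
      exact (refute hX e fun _ => (ClassicalFam.res_plus (F := F) p hm).2).elim
    · obtain ⟨F, _, _, _, m, a, b, hm, hab, ⟨e⟩⟩ := h
      exact (refute hX e fun _ => (ClassicalFam.res_minus (F := F) p (m := m - 1) (by omega) hab).2).elim
    · obtain ⟨F, _, _, _, h⟩ := h
      rcases h with ⟨-, ⟨e⟩⟩ | ⟨⟨e⟩⟩ | ⟨⟨e⟩⟩ | ⟨⟨e⟩⟩ | ⟨⟨e⟩⟩
      · rcases eq_or_ne p 2 with rfl | hp
        · exact (refute hX e fun _ => G2.excluded (F := F)).elim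
        · exact (refute hX e fun _ =>
            BNFam.chev_excluded_rank goodG2 p G2.hc (by decide) fun k hk => hp (eq_two_of_pow hk)).elim
      · exact (refute hX e fun _ => BNFam.res_F4 (F := F) p).elim
      · exact (refute hX e fun _ => BNFam.res_E6 (F := F) p).elim
      · exact (refute hX e fun _ => BNFam.res_E7 (F := F) p).elim
      · exact (refute hX e fun _ => BNFam.res_E8 (F := F) p).elim
    · obtain ⟨F, _, _, _, q, hq, ⟨hK', ⟨e⟩⟩ | ⟨hK', ⟨e⟩⟩⟩ := h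
      · exact (refute hX e fun _ => BNFam.res_twistedE6 (F := F) p hq hK').elim
      · exact (refute hX e fun _ => BNFam.res_twistedD4 (F := F) p hq hK').elim
    · obtain ⟨rfl, F, _, _, m, hm, hF, ⟨e⟩⟩ := h
      haveI : CharP F 2 := charP_of_card_eq_prime_pow hF
      obtain ⟨hco, -, -⟩ := transfer hX U e fun _ => Suz.lat_lieSz hm hF
      exact ⟨hco, Or.inl (Or.inr (Or.inr (Or.inl ⟨rfl, F, _, _, m, hm, hF, ⟨e⟩⟩)))⟩
    · obtain ⟨rfl, F, _, _, m, -, hF, ⟨e⟩⟩ := h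
      exact (refute hX e fun _ => BNFam.res_twistedF4 hF).elim
    · obtain ⟨rfl, F, _, _, m, hm, hF, ⟨e⟩⟩ := h
      obtain ⟨hco, -, -⟩ := transfer hX U e fun _ => BNFam.lat_twistedG2 hF
      exact ⟨hco, Or.inl (Or.inr (Or.inr (Or.inr ⟨rfl, Or.inl ⟨F, _, _, m, hm, hF, ⟨e⟩⟩⟩)))⟩
  · rcases h with ⟨⟨e⟩⟩ | ⟨F, _, _, hF, ⟨e⟩⟩ | ⟨⟨e⟩⟩
    · obtain ⟨hco, -, hne⟩ := transfer hX U e fun _ => AltSix.lat
      exact ⟨hco, Or.inr ⟨rfl, hne le_rfl, Or.inr (Or.inr ⟨e⟩)⟩⟩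
    · exact (refute hX e fun _ => U33.excluded (by rw [hF]; norm_num)).elim
    · exact (refute_of hX TitsLat.excluded e).elim
  · obtain ⟨hco, -, -⟩ := transfer hX U e fun _ => L28.lat hF
    exact ⟨hco, Or.inl (Or.inr (Or.inr (Or.inr ⟨rfl, Or.inr ⟨F, _, _, hF, ⟨e⟩⟩⟩)))⟩

end CfsgLib.Chev.PMin
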