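import Cfsg.Agent.Lib.Chev.PMin.PolarLattice

/-!
The centre of the unipotent subgroup of a classical group of rank at least two is centralized by an
element moving one of the subspaces.
-/

set_option autoImplicit false
set_option linter.unusedSectionVars false

namespace CfsgLib.Chev.PMin.PolarLat

open Module CfsgLib.KnownC.Steinberg CfsgLib.KnownC.Steinberg.Polar CfsgLib.Chev.Rigid

variable {K V Γ : Type*} [Field K] [AddCommGroup V] [Module K V] [Group Γ] {σ : K →+* K} {m : ℕ}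
variable (P : Polar K V Γ σ m) [FiniteDimensional K V] [Finite K] (hc : 1 ≤ P.c) (o : Fin m)
  (h0 : o.val = 0)
include hc h0

theorem exists_move_zero {v : V} (hv : P.S v) (hev : P.B (P.e o) v = 1) :
    ∃ r ∈ P.U, r ∈ PolarPoints.R P o ∧ P.φ r (P.f o) = v := by
  obtain ⟨r, hre, hrf, hr⟩ := P.move o v hv hev
  exact ⟨r, PolarPoints.R_le_U P o h0 (PolarPoints.mem_R_of_move P o hev hre hr),
    PolarPoints.mem_R_of_move P o hev hre hr, hrf⟩

/-- A central element of the radical moves only along the first point. -/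
theorem mem_R_of_central {z : Γ} (hz : z ∈ P.U) (hcomm : ∀ u ∈ P.U, u * z = z * u) :
    z ∈ PolarPoints.R P o := by
  have hze := PolarPoints.U_fix P o h0 hz
  refine ⟨hze, fun y hy => ?_⟩
  refine fixed_of_orth P hc (k := o) (fun j hj => absurd hj (by omega)) ?_ fun v hv => ?_
  · have h := P.φ_B z (P.e o) y
    rw [hze] at h
    rw [map_sub, h, sub_self]
  · obtain ⟨r, hrU, hr, hrf⟩ := exists_move_zero P hc o h0 hv.1 hv.2.1
    obtain ⟨a, ha⟩ := Submodule.mem_span_singleton.1 (hr.2 y hy)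
    have hzy : P.B (P.e o) (P.φ z y) = 0 := by
      conv_lhs => rw [← hze]
      rw [P.φ_B, hy]
    obtain ⟨b, hb⟩ := Submodule.mem_span_singleton.1 (hr.2 _ hzy)
    have hab : a = b := by
      have h := congrArg (fun g => P.φ g y) (hcomm r hrU)
      simp only [P.φ_mul_apply] at h
      rw [eq_add_of_sub_eq' hb.symm, eq_add_of_sub_eq' ha.symm, map_add, map_smul, hze] at h
      have h1 := add_left_cancel h
      have h2 : (a - b) • P.e o = 0 := by rw [sub_smul, h1, sub_self]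
      exact sub_eq_zero.1 ((smul_eq_zero.1 h2).resolve_right (e_ne_zero P o))
    have key : ∀ x a', P.φ r x - x = a' • P.e o → P.B (P.e o) x = 0 →
        P.B x v + σ a' = P.B x (P.f o) := fun x a' h' hx => by
      have h := P.φ_B r x (P.f o)
      rw [hrf, eq_add_of_sub_eq' h', map_add, LinearMap.add_apply, map_smulₛₗ, LinearMap.smul_apply,
        hv.2.1, smul_eq_mul, mul_one] at h
      exact h
    have h1 := key y a ha.symm hy
    have h2 := key _ b hb.symm hzy
    rw [← hab] at h2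
    simp only [map_sub, LinearMap.sub_apply]
    linear_combination h2 - h1

/-- What a central element adds to the partner of the first point. -/
theorem exists_shift {z : Γ} (hz : z ∈ P.U) :
    ∃ (u' : V) (t : K), P.φ z (P.f o) = P.f o + u' + t • P.e o ∧ P.B (P.e o) u' = 0 ∧
      P.B (P.f o) u' = 0 := by
  refine ⟨P.φ z (P.f o) - P.f o - (P.ε⁻¹ * P.B (P.f o) (P.φ z (P.f o))) • P.e o,
    P.ε⁻¹ * P.B (P.f o) (P.φ z (P.f o)), by abel, ?_, ?_⟩
  · have h : P.B (P.e o) (P.φ z (P.f o)) = 1 := by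
      conv_lhs => rw [← PolarPoints.U_fix P o h0 hz]
      rw [P.φ_B, P.B_ef, if_pos rfl]
    simp [h, P.B_ef, P.B_ee]
  · rw [map_sub, map_sub, map_smul, P.B_ff, P.B_fe, if_pos rfl, sub_zero, smul_eq_mul,
      mul_comm _ P.ε, ← mul_assoc, mul_inv_cancel₀ P.ε_ne, one_mul, sub_self]

/-- The pairing with the shift is symmetric. -/
theorem shift_symm {z : Γ} (hz : z ∈ P.U) (hcomm : ∀ u ∈ P.U, u * z = z * u) {u' : V} {t : K}
    (hzf : P.φ z (P.f o) = P.f o + u' + t • P.e o) (he : P.B (P.e o) u' = 0) (hf : P.B (P.f o) u' = 0)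
    {u : V} (h1 : P.B (P.e o) u = 0) (h2 : P.B (P.f o) u = 0) : P.B u' u = P.B u u' := by
  have hzR := mem_R_of_central P hc o h0 hz hcomm
  obtain ⟨a, ha⟩ := Submodule.mem_span_singleton.1 (hzR.2 u h1)
  obtain ⟨s, hs⟩ := PolarPoints.exists_t P o hc h1 h2
  have hev : P.B (P.e o) (P.f o + u + s • P.e o) = 1 := by simp [P.B_ef, P.B_ee, h1]
  obtain ⟨r, hrU, -, hrf⟩ := exists_move_zero P hc o h0 hs hev
  have hBee := P.B_ee o o
  have hBff := P.B_ff o o
  have hBef : P.B (P.e o) (P.f o) = 1 := by rw [P.B_ef, if_pos rfl]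
  have hBfe : P.B (P.f o) (P.e o) = P.ε := by rw [P.B_fe, if_pos rfl]
  have hue : P.B u (P.e o) = 0 := P.B_zero_comm h1
  have huf : P.B u (P.f o) = 0 := P.B_zero_comm h2
  have hu'e : P.B u' (P.e o) = 0 := P.B_zero_comm he
  have hu'f : P.B u' (P.f o) = 0 := P.B_zero_comm hf
  have hzu : P.φ z u = u + a • P.e o := eq_add_of_sub_eq' ha.symm
  have hze := PolarPoints.U_fix P o h0 hz
  have hzv : P.φ z (P.f o + u + s • P.e o) = (P.f o + u' + t • P.e o) + (u + a • P.e o) + s • P.e o := by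
    rw [map_add, map_add, map_smul, hze, hzf, hzu]
  have hB : P.B (P.φ z (P.f o + u + s • P.e o)) (P.f o + u + s • P.e o) = P.B (P.φ z (P.f o)) (P.f o) := by
    have h := congrArg (fun g => P.φ g (P.f o)) (hcomm r hrU)
    simp only [P.φ_mul_apply, hrf] at h
    rw [← h]
    conv_lhs => arg 2; rw [← hrf]
    rw [P.φ_B]
  rw [hzv, hzf] at hB
  have hSv := P.S_self _ hs
  have hA : P.B (u + a • P.e o) (P.f o + u' + t • P.e o) = 0 := by
    rw [← hzu, ← hzf, P.φ_B, huf]
  simp only [map_add, LinearMap.add_apply, map_smulₛₗ, LinearMap.smul_apply, map_smul, smul_eq_mul,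
    RingHom.id_apply, hBee, hBff, hBef, hBfe, hue, huf, hu'e, hu'f, he, hf, h1, h2, mul_zero, mul_one,
    zero_add, add_zero] at hA hB hSv
  linear_combination hB - hSv - hA

/-- Forms with `σ ≠ 1` or `ε ≠ 1` leave no shift. -/
theorem shift_eq_zero {z : Γ} (hz : z ∈ P.U) (hcomm : ∀ u ∈ P.U, u * z = z * u)
    (hne : (∃ r : K, σ r ≠ r) ∨ P.ε ≠ 1) {u' : V} {t : K}
    (hzf : P.φ z (P.f o) = P.f o + u' + t • P.e o) (he : P.B (P.e o) u' = 0) (hf : P.B (P.f o) u' = 0) :
    u' = 0 := by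
  refine P.sep u' fun y => ?_
  obtain ⟨y', hy', hy⟩ := exists_proj P {o} y
  simp only [Finset.mem_singleton, forall_eq, Finset.sum_singleton] at hy hy'
  have h := fun r : K => shift_symm P hc o h0 hz hcomm hzf he hf (u := r • y')
    (by rw [map_smul, hy.1, smul_zero]) (by rw [map_smul, hy.2, smul_zero])
  have hσ : ∀ r : K, r * P.B u' y' = σ r * P.B y' u' := fun r => by
    simpa using h r
  have h1 := hσ 1
  rw [map_one, one_mul, one_mul] at h1
  have h2 : P.B u' y' = 0 := by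
    by_contra hb
    rcases hne with ⟨r, hr⟩ | hε
    · have h3 := hσ r
      rw [← h1] at h3
      exact hr (mul_right_cancel₀ hb h3).symm
    · by_cases hid : ∀ r, σ r = r
      · have h3 := P.swap u' y'
        rw [hid, ← h1] at h3
        exact hε ((mul_eq_right₀ hb).1 h3.symm)
      · push Not at hid
        obtain ⟨r, hr⟩ := hid
        have h3 := hσ r
        rw [← h1] at h3
        exact hr (mul_right_cancel₀ hb h3).symm
  rw [hy', map_sub, sub_eq_zero] at h2
  rw [h2, map_add, map_smul, map_smul, P.B_zero_comm he, P.B_zero_comm hf, smul_zero, smul_zero,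
    add_zero]

/-- In rank at least three the shift is along the second point. -/
theorem shift_mem_line {z : Γ} (hcomm : ∀ u ∈ P.U, u * z = z * u) {one two : Fin m}
    (h1 : one.val = 1) (h2 : two.val = 2) {u' : V} {t : K}
    (hzf : P.φ z (P.f o) = P.f o + u' + t • P.e o) (he : P.B (P.e o) u' = 0) (hf : P.B (P.f o) u' = 0) :
    u' ∈ Submodule.span K {P.e one} := by
  have hpairs : ∀ j : Fin m, j.val < one.val → P.B (P.e j) u' = 0 ∧ P.B (P.f j) u' = 0 := fun j hj => by
    rw [show j = o from Fin.ext (by omega)]; exact ⟨he, hf⟩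
  have fixed : ∀ v, P.InO one v → ∃ g, P.φ g u' = u' ∧ P.φ g (P.f one) = v ∧
      ∀ x, P.φ g x - x - P.B (P.e one) x • (v - P.f one) ∈ Submodule.span K {P.e one} := by
    intro v hv
    obtain ⟨g, hgU, -, hgf, hg⟩ := exists_move' P hv
    refine ⟨g, ?_, hgf, hg⟩
    obtain ⟨hge, hgfo⟩ := hgU.2 o (by omega)
    have h := congrArg (fun g' => P.φ g' (P.f o)) (hcomm g hgU.1)
    simp only [P.φ_mul_apply, hgfo, hzf, map_add, map_smul, hge] at h
    exact add_left_cancel (add_right_cancel h)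
  have hne : one ≠ two := Fin.ne_of_val_ne (by omega)
  have ha : P.B (P.e one) u' = 0 := by
    by_contra ha
    have hv : P.InO one (P.f one + P.e two) := by
      refine ⟨P.S_add _ _ (P.S_f _) (P.S_e _) (by rw [P.B_fe, if_neg hne.symm]), by simp [P.B_ef, P.B_ee],
        fun j hj => ?_⟩
      have hj1 : j ≠ one := Fin.ne_of_val_ne (by omega)
      have hj2 : two ≠ j := Fin.ne_of_val_ne (by omega)
      simp [P.B_ef, P.B_ee, P.B_ff, P.B_fe, hj1, hj2]
    obtain ⟨g, hgu, -, hg⟩ := fixed _ hv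
    have h := hg u'
    rw [hgu, sub_self, zero_sub, neg_mem_iff, Submodule.smul_mem_iff _ ha, add_sub_cancel_left] at h
    obtain ⟨a, ha'⟩ := Submodule.mem_span_singleton.1 h
    have := congrArg (P.B (P.f two)) ha'
    rw [map_smul, P.B_fe, if_neg hne, smul_zero, P.B_fe, if_pos rfl] at this
    exact P.ε_ne this.symm
  refine fixed_of_orth P hc hpairs ha fun v hv => ?_
  obtain ⟨g, hgu, hgf, -⟩ := fixed v hv
  have h := P.φ_B g u' (P.f one)
  rw [hgu, hgf] at h
  rw [map_sub, h, sub_self]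

variable (hgen : 1 < P.c ∨ 2 < finrank K V)
include hgen

/-- An element fixing the first point, and the second unless there is no shift, centralizes. -/
theorem commute_of_fix {z w : Γ} (hz : z ∈ P.U) (hcomm : ∀ u ∈ P.U, u * z = z * u)
    (hwe : P.φ w (P.e o) = P.e o)
    (hcase : ((∃ r : K, σ r ≠ r) ∨ P.ε ≠ 1) ∨
      ∃ one two : Fin m, one.val = 1 ∧ two.val = 2 ∧ P.φ w (P.e one) = P.e one) :
    z * w = w * z := by
  have hzR := mem_R_of_central P hc o h0 hz hcomm
  obtain ⟨u', t, hzf, he, hf⟩ := exists_shift P hc o h0 hz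
  have hu' : P.φ w u' = u' ∧ ∀ y, P.φ w y = P.f o → P.B u' (y - P.f o) = 0 := by
    rcases hcase with hne | ⟨one, two, h1, h2, hw1⟩
    · have := shift_eq_zero P hc o h0 hz hcomm hne hzf he hf
      subst this
      exact ⟨map_zero _, fun y _ => by simp⟩
    · obtain ⟨b, rfl⟩ := Submodule.mem_span_singleton.1 (shift_mem_line P hc o h0 hcomm h1 h2 hzf he hf)
      refine ⟨by rw [map_smul, hw1], fun y hy => ?_⟩
      rw [map_smulₛₗ, LinearMap.smul_apply, map_sub, ← P.φ_B w (P.e one) y, hw1, hy, sub_self, smul_zero]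
  obtain ⟨y₀, hy₀⟩ : ∃ y₀, y₀ = P.φ w⁻¹ (P.f o) := ⟨_, rfl⟩
  have hwy : P.φ w y₀ = P.f o := by rw [hy₀, P.φ_apply_inv]
  have hey : P.B (P.e o) (y₀ - P.f o) = 0 := by
    rw [map_sub, ← P.φ_B w (P.e o) y₀, hwe, hwy, sub_self]
  have hzy : P.φ z (y₀ - P.f o) = y₀ - P.f o := by
    refine PolarPoints.fix_of_R P o hzR hey ?_
    rw [hzf, map_add, map_add, map_smul, P.B_zero_comm (hu'.2 y₀ hwy), P.B_zero_comm hey, smul_zero,
      add_zero, add_zero]
  have hconj : w * z * w⁻¹ ∈ PolarPoints.R P o :=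
    PolarPoints.conj_mem P o ⟨1, one_ne_zero, by rw [one_smul, hwe]⟩ hzR
  have heq : P.φ (z⁻¹ * (w * z * w⁻¹)) (P.f o) = P.f o := by
    have hzy0 : P.φ z y₀ = y₀ + (u' + t • P.e o) := by
      rw [show y₀ = (y₀ - P.f o) + P.f o by abel, map_add, hzy, hzf]; abel
    have h1 : P.φ (w * z * w⁻¹) (P.f o) = P.φ z (P.f o) := by
      rw [P.φ_mul_apply, P.φ_mul_apply, ← hy₀, hzy0, map_add, map_add, map_smul, hwy, hwe, hu'.1, hzf,
        add_assoc]
    rw [P.φ_mul_apply, h1, P.φ_inv_apply]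
  have h := PolarPoints.free_f P o (mul_mem (inv_mem hzR) hconj) heq
  rw [inv_mul_eq_one, eq_mul_inv_iff_mul_eq] at h
  exact h

variable [Finite Γ] {p : ℕ} [Fact p.Prime] (S : Sylow p Γ) (hS : (S : Subgroup Γ) = P.U)
include hS

local notation "π" => QuotientGroup.mk' (Subgroup.center Γ)

theorem map_ne_bot : P.U.map π ≠ ⊥ := fun h => by
  obtain ⟨r, hr, hr1, -⟩ := PolarPoints.exists_fix P o hc hgen ∅ (fun _ h => h.elim) (fun _ h => h.elim)
  refine hr1 (PolarPoints.eq_of_center P o hc hgen S hS h0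
    (PolarPoints.pel P o hc hgen S hS h0 (PolarPoints.R_le_U P o h0 hr)) ⟨0, one_pow _⟩ ?_)
  rw [map_one, ← Subgroup.mem_bot, ← h]
  exact Subgroup.mem_map_of_mem _ (PolarPoints.R_le_U P o h0 hr)

/-- The same in the quotient. -/
theorem quot_commute {w : Γ} (hwe : P.φ w (P.e o) = P.e o)
    (hcase : ((∃ r : K, σ r ≠ r) ∨ P.ε ≠ 1) ∨
      ∃ one two : Fin m, one.val = 1 ∧ two.val = 2 ∧ P.φ w (P.e one) = P.e one) :
    ∀ z ∈ P.U.map π, (∀ u ∈ P.U.map π, u * z = z * u) → z * π w = π w * z := by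
  rintro _ ⟨z, hz, rfl⟩ hcomm
  have hc' : ∀ u ∈ P.U, u * z = z * u := fun u hu =>
    PolarPoints.eq_of_center P o hc hgen S hS h0
      (PolarPoints.pel P o hc hgen S hS h0 (mul_mem hu hz)) (PolarPoints.pel P o hc hgen S hS h0 (mul_mem hz hu))
      (by rw [map_mul, map_mul]; exact hcomm _ (Subgroup.mem_map_of_mem _ hu))
  rw [← map_mul, ← map_mul, commute_of_fix P hc o h0 hgen hz hc' hwe hcase]

end CfsgLib.Chev.PMin.PolarLat
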