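import Cfsg.Agent.Lib.Chev.RigidPolar

/-!
The subspaces invariant under the unipotent subgroup of a polar space, and the overgroups of it.
-/

set_option autoImplicit false
set_option linter.unusedSectionVars false

namespace CfsgLib.Chev.PMin.PolarLat

open Module CfsgLib.KnownC.Steinberg CfsgLib.KnownC.Steinberg.Polar CfsgLib.Chev.Rigid

variable {K V Γ : Type*} [Field K] [AddCommGroup V] [Module K V] [Group Γ] {σ : K →+* K} {m : ℕ}
variable (P : Polar K V Γ σ m) [FiniteDimensional K V]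

omit [FiniteDimensional K V] in
theorem e_ne_zero (k : Fin m) : P.e k ≠ 0 := fun h => by
  simpa [h] using P.B_ef k k

omit [FiniteDimensional K V] in
theorem e_mem_first_iff {k : Fin m} {i : ℕ} : P.e k ∈ first (K := K) P.e i ↔ k.val < i := by
  refine ⟨fun h => ?_, mem_first P.e⟩
  by_contra hk
  obtain ⟨a, ha, hsum⟩ := exists_coeff _ h
  have h1 := congrArg (P.B (P.f k)) hsum
  rw [map_sum, Finset.sum_eq_single k ?_ (by simp), map_smul, P.B_fe, if_pos rfl, ha k (by omega),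
    zero_smul] at h1
  · exact P.ε_ne h1.symm
  · intro j _ hj; rw [map_smul, P.B_fe, if_neg hj, smul_zero]

omit [FiniteDimensional K V] in
/-- Remove some of the pairs. -/
theorem exists_proj (s : Finset (Fin m)) (z : V) :
    ∃ z', z' = z - ∑ j ∈ s, ((P.ε⁻¹ * P.B (P.f j) z) • P.e j + P.B (P.e j) z • P.f j) ∧
      ∀ l ∈ s, P.B (P.e l) z' = 0 ∧ P.B (P.f l) z' = 0 := by
  refine ⟨_, rfl, fun l hl => ?_⟩
  constructor
  · rw [map_sub, map_sum, Finset.sum_eq_single l ?_ (absurd hl)]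
    · simp [P.B_ee, P.B_ef]
    · intro j _ hj; simp [P.B_ee, P.B_ef, Ne.symm hj]
  · rw [map_sub, map_sum, Finset.sum_eq_single l ?_ (absurd hl)]
    · simp [P.B_ff, P.B_fe, mul_right_comm, P.ε_ne]
    · intro j _ hj; simp [P.B_ff, P.B_fe, hj]

/-- The move of the radical at a given place. -/
theorem exists_move' {k : Fin m} {v : V} (hv : P.InO k v) :
    ∃ g ∈ P.Uk k.val, P.φ g (P.e k) = P.e k ∧ P.φ g (P.f k) = v ∧
      ∀ x, P.φ g x - x - P.B (P.e k) x • (v - P.f k) ∈ Submodule.span K {P.e k} := by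
  obtain ⟨g, hge, hgf, hg⟩ := P.move k v hv.1 hv.2.1
  refine ⟨g, ?_, hge, hgf, hg⟩
  have hperp : ∀ x, P.B (P.e k) x = 0 → P.φ g x - x ∈ Submodule.span K {P.e k} := fun x hx => by
    have := hg x
    rwa [hx, zero_smul, sub_zero] at this
  have hfix : ∀ x, P.B (P.e k) x = 0 → P.B x (P.f k) = 0 → P.B x v = 0 → P.φ g x = x := by
    intro x h1 h2 h3
    obtain ⟨a, ha⟩ := Submodule.mem_span_singleton.1 (hperp x h1)
    have h := P.φ_B g x (P.f k)
    rw [hgf, eq_add_of_sub_eq' ha.symm, h2, map_add, map_smulₛₗ, LinearMap.add_apply,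
      LinearMap.smul_apply, h3, hv.2.1, zero_add, smul_eq_mul, mul_one, map_eq_zero] at h
    rw [← sub_eq_zero, ← ha, h, zero_smul]
  refine ⟨⟨fun j => ?_, fun x hx => ?_⟩, fun j hj => ?_⟩
  · rcases lt_trichotomy j.val k.val with hj | hj | hj
    · rw [hfix _ (P.B_ee k j) (by rw [P.B_ef, if_neg (Fin.ne_of_val_ne hj.ne)]) (hv.2.2 j hj).1, sub_self]
      exact zero_mem _
    · rw [show j = k from Fin.ext hj, hge, sub_self]; exact zero_mem _
    · exact Submodule.span_le.2 (by rintro _ rfl; exact mem_first _ hj) (hperp _ (P.B_ee k j))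
  · exact Submodule.span_le.2 (by rintro _ rfl; exact mem_first _ k.2) (hperp _ (hx k))
  · refine ⟨hfix _ (P.B_ee k j) ?_ (hv.2.2 j hj).1, hfix _ ?_ (P.B_ff j k) (hv.2.2 j hj).2⟩
    · rw [P.B_ef, if_neg (Fin.ne_of_val_ne hj.ne)]
    · rw [P.B_ef, if_neg (Fin.ne_of_val_ne hj.ne')]

variable (hc : 1 ≤ P.c)
include hc

omit [FiniteDimensional K V] in
theorem exists_inO {k : Fin m} {u : V} (hu : ∀ j : Fin m, j.val ≤ k.val → P.B (P.e j) u = 0 ∧ P.B (P.f j) u = 0) :
    ∃ t : K, P.InO k (P.f k + u + t • P.e k) := by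
  obtain ⟨t, ht⟩ := PolarPoints.exists_t P k hc (hu k le_rfl).1 (hu k le_rfl).2
  refine ⟨t, ht, ?_, fun j hj => ⟨?_, ?_⟩⟩
  · simp [P.B_ef, P.B_ee, (hu k le_rfl).1]
  · simp [P.B_ef, P.B_ee, (hu j hj.le).1, Fin.ne_of_val_ne hj.ne]
  · simp [P.B_ff, P.B_fe, (hu j hj.le).2, Fin.ne_of_val_ne hj.ne']

omit [FiniteDimensional K V] in
/-- A vector pairing trivially with all the displacements of a place is on its line. -/
theorem fixed_of_orth {k : Fin m} {x : V}
    (hx : ∀ j : Fin m, j.val < k.val → P.B (P.e j) x = 0 ∧ P.B (P.f j) x = 0)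
    (hek : P.B (P.e k) x = 0) (hv : ∀ v, P.InO k v → P.B x (v - P.f k) = 0) :
    x ∈ Submodule.span K {P.e k} := by
  obtain ⟨y, hy⟩ : ∃ y, y = x - (P.ε⁻¹ * P.B (P.f k) x) • P.e k := ⟨_, rfl⟩
  have hy' : ∀ j : Fin m, j.val ≤ k.val → P.B (P.e j) y = 0 ∧ P.B (P.f j) y = 0 := by
    intro j hj
    rcases Nat.lt_or_ge j.val k.val with h | h
    · simp [hy, P.B_ee, P.B_fe, (hx j h).1, (hx j h).2, Fin.ne_of_val_ne h.ne']
    · rw [show j = k from Fin.ext (by omega)]
      refine ⟨by simp [hy, P.B_ee, hek], ?_⟩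
      rw [hy, map_sub, map_smul, P.B_fe, if_pos rfl, smul_eq_mul, mul_comm, ← mul_assoc,
        mul_inv_cancel₀ P.ε_ne, one_mul, sub_self]
  suffices y = 0 by
    rw [sub_eq_zero.1 (hy.symm.trans this)]
    exact Submodule.smul_mem _ _ (Submodule.mem_span_singleton_self _)
  refine P.sep y fun z => ?_
  obtain ⟨z', hz', hz⟩ := exists_proj P (Finset.univ.filter fun j : Fin m => j.val ≤ k.val) z
  simp only [Finset.mem_filter, Finset.mem_univ, true_and] at hz
  obtain ⟨t, ht⟩ := exists_inO P hc (k := k) hz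
  have h1 := hv _ ht
  have hye : ∀ j : Fin m, j.val ≤ k.val → P.B y (P.e j) = 0 ∧ P.B y (P.f j) = 0 := fun j hj =>
    ⟨P.B_zero_comm (hy' j hj).1, P.B_zero_comm (hy' j hj).2⟩
  have h2 : P.B y z' = 0 := by
    have hxe : P.B x (P.e k) = 0 := P.B_zero_comm hek
    rw [show P.f k + z' + t • P.e k - P.f k = z' + t • P.e k by abel, map_add, map_smul, hxe, smul_zero,
      add_zero] at h1
    rw [hy, map_sub, map_smulₛₗ, LinearMap.sub_apply, LinearMap.smul_apply, h1, (hz k le_rfl).1, smul_zero,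
      sub_zero]
  rw [hz', map_sub, sub_eq_zero, map_sum] at h2
  rw [h2]
  refine Finset.sum_eq_zero fun j hj => ?_
  rw [map_add, map_smul, map_smul, (hye j (Finset.mem_filter.1 hj).2).1,
    (hye j (Finset.mem_filter.1 hj).2).2, smul_zero, smul_zero, add_zero]

omit hc in
/-- The last place. -/
theorem span_two (hm : 1 ≤ m) {l : Fin m} (hl : l.val + 1 = m) :
    first (K := K) P.e m = first (K := K) P.e l.val ⊔ Submodule.span K {P.e l} := by
  refine le_antisymm (first_le _ fun k _ => ?_) (sup_le (first_mono _ (by omega)) ?_)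
  · rcases Nat.lt_or_ge k.val l.val with h | h
    · exact Submodule.mem_sup_left (mem_first _ h)
    · rw [show k = l from Fin.ext (by omega)]
      exact Submodule.mem_sup_right (Submodule.mem_span_singleton_self _)
  · exact Submodule.span_le.2 (by rintro _ rfl; exact mem_first _ l.2)

/-- The other maximal subspace over the last but one. -/
def alt (l : Fin m) : Submodule K V := first (K := K) P.e l.val ⊔ Submodule.span K {P.f l}

omit [FiniteDimensional K V] hc in
theorem f_mem_alt (l : Fin m) : P.f l ∈ alt P l :=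
  Submodule.mem_sup_right (Submodule.mem_span_singleton_self _)

omit [FiniteDimensional K V] hc in
theorem first_le_alt (l : Fin m) : first (K := K) P.e l.val ≤ alt P l := le_sup_left

omit [FiniteDimensional K V] hc in
theorem B_el_alt {l : Fin m} {x : V} (hx : x ∈ alt P l) :
    x - P.B (P.e l) x • P.f l ∈ first (K := K) P.e l.val := by
  obtain ⟨y, hy, z, hz, rfl⟩ := Submodule.mem_sup.1 hx
  obtain ⟨a, rfl⟩ := Submodule.mem_span_singleton.1 hz
  rw [map_add, map_smul, P.B_ef, if_pos rfl,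
    (P.mem_perpE (i := l.val + 1)).1 (P.first_e_le_perpE _ _ hy) l (by omega), zero_add, smul_eq_mul,
    mul_one, add_sub_cancel_right]
  exact hy

omit [FiniteDimensional K V] hc in
theorem e_not_mem_alt (l : Fin m) : P.e l ∉ alt P l := fun h => by
  have h1 := B_el_alt P h
  rw [P.B_ee, zero_smul, sub_zero, e_mem_first_iff] at h1
  omega

omit [FiniteDimensional K V] hc in
theorem f_not_mem_first (l : Fin m) : P.f l ∉ first (K := K) P.e m := fun h => by
  simpa [P.B_ef] using (P.mem_perpE (i := m)).1 (P.first_e_le_perpE _ _ h) l l.2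

variable [Finite K] {d : ℕ} (hn : finrank K V = 2 * m + d)
include hn

/-- The totally singular subspaces invariant under the radical. -/
theorem invariant_cases {W : Submodule K V} (hTS : P.TS W)
    (hinv : ∀ g ∈ P.U, ∀ x ∈ W, P.φ g x ∈ W) :
    (∃ k ≤ m, W = first (K := K) P.e k) ∨
      ∃ l : Fin m, l.val + 1 = m ∧ P.c = 1 ∧ d = 0 ∧ W = alt P l := by
  classical
  obtain ⟨k, hk⟩ : ∃ k, k = Nat.findGreatest (fun k => first (K := K) P.e k ≤ W) m := ⟨_, rfl⟩
  have hkm : k ≤ m := hk ▸ Nat.findGreatest_le m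
  have hkW : first (K := K) P.e k ≤ W := hk ▸ Nat.findGreatest_spec (P := fun k => first (K := K) P.e k ≤ W)
    (Nat.zero_le m) (by rw [first_zero]; exact bot_le)
  by_cases hkl : k = m
  · subst hkl
    refine Or.inl ⟨k, le_rfl, le_antisymm (fun x hx => ?_) hkW⟩
    rw [← P.range_e_eq]
    exact P.aniso x (fun i => (hTS _ (hkW (mem_first _ i.2))).2 x hx) (hTS x hx).1
  obtain ⟨kk, rfl⟩ : ∃ kk : Fin m, k = kk.val := ⟨⟨k, by omega⟩, rfl⟩
  have hek : P.e kk ∉ W := fun h => by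
    have h1 := Nat.le_findGreatest (P := fun k => first (K := K) P.e k ≤ W) (n := m) (m := kk.val + 1)
      (by omega) (first_le _ fun j hj => by
        rcases Nat.lt_or_ge j.val kk.val with h' | h'
        · exact hkW (mem_first _ h')
        · rw [show j = kk from Fin.ext (by omega)]; exact h)
    omega
  have hWe : ∀ x ∈ W, ∀ j : Fin m, j.val < kk.val → P.B (P.e j) x = 0 := fun x hx j hj =>
    (hTS _ (hkW (mem_first _ hj))).2 x hx
  -- reduced vectors
  have red : ∀ x ∈ W, ∃ x' ∈ W, (∀ j : Fin m, j.val < kk.val → P.B (P.e j) x' = 0 ∧ P.B (P.f j) x' = 0) ∧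
      x - x' ∈ first (K := K) P.e kk.val := by
    intro x hx
    obtain ⟨x', hx', h⟩ := exists_proj P (Finset.univ.filter fun j : Fin m => j.val < kk.val) x
    have hd : x - x' ∈ first (K := K) P.e kk.val := by
      rw [hx', sub_sub_cancel]
      refine Submodule.sum_mem _ fun j hj => ?_
      have hj' := (Finset.mem_filter.1 hj).2
      rw [hWe x hx j hj', zero_smul, add_zero]
      exact Submodule.smul_mem _ _ (mem_first _ hj')
    refine ⟨x', ?_, fun j hj => h j (Finset.mem_filter.2 ⟨Finset.mem_univ _, hj⟩), hd⟩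
    have := W.sub_mem hx (hkW hd)
    rwa [sub_sub_cancel] at this
  have hzero : ∀ x ∈ W, (∀ j : Fin m, j.val < kk.val → P.B (P.e j) x = 0 ∧ P.B (P.f j) x = 0) →
      P.B (P.e kk) x = 0 → x = 0 := by
    intro x hx hp he
    have h1 : x ∈ Submodule.span K {P.e kk} := fixed_of_orth P hc hp he fun v hv => by
      obtain ⟨g, hgU, hge, hgf, hg⟩ := exists_move' P hv
      have h := hg x
      rw [he, zero_smul, sub_zero] at h
      obtain ⟨a, ha⟩ := Submodule.mem_span_singleton.1 h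
      have ha0 : a = 0 := by
        by_contra h0
        exact hek ((Submodule.smul_mem_iff _ h0).1 (ha ▸ W.sub_mem (hinv g hgU.1 x hx) hx))
      rw [ha0, zero_smul, eq_comm, sub_eq_zero] at ha
      have h2 := P.φ_B g x (P.f kk)
      rw [ha, hgf] at h2
      rw [map_sub, h2, sub_self]
    obtain ⟨s, rfl⟩ := Submodule.mem_span_singleton.1 h1
    rcases eq_or_ne s 0 with rfl | hs
    · rw [zero_smul]
    · exact absurd ((Submodule.smul_mem_iff _ hs).1 hx) hek
  by_cases hex : ∃ x ∈ W, (∀ j : Fin m, j.val < kk.val → P.B (P.e j) x = 0 ∧ P.B (P.f j) x = 0) ∧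
      P.B (P.e kk) x ≠ 0
  swap
  · push Not at hex
    refine Or.inl ⟨kk.val, hkm, le_antisymm (fun x hx => ?_) hkW⟩
    obtain ⟨x', hx', hp, hd⟩ := red x hx
    rwa [hzero x' hx' hp (hex x' hx' hp), sub_zero] at hd
  obtain ⟨x, hx, hp, ha⟩ := hex
  obtain ⟨x₀, hx₀⟩ : ∃ x₀, x₀ = (P.B (P.e kk) x)⁻¹ • x := ⟨_, rfl⟩
  have hx₀W : x₀ ∈ W := hx₀ ▸ W.smul_mem _ hx
  have hx₀e : P.B (P.e kk) x₀ = 1 := by rw [hx₀, map_smul, smul_eq_mul, inv_mul_cancel₀ ha]
  have hO : P.InO kk x₀ := ⟨(hTS _ hx₀W).1, hx₀e, fun j hj => by simp [hx₀, (hp j hj).1, (hp j hj).2]⟩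
  have huniq : ∀ v, P.InO kk v → v = x₀ := by
    intro v hv
    obtain ⟨g, hg, hgx⟩ := P.exists_move hO
    obtain ⟨h, hh, hhv⟩ := P.exists_move hv
    have h1 : P.φ (h * g⁻¹) x₀ = v := by rw [P.φ_mul_apply, ← hgx, P.φ_inv_apply, hhv]
    have h2 : v ∈ W := h1 ▸ hinv _ (mul_mem hh.1 (inv_mem hg.1)) x₀ hx₀W
    exact sub_eq_zero.1 (hzero _ (W.sub_mem h2 hx₀W) (fun j hj => by
      simp [(hv.2.2 j hj).1, (hv.2.2 j hj).2, (hO.2.2 j hj).1, (hO.2.2 j hj).2])
      (by rw [map_sub, hv.2.1, hx₀e, sub_self]))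
  have hfO : P.InO kk (P.f kk) := ⟨P.S_f _, by rw [P.B_ef, if_pos rfl], fun j hj =>
    ⟨by rw [P.B_ef, if_neg (Fin.ne_of_val_ne hj.ne)], P.B_ff _ _⟩⟩
  have hcard : Nat.card {v // P.InO kk v} = 1 := by
    haveI : Subsingleton {v // P.InO kk v} :=
      ⟨fun a b => Subtype.ext ((huniq _ a.2).trans (huniq _ b.2).symm)⟩
    haveI : Nonempty {v // P.InO kk v} := ⟨⟨_, hfO⟩⟩
    exact Nat.card_unique
  rw [P.card_InO hn kk, mul_eq_one, Nat.pow_eq_one] at hcard
  obtain ⟨hc1, hh⟩ := hcard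
  have hq : Nat.card K ≠ 1 := (Finite.one_lt_card (α := K)).ne'
  have hexp : 2 * (m - (kk.val + 1)) + d = 0 := by
    exact hh.resolve_left hq
  refine Or.inr ⟨kk, by omega, hc1, by omega, le_antisymm (fun y hy => ?_) (sup_le hkW ?_)⟩
  · obtain ⟨y', hy', hp', hd⟩ := red y hy
    have h1 : y' - P.B (P.e kk) y' • P.f kk = 0 := by
      refine hzero _ (W.sub_mem hy' (W.smul_mem _ (huniq _ hfO ▸ hx₀W))) (fun j hj => ?_) ?_
      · simp [(hp' j hj).1, (hp' j hj).2, P.B_ff, P.B_ef, Fin.ne_of_val_ne hj.ne]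
      · simp [P.B_ef]
    rw [show y = (y - y') + y' by abel]
    refine add_mem (first_le_alt P kk hd) ?_
    rw [sub_eq_zero.1 h1]
    exact Submodule.smul_mem _ _ (f_mem_alt P kk)
  · exact Submodule.span_le.2 (by rintro _ rfl; exact huniq _ hfO ▸ hx₀W)

end CfsgLib.Chev.PMin.PolarLat
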