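import Cfsg.Agent.Lib.Chev.PMin.PolarFlags
import Cfsg.Agent.Lib.Chev.PMin.Lattice

/-!
The maximal overgroups of the unipotent subgroup of a classical group are stabilisers of subspaces.
-/

set_option autoImplicit false
set_option linter.unusedSectionVars false

namespace CfsgLib.Chev.PMin.PolarLat

open Module CfsgLib.KnownC.Steinberg CfsgLib.KnownC.Steinberg.Polar CfsgLib.Chev.Rigid

variable {K V Γ : Type*} [Field K] [AddCommGroup V] [Module K V] [Group Γ] {σ : K →+* K} {m : ℕ}
variable (P : Polar K V Γ σ m) [FiniteDimensional K V]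

local notation "π" => QuotientGroup.mk' (Subgroup.center Γ)

/-- The elements preserving a subspace. -/
def stab (W : Submodule K V) : Subgroup Γ where
  carrier := {g | (∀ x ∈ W, P.φ g x ∈ W) ∧ ∀ x ∈ W, P.φ g⁻¹ x ∈ W}
  one_mem' := by constructor <;> simp
  mul_mem' := fun {g h} hg hh =>
    ⟨fun x hx => by rw [P.φ_mul_apply]; exact hg.1 _ (hh.1 x hx), fun x hx => by
      rw [mul_inv_rev, P.φ_mul_apply]; exact hh.2 _ (hg.2 x hx)⟩
  inv_mem' := fun {g} hg => ⟨hg.2, by rw [inv_inv]; exact hg.1⟩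

theorem mem_stab {W : Submodule K V} {g : Γ} (h : ∀ x ∈ W, P.φ g x ∈ W) : g ∈ stab P W := by
  refine ⟨h, fun x hx => ?_⟩
  have e : W.map (P.φ g).toLinearMap = W := Submodule.eq_of_le_of_finrank_le
    (by rintro _ ⟨y, hy, rfl⟩; exact h y hy) (LinearEquiv.finrank_map_eq _ _).ge
  obtain ⟨y, hy, rfl⟩ := e.ge hx
  show P.φ g⁻¹ (P.φ g y) ∈ W
  rwa [P.φ_inv_apply]

theorem mem_stab_first {i : ℕ} {g : Γ} (h : ∀ k : Fin m, k.val < i → P.φ g (P.e k) ∈ first (K := K) P.e i) :
    g ∈ stab P (first (K := K) P.e i) := by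
  refine mem_stab P fun x hx => ?_
  obtain ⟨a, ha, rfl⟩ := exists_coeff _ hx
  rw [map_sum]
  refine Submodule.sum_mem _ fun k _ => ?_
  rw [map_smul]
  rcases Nat.lt_or_ge k.val i with hk | hk
  · exact Submodule.smul_mem _ _ (h k hk)
  · rw [ha k hk, zero_smul]; exact zero_mem _

/-- The places of the other maximal subspace. -/
def dAlt : W (m := m) := (1, fun j => decide (j.val + 1 ≠ m))

theorem alt_eq {l : Fin m} (hl : l.val + 1 = m) : alt P l = first (K := K) (P.av dAlt) m := by
  have hav : ∀ k : Fin m, P.av dAlt k = if k = l then P.f k else P.e k := fun k => by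
    simp only [Polar.av, dAlt, Equiv.Perm.one_apply, Polar.z]
    by_cases h : k = l
    · subst h; simp [hl]
    · rw [if_neg h]
      have : k.val + 1 ≠ m := fun e => h (Fin.ext (by omega))
      simp [this]
  refine le_antisymm (sup_le (first_le _ fun k hk => ?_) ?_) (first_le _ fun k _ => ?_)
  · have h := mem_first (K := K) (P.av dAlt) k.2
    rwa [hav, if_neg (fun e => by subst e; omega)] at h
  · rw [Submodule.span_le]
    rintro _ rfl
    have h := mem_first (K := K) (P.av dAlt) l.2
    rwa [hav, if_pos rfl] at h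
  · rw [hav]
    split_ifs with h
    · subst h; exact f_mem_alt P k
    · refine first_le_alt P l (mem_first _ ?_)
      have : k.val ≠ l.val := fun e => h (Fin.ext e)
      omega

theorem alt_ts {l : Fin m} (hl : l.val + 1 = m) : P.TS (alt P l) :=
  alt_eq P hl ▸ P.ts_span _ (fun _ => P.S_z _ _) fun i j => P.B_av dAlt i.1 j.1

theorem first_ts (i : ℕ) : P.TS (first (K := K) P.e i) :=
  P.ts_span _ (fun _ => P.S_e _) fun _ _ => P.B_ee _ _

/-- The list of subspaces. -/
noncomputable def Wi (plus : Prop) [Decidable plus] (i : Fin m) : Submodule K V :=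
  if h : plus ∧ i.val + 2 = m then alt P ⟨i.val + 1, by omega⟩ else first (K := K) P.e (i.val + 1)

theorem Wi_first {plus : Prop} [Decidable plus] {i : Fin m} (h : ¬ (plus ∧ i.val + 2 = m)) :
    Wi P plus i = first (K := K) P.e (i.val + 1) := dif_neg h

theorem Wi_alt {plus : Prop} [Decidable plus] {i l : Fin m} (h : plus) (hi : i.val + 2 = m)
    (hl : l.val + 1 = m) : Wi P plus i = alt P l := by
  rw [Wi, dif_pos ⟨h, hi⟩]
  congr 1
  exact Fin.ext (show i.val + 1 = l.val by omega)

/-- An element exchanging two adjacent frame vectors' lines. -/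
theorem exists_trans (hc : 1 ≤ P.c) {i j : Fin m} (hij : j.val = i.val + 1) :
    ∃ g, P.φ g (P.e i) = P.e i - P.e j ∧ ∀ t, t ≠ i → P.φ g (P.e t) = P.e t := by
  have hne : i ≠ j := Fin.ne_of_val_ne (by omega)
  obtain ⟨h, hA, hh⟩ := P.witt m le_rfl (fun t => P.e (Equiv.swap i j t))
    ((by have := P.av_li (dStd (m := m)); rwa [P.av_dStd] at this : LinearIndependent K P.e).comp _
      (Equiv.injective _)) (fun _ => P.S_e _) (fun _ _ => P.B_ee _ _)
  have hh' : ∀ t, h (P.e t) = P.e (Equiv.swap i j t) := fun t => hh t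
  have hsymm : ∀ t, h.symm (P.e t) = P.e (Equiv.swap i j t) := fun t => by
    rw [LinearEquiv.symm_apply_eq, hh', Equiv.swap_apply_self]
  have hv : P.InO i (P.f i + P.f j) := by
    refine ⟨P.S_add _ _ (P.S_f _) (P.S_f _) (P.B_ff _ _), by simp [P.B_ef, hne], fun t ht => ?_⟩
    simp [P.B_ef, P.B_ff, Fin.ne_of_val_ne (show t.val ≠ i.val by omega),
      Fin.ne_of_val_ne (show t.val ≠ j.val by omega)]
  obtain ⟨g, -, hge, hgf, hg⟩ := exists_move' P hv
  obtain ⟨g', hg'⟩ := P.φ_norm h hA g
  have happ : ∀ x, P.φ g' x = h (P.φ g (h.symm x)) := fun x => by rw [hg']; rfl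
  have he : ∀ t, t ≠ i → ∃ a : K, P.φ g (P.e t) = P.e t + a • P.e i ∧ σ a = -(if t = j then 1 else 0) := by
    intro t ht
    have h1 := hg (P.e t)
    rw [P.B_ee, zero_smul, sub_zero] at h1
    obtain ⟨a, ha⟩ := Submodule.mem_span_singleton.1 h1
    refine ⟨a, eq_add_of_sub_eq' ha.symm, ?_⟩
    have h2 := P.φ_B g (P.e t) (P.f i)
    rw [hgf, eq_add_of_sub_eq' ha.symm] at h2
    simp [P.B_ef, ht, hne] at h2
    rwa [add_comm, add_eq_zero_iff_eq_neg] at h2
  refine ⟨g', ?_, fun t ht => ?_⟩
  · rw [happ, hsymm, Equiv.swap_apply_left]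
    obtain ⟨a, ha, ha'⟩ := he j hne.symm
    rw [if_pos rfl, ← map_one σ, ← map_neg] at ha'
    rw [ha, σ.injective ha', map_add, map_smul, hh', hh', Equiv.swap_apply_right, Equiv.swap_apply_left,
      neg_one_smul, sub_eq_add_neg]
  · rw [happ, hsymm]
    rcases eq_or_ne t j with rfl | htj
    · rw [Equiv.swap_apply_right, hge, hh', Equiv.swap_apply_left]
    · rw [Equiv.swap_apply_of_ne_of_ne ht htj]
      obtain ⟨a, ha, ha'⟩ := he t ht
      rw [if_neg htj, neg_zero, map_eq_zero] at ha'
      rw [ha, ha', zero_smul, add_zero, hh', Equiv.swap_apply_of_ne_of_ne ht htj]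

theorem trans_spec {g : Γ} {i j : Fin m} (hij : j.val = i.val + 1) (hgi : P.φ g (P.e i) = P.e i - P.e j)
    (hg : ∀ t, t ≠ i → P.φ g (P.e t) = P.e t) :
    P.φ g (P.e i) ∉ first (K := K) P.e (i.val + 1) ∧
      ∀ k, k ≠ i.val + 1 → g ∈ stab P (first (K := K) P.e k) := by
  refine ⟨fun h => ?_, fun k hk => mem_stab_first P fun t ht => ?_⟩
  · rw [hgi] at h
    have := (e_mem_first_iff P).1 ((Submodule.sub_mem_iff_right _ (mem_first _ (by omega))).1 h)
    omega
  · rcases eq_or_ne t i with rfl | hti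
    · rw [hgi]; exact sub_mem (mem_first _ ht) (mem_first _ (by omega))
    · rw [hg t hti]; exact mem_first _ ht

variable (hc : 1 ≤ P.c) [Finite K] {d : ℕ} (hn : finrank K V = 2 * m + d)
include hc hn

/-- Over the last but one subspace there are just two maximal ones. -/
theorem max_over {l : Fin m} (hl : l.val + 1 = m) (hp : P.c = 1 ∧ d = 0) {W : Submodule K V}
    (hW : P.TS W) (hle : first (K := K) P.e l.val ≤ W) {x : V} (hx : x ∈ W) :
    x ∈ first (K := K) P.e m ∨ x ∈ alt P l := by
  obtain ⟨x', hx', h⟩ := exists_proj P (Finset.univ.filter fun j : Fin m => j.val < l.val) x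
  have hd : x - x' ∈ first (K := K) P.e l.val := by
    rw [hx', sub_sub_cancel]
    refine Submodule.sum_mem _ fun j hj => ?_
    have hj' := (Finset.mem_filter.1 hj).2
    rw [(hW _ (hle (mem_first _ hj'))).2 x hx, zero_smul, add_zero]
    exact Submodule.smul_mem _ _ (mem_first _ hj')
  have hx'W : x' ∈ W := by
    have := W.sub_mem hx (hle hd)
    rwa [sub_sub_cancel] at this
  have hp' : ∀ j : Fin m, j.val < l.val → P.B (P.e j) x' = 0 ∧ P.B (P.f j) x' = 0 :=
    fun j hj => h j (Finset.mem_filter.2 ⟨Finset.mem_univ _, hj⟩)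
  have hone : ∀ v, P.InO l v → v = P.f l := by
    have hcard : Nat.card {v // P.InO l v} = 1 := by
      rw [P.card_InO hn l, hp.1, hp.2, show 2 * (m - (l.val + 1)) + 0 = 0 by omega]; simp
    intro v hv
    haveI := (Nat.card_eq_one_iff_unique.1 hcard).1
    exact congrArg Subtype.val (Subsingleton.elim (⟨v, hv⟩ : {v // P.InO l v})
      ⟨P.f l, P.S_f _, by rw [P.B_ef, if_pos rfl], fun j hj =>
        ⟨by rw [P.B_ef, if_neg (Fin.ne_of_val_ne hj.ne)], P.B_ff _ _⟩⟩)
  rw [show x = (x - x') + x' by abel]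
  by_cases hb : P.B (P.e l) x' = 0
  · left
    refine add_mem (first_mono _ (by omega) hd) ?_
    rw [← P.range_e_eq]
    refine P.aniso x' (fun i => ?_) (hW _ hx'W).1
    rcases Nat.lt_or_ge i.val l.val with hi | hi
    · exact (hp' i hi).1
    · rw [show i = l from Fin.ext (by omega)]; exact hb
  · right
    refine add_mem (first_le_alt P l hd) ?_
    have := hone ((P.B (P.e l) x')⁻¹ • x') ⟨P.S_smul _ _ (hW _ hx'W).1, by simp [hb], fun j hj => by
      simp [(hp' j hj).1, (hp' j hj).2]⟩
    rw [inv_smul_eq_iff₀ hb] at this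
    rw [this]
    exact Submodule.smul_mem _ _ (f_mem_alt P l)

variable {plus : Prop} [Decidable plus] (hplus : plus ↔ P.c = 1 ∧ d = 0)
include hplus

/-- An element moving the maximal subspace and fixing the frame vectors under it. -/
theorem exists_last {l : Fin m} (hl : l.val + 1 = m) {v : V} (hv : P.InO l v) (hne : v ≠ P.f l) :
    ∃ g, (∀ t : Fin m, t.val < l.val → P.φ g (P.e t) = P.e t) ∧ P.φ g (P.e l) ∉ first (K := K) P.e m := by
  have hm : 1 ≤ m := by omega
  obtain ⟨h, hA, hh⟩ := P.witt m le_rfl (P.av dAlt) (P.av_li dAlt) (fun _ => P.S_z _ _)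
    (fun _ _ => P.B_av dAlt _ _)
  have hhl : h (P.e l) = P.f l := by
    have := hh l
    simpa [Polar.av, dAlt, Polar.z, hl] using this
  have hht : ∀ t : Fin m, t.val < l.val → h (P.e t) = P.e t := fun t ht => by
    have := hh t
    simpa [Polar.av, dAlt, Polar.z, show t.val + 1 ≠ m by omega] using this
  obtain ⟨w, hwU, -, hwf, -⟩ := exists_move' P hv
  obtain ⟨g, hg⟩ := P.φ_norm h⁻¹ (P.A.inv_mem hA) w
  have happ : ∀ x, P.φ g x = h.symm (P.φ w (h x)) := fun x => by rw [hg, inv_inv]; rfl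
  refine ⟨g, fun t ht => ?_, fun hmem => ?_⟩
  · rw [happ, hht t ht, (hwU.2 t ht).1, LinearEquiv.symm_apply_eq, hht t ht]
  · rw [span_two P hm hl] at hmem
    obtain ⟨y, hy, z, hz, hsum⟩ := Submodule.mem_sup.1 hmem
    obtain ⟨b, rfl⟩ := Submodule.mem_span_singleton.1 hz
    obtain ⟨a, ha, rfl⟩ := exists_coeff _ hy
    have hv' : v = ∑ k, a k • P.e k + b • P.f l := by
      rw [← hwf]
      have := congrArg h hsum.symm
      rw [happ, hhl, LinearEquiv.apply_symm_apply] at this
      rw [this, map_add, map_smul, hhl, map_sum]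
      congr 1
      refine Finset.sum_congr rfl fun k _ => ?_
      rw [map_smul]
      rcases Nat.lt_or_ge k.val l.val with hk | hk
      · rw [hht k hk]
      · rw [ha k hk, zero_smul, zero_smul]
    refine hne (hv'.trans ?_)
    have hb : b = 1 := by
      have := congrArg (P.B (P.e l)) hv'
      simpa [hv.2.1, P.B_ee, P.B_ef] using this.symm
    rw [hb, one_smul, add_eq_right]
    refine Finset.sum_eq_zero fun k _ => ?_
    rcases Nat.lt_or_ge k.val l.val with hk | hk
    · have := congrArg (P.B (P.f k)) hv'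
      simp [(hv.2.2 k hk).2, P.B_fe, P.B_ff, P.ε_ne] at this
      rw [this, zero_smul]
    · rw [ha k hk, zero_smul]

/-- The two maximal subspaces are preserved together with the one under them. -/
theorem stab_alt {l : Fin m} (hl : l.val + 1 = m) (hp : plus) {g : Γ}
    (h1 : g ∈ stab P (first (K := K) P.e l.val)) (hm' : g ∈ stab P (first (K := K) P.e m)) :
    g ∈ stab P (alt P l) := by
  refine mem_stab P fun x hx => ?_
  have hmap : P.φ g (P.f l) ∈ alt P l := by
    refine (max_over P hc hn hl (hplus.1 hp) (P.ts_map (P.φ_mem g) (alt_ts P hl)) (fun y hy => ?_)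
      ⟨_, f_mem_alt P l, rfl⟩).resolve_left fun h => f_not_mem_first P l ?_
    · exact ⟨P.φ g⁻¹ y, first_le_alt P l (h1.2 y hy), P.φ_apply_inv g y⟩
    · rw [← P.φ_inv_apply g (P.f l)]; exact hm'.2 _ h
  obtain ⟨y, hy, z, hz, rfl⟩ := Submodule.mem_sup.1 hx
  obtain ⟨a, rfl⟩ := Submodule.mem_span_singleton.1 hz
  rw [map_add, map_smul]
  exact add_mem (first_le_alt P l (h1.1 y hy)) (Submodule.smul_mem _ _ hmap)

/-- An element moving exactly one of the listed subspaces. -/
theorem exists_witness (h2 : plus → 2 ≤ m) (hfix : ∀ i : Fin m, ∃ v, P.InO i v ∧ (¬ plus → v ≠ P.f i))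
    (i : Fin m) :
    ∃ g, g ∉ stab P (Wi P plus i) ∧ ∀ j, j ≠ i → g ∈ stab P (Wi P plus j) := by
  have hm : 1 ≤ m := by have := i.2; omega
  obtain ⟨l, hl⟩ : ∃ l : Fin m, l.val + 1 = m := ⟨⟨m - 1, by omega⟩, by show m - 1 + 1 = m; omega⟩
  -- the transpositions
  have tr : ∀ i j : Fin m, j.val = i.val + 1 →
      ∃ g, g ∉ stab P (Wi P plus i) ∧ ∀ k, k ≠ i → g ∈ stab P (Wi P plus k) := by
    intro i j hij
    obtain ⟨g, hgi, hg⟩ := exists_trans P hc hij
    obtain ⟨hno, hst⟩ := trans_spec P hij hgi hg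
    refine ⟨g, fun h => ?_, fun k hk => ?_⟩
    · by_cases ha : plus ∧ i.val + 2 = m
      · rw [Wi_alt P ha.1 ha.2 hl] at h
        have h' := h.1 _ (first_le_alt P l (mem_first _ (show i.val < l.val by omega)))
        rw [hgi] at h'
        have h'' := (Submodule.sub_mem_iff_right _
          (first_le_alt P l (mem_first P.e (show i.val < l.val by omega)))).1 h'
        rw [show j = l from Fin.ext (by omega)] at h''
        exact e_not_mem_alt P l h''
      · rw [Wi_first P ha] at h
        exact hno (h.1 _ (mem_first _ (by omega)))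
    · by_cases ha : plus ∧ k.val + 2 = m
      · rw [Wi_alt P ha.1 ha.2 hl]
        refine stab_alt P hc hn hplus hl ha.1 (hst _ ?_) (hst _ ?_)
        · have : i.val ≠ k.val := fun e => hk (Fin.ext e.symm)
          omega
        · omega
      · rw [Wi_first P ha]
        exact hst _ (by have : i.val ≠ k.val := fun e => hk (Fin.ext e.symm); omega)
  rcases Nat.lt_or_ge (i.val + 1) m with him | him
  · exact tr i ⟨i.val + 1, him⟩ rfl
  obtain rfl : i = l := Fin.ext (by omega)
  -- the element exchanging the last pair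
  obtain ⟨h, hA, hh⟩ := P.witt m le_rfl (P.av dAlt) (P.av_li dAlt) (fun _ => P.S_z _ _)
    (fun _ _ => P.B_av dAlt _ _)
  have hhl : h (P.e i) = P.f i := by
    have := hh i
    simpa [Polar.av, dAlt, Polar.z, hl] using this
  have hht : ∀ t : Fin m, t.val < i.val → h (P.e t) = P.e t := fun t ht => by
    have := hh t
    simpa [Polar.av, dAlt, Polar.z, show t.val + 1 ≠ m by omega] using this
  have hst : ∀ t : Fin m, t.val < i.val → h.symm (P.e t) = P.e t := fun t ht => by
    rw [LinearEquiv.symm_apply_eq, hht t ht]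
  have hlow : ∀ k, k ≤ i.val → ∀ x ∈ first (K := K) P.e k, h x = x := fun k hk x hx => by
    obtain ⟨a, ha, rfl⟩ := exists_coeff _ hx
    rw [map_sum]
    refine Finset.sum_congr rfl fun t _ => ?_
    rw [map_smul]
    rcases Nat.lt_or_ge t.val k with h' | h'
    · rw [hht t (by omega)]
    · rw [ha t h', zero_smul, zero_smul]
  have himg : ∀ x ∈ first (K := K) P.e m, h x ∈ alt P i := fun x hx => by
    rw [span_two P hm hl] at hx
    obtain ⟨y, hy, z, hz, rfl⟩ := Submodule.mem_sup.1 hx
    obtain ⟨a, rfl⟩ := Submodule.mem_span_singleton.1 hz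
    rw [map_add, map_smul, hlow _ le_rfl y hy, hhl]
    exact add_mem (first_le_alt P i hy) (Submodule.smul_mem _ _ (f_mem_alt P i))
  have hiw : ∀ j, j ≠ i → ¬ (plus ∧ j.val + 2 = m) → j.val + 1 ≤ i.val := fun j hj _ => by
    have : j.val ≠ i.val := fun e => hj (Fin.ext e)
    omega
  by_cases hp : plus
  · -- conjugate the transposition below
    have hp2 := h2 hp
    obtain ⟨j, hj⟩ : ∃ j : Fin m, j.val + 2 = m := ⟨⟨m - 2, by omega⟩, by show m - 2 + 2 = m; omega⟩
    obtain ⟨w, hw, hw'⟩ := tr j i (by omega)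
    obtain ⟨g, hg⟩ := P.φ_norm h hA w
    have happ : ∀ x, P.φ g x = h (P.φ w (h.symm x)) := fun x => by rw [hg]; rfl
    have hWm : w ∈ stab P (first (K := K) P.e m) := by
      have := hw' i (fun e => by subst e; omega)
      rwa [Wi_first P (fun e => by omega), hl] at this
    rw [Wi_first P (fun e => by omega), hl]
    refine ⟨g, fun hgs => hw ?_, fun k hk => ?_⟩
    · rw [Wi_alt P hp hj hl]
      -- `h` carries the other maximal subspace back
      have hback : h.symm (P.e i) ∈ alt P i := by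
        refine (max_over P hc hn hl (hplus.1 hp) (P.ts_map (P.A.inv_mem hA) (first_ts P m))
          (fun y hy => ⟨y, first_mono _ (by omega) hy,
            (LinearEquiv.symm_apply_eq _).2 (hlow _ le_rfl y hy).symm⟩)
          ⟨P.e i, mem_first _ i.2, rfl⟩).resolve_left fun he => e_not_mem_alt P i ?_
        have : h (h.symm (P.e i)) ∈ alt P i := himg _ he
        rwa [LinearEquiv.apply_symm_apply] at this
      have hsym : ∀ x ∈ first (K := K) P.e m, h.symm x ∈ alt P i := fun x hx => by
        rw [span_two P hm hl] at hx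
        obtain ⟨y, hy, z, hz, rfl⟩ := Submodule.mem_sup.1 hx
        obtain ⟨a, rfl⟩ := Submodule.mem_span_singleton.1 hz
        rw [map_add, map_smul, (LinearEquiv.symm_apply_eq _).2 (hlow _ le_rfl y hy).symm]
        exact add_mem (first_le_alt P i hy) (Submodule.smul_mem _ _ hback)
      refine mem_stab P fun x hx => ?_
      have hxm : h x ∈ first (K := K) P.e m := by
        obtain ⟨y, hy, z, hz, rfl⟩ := Submodule.mem_sup.1 hx
        obtain ⟨a, rfl⟩ := Submodule.mem_span_singleton.1 hz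
        have hb := B_el_alt P hback
        have hb0 : P.B (P.e i) (h.symm (P.e i)) ≠ 0 := fun e => by
          rw [e, zero_smul, sub_zero] at hb
          have := hlow _ le_rfl _ hb
          rw [LinearEquiv.apply_symm_apply] at this
          rw [← this, e_mem_first_iff] at hb
          omega
        have h3 := hlow _ le_rfl _ hb
        rw [map_sub, map_smul, LinearEquiv.apply_symm_apply, sub_eq_iff_eq_add] at h3
        rw [map_add, map_smul, hlow _ le_rfl y hy]
        refine add_mem (first_mono _ (by omega) hy) (Submodule.smul_mem _ _ ?_)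
        have h4 : P.B (P.e i) (h.symm (P.e i)) • h (P.f i) ∈ first (K := K) P.e m := by
          rw [eq_sub_of_add_eq' h3.symm]
          exact sub_mem (mem_first _ i.2) (first_mono _ (by omega) hb)
        exact (Submodule.smul_mem_iff _ hb0).1 h4
      have h5 := hsym _ (hgs.1 _ hxm)
      rwa [happ, LinearEquiv.symm_apply_apply, LinearEquiv.symm_apply_apply] at h5
    · by_cases ha : plus ∧ k.val + 2 = m
      · rw [Wi_alt P ha.1 ha.2 hl]
        refine mem_stab P fun x hx => ?_
        obtain ⟨y, hy, z, hz, rfl⟩ := Submodule.mem_sup.1 hx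
        obtain ⟨a, rfl⟩ := Submodule.mem_span_singleton.1 hz
        rw [happ]
        refine himg _ (hWm.1 _ ?_)
        rw [map_add, map_smul, (LinearEquiv.symm_apply_eq _).2 (hlow _ le_rfl y hy).symm,
          (LinearEquiv.symm_apply_eq _).2 hhl.symm]
        exact add_mem (first_mono _ (by omega) hy) (Submodule.smul_mem _ _ (mem_first _ i.2))
      · rw [Wi_first P ha]
        have hk1 := hiw k hk ha
        refine mem_stab P fun x hx => ?_
        rw [happ, (LinearEquiv.symm_apply_eq _).2 (hlow _ hk1 x hx).symm]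
        have hw'' := hw' k fun e => by subst e; exact ha ⟨hp, hj⟩
        rw [Wi_first P ha] at hw''
        rw [hlow _ hk1 _ (hw''.1 x hx)]
        exact hw''.1 x hx
  · obtain ⟨v, hv, hvne⟩ := hfix i
    obtain ⟨g, hgt, hgi⟩ := exists_last P hc hn hplus hl hv (hvne hp)
    refine ⟨g, fun hgs => hgi ?_, fun k hk => ?_⟩
    · rw [Wi_first P (fun e => hp e.1), hl] at hgs
      exact hgs.1 _ (mem_first _ i.2)
    · rw [Wi_first P (fun e => hp e.1)]
      have hk1 := hiw k hk (fun e => hp e.1)
      refine mem_stab_first P fun t ht => ?_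
      rw [hgt t (by omega)]
      exact mem_first _ ht

/-- Fixing all the listed subspaces. -/
theorem conj_mem_U {g : Γ} (hg : ∀ i, g ∈ stab P (Wi P plus i)) {u : Γ} (hu : u ∈ P.U) :
    g * u * g⁻¹ ∈ P.U := by
  have hall : ∀ k, k ≤ m → g ∈ stab P (first (K := K) P.e k) := by
    intro k hk
    rcases Nat.eq_zero_or_pos k with rfl | hk0
    · exact mem_stab_first P fun t ht => absurd ht (by omega)
    obtain ⟨i, hi⟩ : ∃ i : Fin m, i.val + 1 = k := ⟨⟨k - 1, by omega⟩, by show k - 1 + 1 = k; omega⟩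
    by_cases ha : plus ∧ i.val + 2 = m
    · obtain ⟨l, hl⟩ : ∃ l : Fin m, l.val + 1 = m := ⟨⟨i.val + 1, by omega⟩, by show i.val + 1 + 1 = m; omega⟩
      have h1 := hg i
      rw [Wi_alt P ha.1 ha.2 hl] at h1
      have h2 := hg l
      rw [Wi_first P (fun e => by omega), hl] at h2
      refine mem_stab_first P fun t ht => ?_
      have e1 := h1.1 _ (first_le_alt P l (mem_first _ (by omega : t.val < l.val)))
      have e2 := h2.1 _ (mem_first _ t.2)
      have e3 := B_el_alt P e1
      rw [(P.mem_perpE (i := m)).1 (P.first_e_le_perpE _ _ e2) l l.2, zero_smul, sub_zero] at e3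
      rwa [show k = l.val by omega]
    · rw [← hi, ← Wi_first P ha]; exact hg i
  refine ⟨fun k => ?_, fun x hx => ?_⟩
  · have h1 := (hall (k.val + 1) k.2).2 _ (mem_first _ (Nat.lt_succ_self _))
    obtain ⟨a, ha, hsum⟩ := exists_coeff _ h1
    have h2 : P.φ u (P.φ g⁻¹ (P.e k)) - P.φ g⁻¹ (P.e k) ∈ first (K := K) P.e k.val := by
      rw [← hsum, map_sum, ← Finset.sum_sub_distrib]
      refine Submodule.sum_mem _ fun t _ => ?_
      rw [map_smul, ← smul_sub]
      rcases Nat.lt_or_ge t.val (k.val + 1) with ht | ht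
      · exact Submodule.smul_mem _ _ (first_mono _ (by omega) (hu.1 t))
      · rw [ha t ht, zero_smul]; exact zero_mem _
    have h3 := (hall k.val k.2.le).1 _ h2
    rwa [map_sub, P.φ_apply_inv, ← P.φ_mul_apply, ← P.φ_mul_apply] at h3
  · have h1 : ∀ i, P.B (P.e i) (P.φ g⁻¹ x) = 0 := fun i => by
      rw [← P.φ_B g, P.φ_apply_inv]
      obtain ⟨a, ha, hsum⟩ := exists_coeff _ ((hall m le_rfl).1 _ (mem_first _ i.2))
      rw [← hsum, map_sum, LinearMap.sum_apply]
      exact Finset.sum_eq_zero fun t _ => by rw [map_smulₛₗ, LinearMap.smul_apply, hx, smul_zero]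
    have h3 := (hall m le_rfl).1 _ (hu.2 _ h1)
    rwa [map_sub, P.φ_apply_inv, ← P.φ_mul_apply, ← P.φ_mul_apply] at h3

variable [Finite Γ] {p : ℕ} [Fact p.Prime] (o : Fin m) (h0 : o.val = 0)
  (hgen : 1 < P.c ∨ 2 < finrank K V) (S : Sylow p Γ) (hS : (S : Subgroup Γ) = P.U)
include h0 hgen hS

/-- The centre fixes the subspaces. -/
theorem center_le (i : Fin m) : Subgroup.center Γ ≤ stab P (Wi P plus i) := fun z hz => by
  have hm : 1 ≤ m := by have := i.2; omega
  have key : ∀ w : W (m := m), ∀ k, k ≤ m → z ∈ stab P (first (K := K) (P.av w) k) := fun w k hk => by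
    refine mem_stab P fun x hx => ?_
    have h := congrArg (fun c : P.Fl => c.F k) (P.center_fix hm hc hgen hz (P.chamber w))
    rw [P.smul_F, P.chamber_F w hk] at h
    exact h.le ⟨x, hx, rfl⟩
  unfold Wi
  split_ifs with h
  · rw [alt_eq P (by show i.val + 1 + 1 = m; omega)]; exact key dAlt m le_rfl
  · have := key dStd (i.val + 1) i.2
    rwa [P.av_dStd] at this

theorem mem_map_stab (i : Fin m) {g : Γ} :
    π g ∈ (stab P (Wi P plus i)).map π ↔ g ∈ stab P (Wi P plus i) := by
  refine ⟨?_, Subgroup.mem_map_of_mem _⟩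
  rintro ⟨g', hg', he⟩
  rw [show g = g' * (g'⁻¹ * g) by group]
  exact mul_mem hg' (center_le P hc hn hplus o h0 hgen S hS i (QuotientGroup.eq.1 he))

/-- A proper overgroup preserves one of the subspaces. -/
theorem cover [IsSimpleGroup (Γ ⧸ Subgroup.center Γ)]
    (hsw : plus → ∀ l : Fin m, l.val + 1 = m → ∀ g : Γ, ∃ x ∈ first (K := K) P.e m, P.φ g x ∉ alt P l)
    (h2 : plus → 2 ≤ m)
    {M : Subgroup (Γ ⧸ Subgroup.center Γ)} (hU : P.U.map π ≤ M) (hM : M ≠ ⊤) :
    ∃ i, M ≤ (stab P (Wi P plus i)).map π := by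
  have hm : 1 ≤ m := by have := o.2; omega
  have horth : ∀ g, π g ∈ M → P.B (P.e o) (P.φ g (P.e o)) = 0 := fun g hg =>
    by_contra fun hne => hM (PolarPoints.eq_top_of_mem P o hc hgen S hS h0 hU hg hne)
  let W' : Submodule K V := Submodule.span K (Set.range fun g : ↥(M.comap π) => P.φ g.1 (P.e o))
  have hTS : P.TS W' := P.ts_span _ (fun g => P.A_S _ (P.φ_mem _) _ (P.S_e o)) fun g g' => by
    rw [← P.φ_B g.1⁻¹, P.φ_inv_apply, ← P.φ_mul_apply]
    exact horth _ (by rw [map_mul, map_inv]; exact M.mul_mem (M.inv_mem g.2) g'.2)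
  have hinv : ∀ g, π g ∈ M → ∀ x ∈ W', P.φ g x ∈ W' := fun g hg x hx => by
    induction hx using Submodule.span_induction with
    | zero => rw [map_zero]; exact zero_mem _
    | add a b _ _ iha ihb => rw [map_add]; exact add_mem iha ihb
    | smul r a _ iha => rw [map_smul]; exact W'.smul_mem r iha
    | mem a ha =>
      obtain ⟨g', rfl⟩ := ha
      exact Submodule.subset_span ⟨⟨g * g'.1, by
        show π (g * g'.1) ∈ M
        rw [map_mul]; exact M.mul_mem hg g'.2⟩, by simp [P.φ_mul_apply]⟩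
  have heW : P.e o ∈ W' := Submodule.subset_span ⟨1, by simp⟩
  have done : ∀ i, (∀ g, π g ∈ M → g ∈ stab P (Wi P plus i)) → ∃ i, M ≤ (stab P (Wi P plus i)).map π :=
    fun i h => ⟨i, fun y hy => by
      obtain ⟨g, rfl⟩ := QuotientGroup.mk'_surjective (Subgroup.center Γ) y
      exact Subgroup.mem_map_of_mem _ (h g hy)⟩
  rcases invariant_cases P hc hn hTS (fun g hg => hinv g (hU (Subgroup.mem_map_of_mem _ hg))) with
    ⟨k, hk, hW⟩ | ⟨l, hl, hc1, hd, hW⟩
  · have hk0 : 1 ≤ k := by
      by_contra hk0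
      rw [show k = 0 by omega, first_zero] at hW
      rw [hW, Submodule.mem_bot] at heW
      exact e_ne_zero P o heW
    have hst : ∀ g, π g ∈ M → g ∈ stab P (first (K := K) P.e k) := fun g hg =>
      mem_stab P fun x hx => hW ▸ hinv g hg x (hW.symm ▸ hx)
    by_cases ha : plus ∧ k + 1 = m
    · -- the two maximal subspaces are not exchanged
      obtain ⟨l, hl⟩ : ∃ l : Fin m, l.val + 1 = m := ⟨⟨k, by omega⟩, ha.2⟩
      refine done l fun g hg => ?_
      rw [Wi_first P (fun e => by omega), hl]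
      have hst' : g ∈ stab P (first (K := K) P.e l.val) := by
        rw [show l.val = k by omega]; exact hst g hg
      have hmax : ∀ x ∈ first (K := K) P.e m, P.φ g x ∈ first (K := K) P.e m ∨ P.φ g x ∈ alt P l :=
        fun x hx => max_over P hc hn hl (hplus.1 ha.1) (P.ts_map (P.φ_mem g) (first_ts P m))
          (fun y hy => ⟨P.φ g⁻¹ y, first_mono _ (by omega) (hst'.2 y hy), P.φ_apply_inv g y⟩) ⟨x, hx, rfl⟩
      refine mem_stab P fun x hx => ?_
      rw [span_two P hm hl] at hx
      obtain ⟨y, hy, z, hz, rfl⟩ := Submodule.mem_sup.1 hx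
      obtain ⟨a, rfl⟩ := Submodule.mem_span_singleton.1 hz
      rw [map_add, map_smul]
      refine add_mem (first_mono _ (by omega) (hst'.1 y hy)) (Submodule.smul_mem _ _ ?_)
      refine (hmax _ (mem_first _ l.2)).resolve_right fun he => ?_
      obtain ⟨x', hx', hno⟩ := hsw ha.1 l hl g
      refine hno ?_
      rw [span_two P hm hl] at hx'
      obtain ⟨y', hy', z', hz', rfl⟩ := Submodule.mem_sup.1 hx'
      obtain ⟨a', rfl⟩ := Submodule.mem_span_singleton.1 hz'
      rw [map_add, map_smul]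
      exact add_mem (first_le_alt P l (hst'.1 y' hy')) (Submodule.smul_mem _ _ he)
    · refine done ⟨k - 1, by omega⟩ fun g hg => ?_
      rw [Wi_first P (fun e => ha ⟨e.1, by have := e.2; simp only at this; omega⟩)]
      simpa [show k - 1 + 1 = k by omega] using hst g hg
  · have hp : plus := hplus.2 ⟨hc1, hd⟩
    have := h2 hp
    refine done ⟨m - 2, by omega⟩ fun g hg => mem_stab P fun x hx => ?_
    rw [Wi_alt P hp (by show m - 2 + 2 = m; omega) hl, ← hW] at hx ⊢
    exact hinv g hg x hx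

/-- The lattice of a classical group. -/
theorem lat [IsSimpleGroup (Γ ⧸ Subgroup.center Γ)]
    (hsw : plus → ∀ l : Fin m, l.val + 1 = m → ∀ g : Γ, ∃ x ∈ first (K := K) P.e m, P.φ g x ∉ alt P l)
    (h2 : plus → 2 ≤ m) (hfix : ∀ i : Fin m, ∃ v, P.InO i v ∧ (¬ plus → v ≠ P.f i)) :
    Lat (P.U.map π) (fun i => (stab P (Wi P plus i)).map π) where
  le i := Subgroup.map_mono fun u hu => by
    unfold Wi
    split_ifs with h
    · refine stab_alt P hc hn hplus (l := ⟨i.val + 1, by omega⟩) (by show i.val + 1 + 1 = m; omega) h.1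
        (mem_stab P fun x hx => (hu.map_first P _).le ⟨x, hx, rfl⟩)
        (mem_stab P fun x hx => (hu.map_first P _).le ⟨x, hx, rfl⟩)
    · exact mem_stab P fun x hx => (hu.map_first P _).le ⟨x, hx, rfl⟩
  ne_top i := fun h => by
    obtain ⟨g, hg, -⟩ := exists_witness P hc hn hplus h2 hfix i
    exact hg ((mem_map_stab P hc hn hplus o h0 hgen S hS i).1 (h ▸ Subgroup.mem_top _))
  cover Q hQ hne := cover P hc hn hplus o h0 hgen S hS hsw h2 hQ hne
  wit i := by
    obtain ⟨g, hg, hg'⟩ := exists_witness P hc hn hplus h2 hfix i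
    exact ⟨π g, fun h => hg ((mem_map_stab P hc hn hplus o h0 hgen S hS i).1 h),
      fun j hj => Subgroup.mem_map_of_mem _ (hg' j hj)⟩
  inf_le x hx := by
    obtain ⟨g, rfl⟩ := QuotientGroup.mk'_surjective (Subgroup.center Γ) x
    have hg : ∀ i, g ∈ stab P (Wi P plus i) := fun i =>
      (mem_map_stab P hc hn hplus o h0 hgen S hS i).1 (hx i)
    refine Subgroup.mem_normalizer_iff.2 fun z => ⟨?_, ?_⟩
    · rintro ⟨u, hu, rfl⟩
      exact ⟨g * u * g⁻¹, conj_mem_U P hc hn hplus hg hu, by rw [map_mul, map_mul, map_inv]⟩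
    · rintro ⟨u, hu, he⟩
      refine ⟨g⁻¹ * u * g, ?_, ?_⟩
      · simpa using conj_mem_U P hc hn hplus (g := g⁻¹) (fun i => inv_mem (hg i)) hu
      · rw [map_mul, map_mul, map_inv, he]; group
  pos := by have := o.2; omega

end CfsgLib.Chev.PMin.PolarLat
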